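import Cfsg.Agent.Lib.Recog.FiNorm.Bounds
import Cfsg.Agent.Lib.Recog.FiM22.Identify

set_option autoImplicit false
set_option maxRecDepth 20000

/-!
Moving the normaliser facts to a group of type M(22) (owner: helper15).
-/

namespace CfsgLib.Recog.FiNorm

open Cfsg
open scoped Pointwise
open CfsgLib.Recog.SporBound.Fi22Group (a card_and_faithful finite_fi22)
open CfsgLib.Recog.SporBound.Fi22Aut (T T_act T_origin Row gr)

local notation "Fi" => Cfsg.Spor.Fi22

theorem range_T : Set.range T = conjugatesOf (a 0) := by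
  ext z
  constructor
  · rintro ⟨r, rfl⟩; exact isConj_iff.2 ⟨gr r, rfl⟩
  · intro hz
    obtain ⟨g, rfl⟩ := isConj_iff.1 hz
    exact ⟨_, T_act g⟩

universe u

variable {G : Type u} [Group G] {D : Set G}

/-- An identification carrying the transpositions onto the given class. -/
theorem exists_model [Finite G] (hD : IsThreeTranspositionGroup D) (hprim : IsPrimitiveUnderConj D)
    (ht : IsOfTypeM22 G D) : ∃ φ : Fi ≃* G, φ '' Set.range T = D := by
  obtain ⟨e, he⟩ := FiM22.identify_of_type hD hprim ht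
  exact ⟨e, by rw [range_T]; exact he⟩

theorem map_centralizer (φ : Fi ≃* G) (H : Subgroup Fi) :
    (Subgroup.centralizer (H : Set Fi)).map φ.toMonoidHom =
      Subgroup.centralizer ((H.map φ.toMonoidHom : Subgroup G) : Set G) := by
  ext z
  rw [Subgroup.mem_map_equiv, Subgroup.mem_centralizer_iff, Subgroup.mem_centralizer_iff]
  constructor
  · rintro h _ ⟨y, hy, rfl⟩
    have := congrArg φ (h y hy)
    simpa using this
  · intro h y hy
    have := congrArg φ.symm (h (φ y) ⟨y, hy, rfl⟩)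
    simpa using this

theorem map_normalizer (φ : Fi ≃* G) (H : Subgroup Fi) :
    (Subgroup.normalizer (H : Set Fi)).map φ.toMonoidHom =
      Subgroup.normalizer ((H.map φ.toMonoidHom : Subgroup G) : Set G) :=
  Subgroup.map_equiv_normalizer_eq H φ

theorem map_transpositions (φ : Fi ≃* G) (hφ : φ '' Set.range T = D) (H : Subgroup Fi) :
    (Subgroup.closure (Set.range T ∩ (Subgroup.centralizer (H : Set Fi) : Set Fi))).map φ.toMonoidHom =
      Subgroup.closure (D ∩ (Subgroup.centralizer ((H.map φ.toMonoidHom : Subgroup G) : Set G) : Set G)) := by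
  rw [MonoidHom.map_closure, ← map_centralizer, ← hφ, Subgroup.coe_map, MulEquiv.coe_toMonoidHom,
    Set.image_inter φ.injective]

theorem model_conj (hD : ∀ g : G, ∀ d ∈ D, g * d * g⁻¹ ∈ D) (φ : Fi ≃* G) (hφ : φ '' Set.range T = D) (g : G) :
    (φ.trans (MulAut.conj g)) '' Set.range T = D := by
  ext z
  constructor
  · rintro ⟨y, hy, rfl⟩
    exact hD g _ (hφ ▸ ⟨y, hy, rfl⟩)
  · intro hz
    have h1 : g⁻¹ * z * g⁻¹⁻¹ ∈ φ '' Set.range T := hφ ▸ hD g⁻¹ z hz
    obtain ⟨y, hy, e⟩ := h1
    refine ⟨y, hy, ?_⟩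
    show g * φ y * g⁻¹ = z
    rw [e]
    group

/-- Every subgroup of the order is an image of the standard one, once they are conjugate. -/
theorem exists_model_of_conj (hD : ∀ g : G, ∀ d ∈ D, g * d * g⁻¹ ∈ D) (φ : Fi ≃* G) (hφ : φ '' Set.range T = D)
    {X₀ : Subgroup Fi} {p : ℕ} (hX : Nat.card X₀ = p)
    (hconj : ∀ A B : Subgroup G, Nat.card A = p → Nat.card B = p →
      ∃ g : G, A.map (MulAut.conj g).toMonoidHom = B) {Y : Subgroup G} (hY : Nat.card Y = p) :
    ∃ ψ : Fi ≃* G, ψ '' Set.range T = D ∧ X₀.map ψ.toMonoidHom = Y := by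
  obtain ⟨g, hg⟩ := hconj (X₀.map φ.toMonoidHom) Y
    ((Subgroup.card_map_of_injective φ.injective).trans hX) hY
  refine ⟨φ.trans (MulAut.conj g), model_conj hD φ hφ g, ?_⟩
  rw [← hg, Subgroup.map_map]
  rfl

theorem card_of_model (φ : Fi ≃* G) : Nat.card G = 64561751654400 := by
  rw [← Nat.card_congr φ.toEquiv, card_and_faithful.1]

theorem map_conj_eq_smul {H : Type*} [Group H] (g : H) (A : Subgroup H) :
    A.map (MulAut.conj g).toMonoidHom = MulAut.conj g • A := rfl

/-- Subgroups of prime order are conjugate when the prime divides the order once. -/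
theorem conj_of_sylow [Finite G] {p : ℕ} (hp : p.Prime) (hpart : (Nat.card G).factorization p = 1)
    (A B : Subgroup G) (hA : Nat.card A = p) (hB : Nat.card B = p) :
    ∃ g : G, A.map (MulAut.conj g).toMonoidHom = B := by
  haveI := Fact.mk hp
  let P : Sylow p G := Sylow.ofCard A (by rw [hA, hpart, pow_one])
  let Q : Sylow p G := Sylow.ofCard B (by rw [hB, hpart, pow_one])
  obtain ⟨g, hg⟩ := MulAction.exists_smul_eq G P Q
  exact ⟨g, (map_conj_eq_smul g A).trans (congrArg (fun R : Sylow p G => (R : Subgroup G)) hg)⟩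

namespace NCert

variable {N : NCert}

/-- The normaliser as it reads in a group of type M(22). -/
theorem OK.shape [Finite G] (h : N.OK) (ψ : Fi ≃* G) (hψ : ψ '' Set.range T = D)
    (heq : F N ⊔ Sg N = Subgroup.normalizer ((X N : Subgroup Fi) : Set Fi)) {Y : Subgroup G}
    (hY : (X N).map ψ.toMonoidHom = Y) :
    ∃ F' : Subgroup G, Nat.card ↥F' = N.p * N.m ∧ Y ≤ F' ∧
      F' ⊓ Subgroup.centralizer ((Y : Subgroup G) : Set G) = Y ∧
      F' ⊓ Subgroup.closure (D ∩ (Subgroup.centralizer ((Y : Subgroup G) : Set G) : Set G)) = ⊥ ∧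
      (∀ x ∈ F', ∀ y ∈ Subgroup.closure (D ∩ (Subgroup.centralizer ((Y : Subgroup G) : Set G) : Set G)), x * y = y * x) ∧
      F' ⊔ Subgroup.closure (D ∩ (Subgroup.centralizer ((Y : Subgroup G) : Set G) : Set G)) =
        Subgroup.normalizer ((Y : Subgroup G) : Set G) ∧
      Nonempty (↥(Sg N) ≃* ↥(Subgroup.closure (D ∩ (Subgroup.centralizer ((Y : Subgroup G) : Set G) : Set G)))) := by
  subst hY
  have hS : (Sg N).map ψ.toMonoidHom =
      Subgroup.closure (D ∩ (Subgroup.centralizer (((X N).map ψ.toMonoidHom : Subgroup G) : Set G) : Set G)) := by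
    rw [← map_transpositions ψ hψ, h.transpositions_eq]
  rw [← hS]
  refine ⟨(F N).map ψ.toMonoidHom, (Subgroup.card_map_of_injective ψ.injective).trans h.card_F,
    Subgroup.map_mono le_sup_left, ?_, ?_, ?_, ?_, ⟨ψ.subgroupMap (Sg N)⟩⟩
  · rw [← map_centralizer, ← Subgroup.map_inf _ _ _ ψ.injective, h.F_inf_centralizer]
  · rw [← Subgroup.map_inf _ _ _ ψ.injective, h.F_inf_Sg, Subgroup.map_bot]
  · rintro _ ⟨x, hx, rfl⟩ _ ⟨y, hy, rfl⟩
    rw [← map_mul, ← map_mul, h.comm_F_Sg hx hy]
  · rw [← Subgroup.map_sup, heq, map_normalizer]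

end NCert

end CfsgLib.Recog.FiNorm
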