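import Cfsg.Agent.Lib.Recog.FiNorm.Bounds
import Cfsg.Agent.Lib.Recog.FiNorm.Data11

set_option autoImplicit false
set_option maxRecDepth 100000
set_option Elab.async false

/-! The count of survivors for the normaliser of an element of order 11 in Fi22 (owner: helper15). -/

namespace CfsgLib.Recog.FiNorm.P11

theorem count_one_0 : cert.toCert.countPart 1 0 0 = true := by decide +kernel

theorem count_one_1 : cert.toCert.countPart 1 1 0 = true := by decide +kernel

theorem count_one_2 : cert.toCert.countPart 1 2 2 = true := by decide +kernel

theorem count_one_3 : cert.toCert.countPart 1 3 3 = true := by decide +kernel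

theorem count_one_4 : cert.toCert.countPart 1 4 4 = true := by decide +kernel

theorem count_one_5 : cert.toCert.countPart 1 5 0 = true := by decide +kernel

theorem count_one_6 : cert.toCert.countPart 1 6 3 = true := by decide +kernel

theorem count_one_7 : cert.toCert.countPart 1 7 1 = true := by decide +kernel

theorem count_one_8 : cert.toCert.countPart 1 8 3 = true := by decide +kernel

theorem count_one_9 : cert.toCert.countPart 1 9 2 = true := by decide +kernel

theorem count_one_10 : cert.toCert.countPart 1 10 2 = true := by decide +kernel

theorem count_one_11 : cert.toCert.countPart 1 11 2 = true := by decide +kernel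

theorem count_one_12 : cert.toCert.countPart 1 12 0 = true := by decide +kernel

theorem count_one : cert.toCert.countOK 1 22 = true := by
  refine Cert.countOK_of_parts [0, 0, 2, 3, 4, 0, 3, 1, 3, 2, 2, 2, 0] (fun i hi => ?_) (by decide)
  interval_cases i
  exacts [count_one_0, count_one_1, count_one_2, count_one_3, count_one_4, count_one_5, count_one_6, count_one_7, count_one_8, count_one_9, count_one_10, count_one_11, count_one_12]

end CfsgLib.Recog.FiNorm.P11
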