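import Cfsg.Agent.Lib.Recog.FiNorm.Normalizer

set_option autoImplicit false
set_option maxRecDepth 100000

/-! Data for the normaliser of an element of order 13 in Fi22 (owner: helper15). -/

namespace CfsgLib.Recog.FiNorm.P13

def xTree0 : SporBound.Q ℕ := (.node (.node (.node (.node (.leaf 2) (.leaf 1641) (.leaf 2201) (.leaf 3275)) (.node (.leaf 568) (.leaf 1328) (.leaf 2020) (.leaf 3086)) (.node (.leaf 1397) (.leaf 2581) (.leaf 2184) (.leaf 0)) (.node (.leaf 1161) (.leaf 2272) (.leaf 1718) (.leaf 0))) (.node (.node (.leaf 72) (.leaf 935) (.leaf 2337) (.leaf 3362)) (.node (.leaf 218) (.leaf 655) (.leaf 2690) (.leaf 3323)) (.node (.leaf 1064) (.leaf 2015) (.leaf 2703) (.leaf 0)) (.node (.leaf 497) (.leaf 1881) (.leaf 2850) (.leaf 0))) (.node (.node (.leaf 141) (.leaf 1887) (.leaf 2654) (.leaf 1473)) (.node (.leaf 406) (.leaf 2326) (.leaf 2592) (.leaf 3411)) (.node (.leaf 341) (.leaf 1863) (.leaf 1765) (.leaf 0)) (.node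 (.leaf 1453) (.leaf 2123) (.leaf 2856) (.leaf 0))) (.node (.node (.leaf 74) (.leaf 631) (.leaf 2265) (.leaf 3350)) (.node (.leaf 294) (.leaf 1940) (.leaf 2211) (.leaf 0)) (.node (.leaf 842) (.leaf 2808) (.leaf 2798) (.leaf 0)) (.node (.leaf 456) (.leaf 2204) (.leaf 2395) (.leaf 0)))) (.node (.node (.node (.leaf 33) (.leaf 630) (.leaf 2607) (.leaf 2419)) (.node (.leaf 280) (.leaf 1103) (.leaf 2842) (.leaf 3319)) (.node (.leaf 563) (.leaf 2146) (.leaf 1633) (.leaf 0)) (.node (.leaf 1342) (.leaf 2385) (.leaf 3029) (.leaf 0))) (.node (.node (.leaf 127) (.leaf 1520) (.leaf 1709) (.leaf 3105)) (.node (.leaf 331) (.leaf 1862) (.leaf 2261) (.leaf 3236)) (.node (.leaf 227) (.leaf 2319) (.leaf 3190) (.leaf 0)) (.node (.leaf 723) (.leaf 1614) (.leaf 2069) (.leaf 0))) (.node (.node (.leaf 154) (.leaf 2163) (.leaf 2052) (.leaf 3401)) (.node (.leaf 1211) (.leaf 1500) (.leaf 3018) (.leaf 2790)) (.node (.leaf 259) (.leaf 1303) (.leaf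 2254) (.leaf 0)) (.node (.leaf 832) (.leaf 3030) (.leaf 1979) (.leaf 0))) (.node (.node (.leaf 576) (.leaf 923) (.leaf 2641) (.leaf 2444)) (.node (.leaf 742) (.leaf 952) (.leaf 1798) (.leaf 0)) (.node (.leaf 1205) (.leaf 1732) (.leaf 2670) (.leaf 0)) (.node (.leaf 1068) (.leaf 1711) (.leaf 3456) (.leaf 0)))) (.node (.node (.node (.leaf 110) (.leaf 893) (.leaf 2344) (.leaf 3378)) (.node (.leaf 554) (.leaf 476) (.leaf 2841) (.leaf 3026)) (.node (.leaf 1168) (.leaf 1833) (.leaf 1859) (.leaf 0)) (.node (.leaf 1693) (.leaf 2555) (.leaf 3426) (.leaf 0))) (.node (.node (.leaf 51) (.leaf 1138) (.leaf 2889) (.leaf 3229)) (.node (.leaf 607) (.leaf 1752) (.leaf 1978) (.leaf 3438)) (.node (.leaf 324) (.leaf 2339) (.leaf 2596) (.leaf 0)) (.node (.leaf 599) (.leaf 2066) (.leaf 2407) (.leaf 0))) (.node (.node (.leaf 87) (.leaf 1175) (.leaf 2373) (.leaf 3482)) (.node (.leaf 169) (.leaf 1965) (.leaf 2405) (.leaf 2994)) (.node (.leaf 1427)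 (.leaf 1758) (.leaf 2796) (.leaf 0)) (.node (.leaf 1302) (.leaf 1734) (.leaf 2532) (.leaf 0))) (.node (.node (.leaf 186) (.leaf 1130) (.leaf 2380) (.leaf 3434)) (.node (.leaf 664) (.leaf 2275) (.leaf 1184) (.leaf 0)) (.node (.leaf 482) (.leaf 1424) (.leaf 2148) (.leaf 0)) (.node (.leaf 781) (.leaf 1477) (.leaf 2463) (.leaf 0)))) (.node (.node (.node (.leaf 191) (.leaf 1025) (.leaf 1214) (.leaf 3282)) (.node (.leaf 329) (.leaf 1678) (.leaf 3160) (.leaf 3291)) (.node (.leaf 753) (.leaf 918) (.leaf 2615) (.leaf 0)) (.node (.leaf 581) (.leaf 1725) (.leaf 1761) (.leaf 0))) (.node (.node (.leaf 156) (.leaf 1151) (.leaf 1347) (.leaf 2271)) (.node (.leaf 933) (.leaf 2230) (.leaf 3054) (.leaf 3129)) (.node (.leaf 197) (.leaf 1267) (.leaf 2301) (.leaf 0)) (.node (.leaf 1384) (.leaf 1960) (.leaf 3448) (.leaf 0))) (.node (.node (.leaf 237) (.leaf 1192) (.leaf 1433) (.leaf 3195)) (.node (.leaf 744) (.leaf 1716) (.leaf 2455) (.leaf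 3508)) (.node (.leaf 1003) (.leaf 1345) (.leaf 2336) (.leaf 0)) (.node (.leaf 1330) (.leaf 1013) (.leaf 3292) (.leaf 0))) (.node (.node (.leaf 167) (.leaf 1637) (.leaf 2674) (.leaf 3115)) (.node (.leaf 311) (.leaf 1297) (.leaf 2517) (.leaf 0)) (.node (.leaf 626) (.leaf 1456) (.leaf 3247) (.leaf 0)) (.node (.leaf 1183) (.leaf 2075) (.leaf 2723) (.leaf 0)))))

def xTree1 : SporBound.Q ℕ := (.node (.node (.node (.node (.leaf 13) (.leaf 1070) (.leaf 1919) (.leaf 2525)) (.node (.leaf 224) (.leaf 1136) (.leaf 3145) (.leaf 3036)) (.node (.leaf 729) (.leaf 2003) (.leaf 2024) (.leaf 0)) (.node (.leaf 1127) (.leaf 1550) (.leaf 3117) (.leaf 0))) (.node (.node (.leaf 108) (.leaf 876) (.leaf 2404) (.leaf 1884)) (.node (.leaf 718) (.leaf 830) (.leaf 1854) (.leaf 3019)) (.node (.leaf 1110) (.leaf 2714) (.leaf 1701) (.leaf 0)) (.node (.leaf 1348) (.leaf 878) (.leaf 2865) (.leaf 0))) (.node (.node (.leaf 230) (.leaf 650) (.leaf 2415) (.leaf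 3313)) (.node (.leaf 337) (.leaf 2323) (.leaf 3169) (.leaf 2799)) (.node (.leaf 1128) (.leaf 2086) (.leaf 2114) (.leaf 0)) (.node (.leaf 603) (.leaf 2845) (.leaf 3217) (.leaf 0))) (.node (.node (.leaf 132) (.leaf 1615) (.leaf 1564) (.leaf 3489)) (.node (.leaf 1360) (.leaf 1385) (.leaf 2181) (.leaf 0)) (.node (.leaf 921) (.leaf 2370) (.leaf 2194) (.leaf 0)) (.node (.leaf 1503) (.leaf 2563) (.leaf 3364) (.leaf 0)))) (.node (.node (.node (.leaf 20) (.leaf 1557) (.leaf 1893) (.leaf 1933)) (.node (.leaf 345) (.leaf 2305) (.leaf 1760) (.leaf 3475)) (.node (.leaf 332) (.leaf 831) (.leaf 1547) (.leaf 0)) (.node (.leaf 1141) (.leaf 2622) (.leaf 2645) (.leaf 0))) (.node (.node (.leaf 48) (.leaf 1492) (.leaf 1174) (.leaf 3492)) (.node (.leaf 673) (.leaf 1190) (.leaf 2133) (.leaf 3139)) (.node (.leaf 1186) (.leaf 1546) (.leaf 1816) (.leaf 0)) (.node (.leaf 852) (.leaf 2548) (.leaf 2574) (.leaf 0))) (.node (.node (.leaf 94) (.leaf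 684) (.leaf 3232) (.leaf 3013)) (.node (.leaf 459) (.leaf 562) (.leaf 3303) (.leaf 3238)) (.node (.leaf 570) (.leaf 1280) (.leaf 2780) (.leaf 0)) (.node (.leaf 1526) (.leaf 2137) (.leaf 2361) (.leaf 0))) (.node (.node (.leaf 183) (.leaf 2094) (.leaf 2505) (.leaf 3283)) (.node (.leaf 394) (.leaf 1096) (.leaf 2870) (.leaf 0)) (.node (.leaf 785) (.leaf 2106) (.leaf 2844) (.leaf 0)) (.node (.leaf 458) (.leaf 2352) (.leaf 2626) (.leaf 0)))) (.node (.node (.node (.leaf 54) (.leaf 732) (.leaf 1812) (.leaf 3311)) (.node (.leaf 300) (.leaf 323) (.leaf 1865) (.leaf 3472)) (.node (.leaf 175) (.leaf 1243) (.leaf 2601) (.leaf 0)) (.node (.leaf 702) (.leaf 1735) (.leaf 2278) (.leaf 0))) (.node (.node (.leaf 274) (.leaf 611) (.leaf 2863) (.leaf 3381)) (.node (.leaf 494) (.leaf 836) (.leaf 2406) (.leaf 3106)) (.node (.leaf 602) (.leaf 1259) (.leaf 3100) (.leaf 0)) (.node (.leaf 595) (.leaf 2055) (.leaf 3072) (.leaf 0))) (.node (.node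 (.leaf 344) (.leaf 2448) (.leaf 1723) (.leaf 3137)) (.node (.leaf 888) (.leaf 788) (.leaf 3385) (.leaf 3293)) (.node (.leaf 821) (.leaf 2039) (.leaf 2494) (.leaf 0)) (.node (.leaf 945) (.leaf 1081) (.leaf 2849) (.leaf 0))) (.node (.node (.leaf 604) (.leaf 448) (.leaf 1434) (.leaf 1670)) (.node (.leaf 666) (.leaf 1371) (.leaf 2784) (.leaf 0)) (.node (.leaf 1570) (.leaf 1252) (.leaf 2820) (.leaf 0)) (.node (.leaf 2383) (.leaf 1929) (.leaf 3406) (.leaf 0)))) (.node (.node (.node (.leaf 39) (.leaf 1126) (.leaf 3082) (.leaf 2213)) (.node (.leaf 338) (.leaf 1683) (.leaf 2378) (.leaf 3316)) (.node (.leaf 295) (.leaf 1665) (.leaf 2652) (.leaf 0)) (.node (.leaf 986) (.leaf 3261) (.leaf 2942) (.leaf 0))) (.node (.node (.leaf 19) (.leaf 703) (.leaf 2028) (.leaf 3200)) (.node (.leaf 145) (.leaf 1975) (.leaf 1790) (.leaf 3220)) (.node (.leaf 917) (.leaf 1323) (.leaf 2374) (.leaf 0)) (.node (.leaf 719) (.leaf 2138) (.leaf 1855) (.leaf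 0))) (.node (.node (.leaf 40) (.leaf 1573) (.leaf 1740) (.leaf 2749)) (.node (.leaf 549) (.leaf 1410) (.leaf 3339) (.leaf 3389)) (.node (.leaf 1105) (.leaf 2650) (.leaf 2890) (.leaf 0)) (.node (.leaf 653) (.leaf 1943) (.leaf 2853) (.leaf 0))) (.node (.node (.leaf 268) (.leaf 1275) (.leaf 3182) (.leaf 3347)) (.node (.leaf 1154) (.leaf 1913) (.leaf 2981) (.leaf 0)) (.node (.leaf 1333) (.leaf 1478) (.leaf 3188) (.leaf 0)) (.node (.leaf 1253) (.leaf 3155) (.leaf 3042) (.leaf 0)))))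

def xTree2 : SporBound.Q ℕ := (.node (.node (.node (.node (.leaf 8) (.leaf 1087) (.leaf 3315) (.leaf 3358)) (.node (.leaf 248) (.leaf 1336) (.leaf 1948) (.leaf 3467)) (.node (.leaf 731) (.leaf 1475) (.leaf 2912) (.leaf 0)) (.node (.leaf 393) (.leaf 1398) (.leaf 2909) (.leaf 0))) (.node (.node (.leaf 84) (.leaf 1946) (.leaf 1981) (.leaf 3077)) (.node (.leaf 720) (.leaf 2136) (.leaf 867) (.leaf 3469)) (.node (.leaf 768) (.leaf 3098) (.leaf 3325) (.leaf 0)) (.node (.leaf 934) (.leaf 1880) (.leaf 1892) (.leaf 0))) (.node (.node (.leaf 142) (.leaf 971) (.leaf 1595) (.leaf 2535)) (.node (.leaf 654) (.leaf 2143) (.leaf 1666) (.leaf 3423)) (.node (.leaf 873) (.leaf 2048) (.leaf 2653) (.leaf 0)) (.node (.leaf 2302) (.leaf 1583) (.leaf 2023) (.leaf 0))) (.node (.node (.leaf 524) (.leaf 949) (.leaf 2894) (.leaf 2782)) (.node (.leaf 926) (.leaf 1706) (.leaf 2393) (.leaf 0)) (.node (.leaf 1092) (.leaf 1703) (.leaf 1808) (.leaf 0))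 (.node (.leaf 1318) (.leaf 2490) (.leaf 2848) (.leaf 0)))) (.node (.node (.node (.leaf 9) (.leaf 1104) (.leaf 1604) (.leaf 3369)) (.node (.leaf 589) (.leaf 663) (.leaf 1961) (.leaf 2528)) (.node (.leaf 1230) (.leaf 2149) (.leaf 3059) (.leaf 0)) (.node (.leaf 298) (.leaf 2025) (.leaf 3216) (.leaf 0))) (.node (.node (.leaf 126) (.leaf 823) (.leaf 1423) (.leaf 2590)) (.node (.leaf 172) (.leaf 1728) (.leaf 2359) (.leaf 3509)) (.node (.leaf 687) (.leaf 1310) (.leaf 2144) (.leaf 0)) (.node (.leaf 697) (.leaf 1396) (.leaf 3340) (.leaf 0))) (.node (.node (.leaf 210) (.leaf 1029) (.leaf 2054) (.leaf 3177)) (.node (.leaf 343) (.leaf 1469) (.leaf 1811) (.leaf 3150)) (.node (.leaf 588) (.leaf 1304) (.leaf 3088) (.leaf 0)) (.node (.leaf 1140) (.leaf 1902) (.leaf 3024) (.leaf 0))) (.node (.node (.leaf 247) (.leaf 2070) (.leaf 1916) (.leaf 3157)) (.node (.leaf 365) (.leaf 1315) (.leaf 3343) (.leaf 0)) (.node (.leaf 853) (.leaf 1585)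 (.leaf 1829) (.leaf 0)) (.node (.leaf 870) (.leaf 1114) (.leaf 1700) (.leaf 0)))) (.node (.node (.node (.leaf 30) (.leaf 763) (.leaf 3300) (.leaf 1794)) (.node (.leaf 289) (.leaf 1159) (.leaf 1947) (.leaf 3294)) (.node (.leaf 690) (.leaf 1589) (.leaf 2746) (.leaf 0)) (.node (.leaf 514) (.leaf 2111) (.leaf 2689) (.leaf 0))) (.node (.node (.leaf 225) (.leaf 529) (.leaf 2602) (.leaf 2901)) (.node (.leaf 373) (.leaf 879) (.leaf 1558) (.leaf 3436)) (.node (.leaf 628) (.leaf 1446) (.leaf 2497) (.leaf 0)) (.node (.leaf 2296) (.leaf 1719) (.leaf 3110) (.leaf 0))) (.node (.node (.leaf 428) (.leaf 2082) (.leaf 1810) (.leaf 3387)) (.node (.leaf 453) (.leaf 1059) (.leaf 1218) (.leaf 2923)) (.node (.leaf 503) (.leaf 1037) (.leaf 2791) (.leaf 0)) (.node (.leaf 1120) (.leaf 2007) (.leaf 3465) (.leaf 0))) (.node (.node (.leaf 67) (.leaf 1004) (.leaf 2646) (.leaf 2832)) (.node (.leaf 1147) (.leaf 1507) (.leaf 2961) (.leaf 0)) (.node (.leaf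 838) (.leaf 2076) (.leaf 1634) (.leaf 0)) (.node (.leaf 995) (.leaf 2057) (.leaf 2310) (.leaf 0)))) (.node (.node (.node (.leaf 47) (.leaf 569) (.leaf 897) (.leaf 2759)) (.node (.leaf 658) (.leaf 790) (.leaf 2499) (.leaf 3051)) (.node (.leaf 187) (.leaf 2518) (.leaf 1911) (.leaf 0)) (.node (.leaf 1056) (.leaf 2081) (.leaf 2513) (.leaf 0))) (.node (.node (.leaf 194) (.leaf 857) (.leaf 2159) (.leaf 2993)) (.node (.leaf 272) (.leaf 1379) (.leaf 1624) (.leaf 2813)) (.node (.leaf 814) (.leaf 2156) (.leaf 2468) (.leaf 0)) (.node (.leaf 632) (.leaf 2364) (.leaf 2386) (.leaf 0))) (.node (.node (.leaf 236) (.leaf 558) (.leaf 2931) (.leaf 3479)) (.node (.leaf 275) (.leaf 1778) (.leaf 2552) (.leaf 3485)) (.node (.leaf 1639) (.leaf 1799) (.leaf 3037) (.leaf 0)) (.node (.leaf 484) (.leaf 2085) (.leaf 2694) (.leaf 0))) (.node (.node (.leaf 209) (.leaf 1122) (.leaf 1924) (.leaf 2822)) (.node (.leaf 515) (.leaf 1532) (.leaf 2461) (.leaf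 0)) (.node (.leaf 643) (.leaf 1934) (.leaf 2706) (.leaf 0)) (.node (.leaf 1257) (.leaf 2328) (.leaf 3341) (.leaf 0)))))

def xTree3 : SporBound.Q ℕ := (.node (.node (.node (.node (.leaf 12) (.leaf 1019) (.leaf 2353) (.leaf 2756)) (.node (.leaf 291) (.leaf 796) (.leaf 1964) (.leaf 2466)) (.node (.leaf 1223) (.leaf 2134) (.leaf 2564) (.leaf 0)) (.node (.leaf 648) (.leaf 1551) (.leaf 1996) (.leaf 0))) (.node (.node (.leaf 10) (.leaf 2217) (.leaf 1501) (.leaf 2878)) (.node (.leaf 143) (.leaf 1355) (.leaf 2609) (.leaf 2536)) (.node (.leaf 1657) (.leaf 2762) (.leaf 2680) (.leaf 0)) (.node (.leaf 2193) (.leaf 2898) (.leaf 2914) (.leaf 0))) (.node (.node (.leaf 152) (.leaf 1038) (.leaf 1654) (.leaf 3178)) (.node (.leaf 676) (.leaf 1319) (.leaf 2449) (.leaf 3131)) (.node (.leaf 582) (.leaf 1416) (.leaf 1867) (.leaf 0)) (.node (.leaf 1868) (.leaf 2190) (.leaf 2568) (.leaf 0))) (.node (.node (.leaf 130) (.leaf 1845) (.leaf 1655)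 (.leaf 3486)) (.node (.leaf 696) (.leaf 2648) (.leaf 3222) (.leaf 0)) (.node (.leaf 2050) (.leaf 840) (.leaf 1731) (.leaf 0)) (.node (.leaf 1305) (.leaf 1818) (.leaf 2966) (.leaf 0)))) (.node (.node (.node (.leaf 58) (.leaf 1787) (.leaf 1922) (.leaf 2431)) (.node (.leaf 296) (.leaf 1117) (.leaf 3199) (.leaf 3371)) (.node (.leaf 567) (.leaf 1853) (.leaf 3351) (.leaf 0)) (.node (.leaf 765) (.leaf 1488) (.leaf 2287) (.leaf 0))) (.node (.node (.leaf 139) (.leaf 925) (.leaf 1373) (.leaf 2976)) (.node (.leaf 679) (.leaf 1193) (.leaf 2267) (.leaf 3266)) (.node (.leaf 468) (.leaf 1111) (.leaf 3174) (.leaf 0)) (.node (.leaf 739) (.leaf 1238) (.leaf 2231) (.leaf 0))) (.node (.node (.leaf 254) (.leaf 2325) (.leaf 2366) (.leaf 3205)) (.node (.leaf 429) (.leaf 2009) (.leaf 1662) (.leaf 3464)) (.node (.leaf 777) (.leaf 2270) (.leaf 2042) (.leaf 0)) (.node (.leaf 954) (.leaf 2110) (.leaf 2754) (.leaf 0))) (.node (.node (.leaf 190) (.leaf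 1438) (.leaf 2056) (.leaf 2402)) (.node (.leaf 737) (.leaf 1331) (.leaf 1527) (.leaf 0)) (.node (.leaf 620) (.leaf 3093) (.leaf 2016) (.leaf 0)) (.node (.leaf 672) (.leaf 1920) (.leaf 3017) (.leaf 0)))) (.node (.node (.node (.leaf 34) (.leaf 1555) (.leaf 1746) (.leaf 3317)) (.node (.leaf 370) (.leaf 964) (.leaf 2196) (.leaf 3308)) (.node (.leaf 278) (.leaf 466) (.leaf 1638) (.leaf 0)) (.node (.leaf 1694) (.leaf 1977) (.leaf 3130) (.leaf 0))) (.node (.node (.leaf 62) (.leaf 377) (.leaf 1506) (.leaf 2815)) (.node (.leaf 148) (.leaf 1392) (.leaf 1468) (.leaf 2812)) (.node (.leaf 1149) (.leaf 1844) (.leaf 3264) (.leaf 0)) (.node (.leaf 936) (.leaf 1288) (.leaf 2817) (.leaf 0))) (.node (.node (.leaf 454) (.leaf 833) (.leaf 1789) (.leaf 2876)) (.node (.leaf 594) (.leaf 2308) (.leaf 2883) (.leaf 3063)) (.node (.leaf 1217) (.leaf 1375) (.leaf 2173) (.leaf 0)) (.node (.leaf 799) (.leaf 2861) (.leaf 3414) (.leaf 0))) (.node (.node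 (.leaf 122) (.leaf 1026) (.leaf 3180) (.leaf 2834)) (.node (.leaf 667) (.leaf 1119) (.leaf 3066) (.leaf 0)) (.node (.leaf 455) (.leaf 2053) (.leaf 3146) (.leaf 0)) (.node (.leaf 1007) (.leaf 1699) (.leaf 3466) (.leaf 0)))) (.node (.node (.node (.leaf 37) (.leaf 898) (.leaf 2692) (.leaf 3391)) (.node (.leaf 165) (.leaf 1689) (.leaf 1451) (.leaf 2968)) (.node (.leaf 911) (.leaf 1932) (.leaf 2167) (.leaf 0)) (.node (.leaf 1030) (.leaf 2440) (.leaf 2855) (.leaf 0))) (.node (.node (.leaf 104) (.leaf 1219) (.leaf 3171) (.leaf 3125)) (.node (.leaf 434) (.leaf 1057) (.leaf 1951) (.leaf 3108)) (.node (.leaf 640) (.leaf 1897) (.leaf 1414) (.leaf 0)) (.node (.leaf 1022) (.leaf 2939) (.leaf 2153) (.leaf 0))) (.node (.node (.leaf 293) (.leaf 575) (.leaf 2705) (.leaf 2727)) (.node (.leaf 835) (.leaf 1216) (.leaf 2613) (.leaf 3503)) (.node (.leaf 837) (.leaf 1801) (.leaf 2113) (.leaf 0)) (.node (.leaf 636) (.leaf 1035) (.leaf 3451) (.leaf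 0))) (.node (.node (.leaf 805) (.leaf 2189) (.leaf 2543) (.leaf 3045)) (.node (.leaf 262) (.leaf 2127) (.leaf 2851) (.leaf 0)) (.node (.leaf 668) (.leaf 2001) (.leaf 2252) (.leaf 0)) (.node (.leaf 1471) (.leaf 2414) (.leaf 2241) (.leaf 0)))))

def xTree4 : SporBound.Q ℕ := (.node (.node (.node (.node (.leaf 31) (.leaf 1095) (.leaf 2202) (.leaf 3444)) (.node (.leaf 868) (.leaf 973) (.leaf 3196) (.leaf 3367)) (.node (.leaf 1262) (.leaf 2129) (.leaf 2678) (.leaf 0)) (.node (.leaf 257) (.leaf 1235) (.leaf 3198) (.leaf 0))) (.node (.node (.leaf 106) (.leaf 869) (.leaf 2307) (.leaf 3333)) (.node (.leaf 504) (.leaf 1907) (.leaf 2691) (.leaf 3304)) (.node (.leaf 478) (.leaf 1533) (.leaf 2681) (.leaf 0)) (.node (.leaf 990) (.leaf 1733) (.leaf 2693) (.leaf 0))) (.node (.node (.leaf 149) (.leaf 1505) (.leaf 2958) (.leaf 3320)) (.node (.leaf 972) (.leaf 2145) (.leaf 2687) (.leaf 3499)) (.node (.leaf 1036) (.leaf 2666) (.leaf 2701)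 (.leaf 0)) (.node (.leaf 708) (.leaf 1418) (.leaf 2729) (.leaf 0))) (.node (.node (.leaf 267) (.leaf 789) (.leaf 2508) (.leaf 2786)) (.node (.leaf 392) (.leaf 2514) (.leaf 1260) (.leaf 0)) (.node (.leaf 826) (.leaf 1999) (.leaf 3322) (.leaf 0)) (.node (.leaf 1054) (.leaf 3050) (.leaf 2929) (.leaf 0)))) (.node (.node (.node (.leaf 80) (.leaf 1121) (.leaf 1775) (.leaf 1374)) (.node (.leaf 297) (.leaf 1341) (.leaf 2246) (.leaf 2740)) (.node (.leaf 371) (.leaf 2018) (.leaf 2971) (.leaf 0)) (.node (.leaf 762) (.leaf 1289) (.leaf 3242) (.leaf 0))) (.node (.node (.leaf 81) (.leaf 526) (.leaf 3163) (.leaf 3049)) (.node (.leaf 472) (.leaf 1620) (.leaf 2101) (.leaf 3181)) (.node (.leaf 637) (.leaf 2774) (.leaf 1748) (.leaf 0)) (.node (.leaf 1018) (.leaf 1549) (.leaf 2503) (.leaf 0))) (.node (.node (.leaf 45) (.leaf 1528) (.leaf 2354) (.leaf 2996)) (.node (.leaf 1039) (.leaf 1285) (.leaf 1926) (.leaf 3040)) (.node (.leaf 899) (.leaf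 2516) (.leaf 3428) (.leaf 0)) (.node (.leaf 1158) (.leaf 3135) (.leaf 3020) (.leaf 0))) (.node (.node (.leaf 574) (.leaf 1123) (.leaf 1726) (.leaf 2795)) (.node (.leaf 623) (.leaf 1326) (.leaf 3342) (.leaf 0)) (.node (.leaf 882) (.leaf 1247) (.leaf 2702) (.leaf 0)) (.node (.leaf 1691) (.leaf 1597) (.leaf 2556) (.leaf 0)))) (.node (.node (.node (.leaf 32) (.leaf 1196) (.leaf 3176) (.leaf 2346)) (.node (.leaf 309) (.leaf 793) (.leaf 2423) (.leaf 3455)) (.node (.leaf 342) (.leaf 1210) (.leaf 1774) (.leaf 0)) (.node (.leaf 1051) (.leaf 1626) (.leaf 3344) (.leaf 0))) (.node (.node (.leaf 288) (.leaf 1150) (.leaf 2029) (.leaf 2859)) (.node (.leaf 741) (.leaf 841) (.leaf 3004) (.leaf 3437)) (.node (.leaf 419) (.leaf 2195) (.leaf 1046) (.leaf 0)) (.node (.leaf 1739) (.leaf 1281) (.leaf 1698) (.leaf 0))) (.node (.node (.leaf 364) (.leaf 1393) (.leaf 1474) (.leaf 2471)) (.node (.leaf 727) (.leaf 2051) (.leaf 1588) (.leaf 3023))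 (.node (.leaf 678) (.leaf 827) (.leaf 3095) (.leaf 0)) (.node (.leaf 798) (.leaf 2717) (.leaf 2318) (.leaf 0))) (.node (.node (.leaf 184) (.leaf 465) (.leaf 1795) (.leaf 3056)) (.node (.leaf 513) (.leaf 922) (.leaf 2897) (.leaf 0)) (.node (.leaf 470) (.leaf 1671) (.leaf 2292) (.leaf 0)) (.node (.leaf 1009) (.leaf 1986) (.leaf 2335) (.leaf 0)))) (.node (.node (.node (.leaf 17) (.leaf 1032) (.leaf 2608) (.leaf 3392)) (.node (.leaf 404) (.leaf 1688) (.leaf 2770) (.leaf 3336)) (.node (.leaf 1160) (.leaf 1290) (.leaf 3153) (.leaf 0)) (.node (.leaf 706) (.leaf 1363) (.leaf 3103) (.leaf 0))) (.node (.node (.leaf 400) (.leaf 1486) (.leaf 2941) (.leaf 3491)) (.node (.leaf 401) (.leaf 1282) (.leaf 3092) (.leaf 3244)) (.node (.leaf 816) (.leaf 683) (.leaf 2728) (.leaf 0)) (.node (.leaf 305) (.leaf 2365) (.leaf 2959) (.leaf 0))) (.node (.node (.leaf 383) (.leaf 851) (.leaf 2730) (.leaf 3420)) (.node (.leaf 444) (.leaf 1376) (.leaf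 2229) (.leaf 3393)) (.node (.leaf 848) (.leaf 2142) (.leaf 3164) (.leaf 0)) (.node (.leaf 1998) (.leaf 2266) (.leaf 2578) (.leaf 0))) (.node (.node (.leaf 321) (.leaf 1831) (.leaf 2276) (.leaf 2034)) (.node (.leaf 384) (.leaf 992) (.leaf 2892) (.leaf 0)) (.node (.leaf 1338) (.leaf 1295) (.leaf 3201) (.leaf 0)) (.node (.leaf 1189) (.leaf 2263) (.leaf 3035) (.leaf 0)))))

def xTree5 : SporBound.Q ℕ := (.node (.node (.node (.node (.leaf 137) (.leaf 1097) (.leaf 1531) (.leaf 3065)) (.node (.leaf 356) (.leaf 1094) (.leaf 1949) (.leaf 3471)) (.node (.leaf 565) (.leaf 1271) (.leaf 1534) (.leaf 0)) (.node (.leaf 656) (.leaf 2524) (.leaf 2737) (.leaf 0))) (.node (.node (.leaf 105) (.leaf 1015) (.leaf 2228) (.leaf 2554)) (.node (.leaf 467) (.leaf 1358) (.leaf 2769) (.leaf 3094)) (.node (.leaf 564) (.leaf 1681) (.leaf 3237) (.leaf 0)) (.node (.leaf 1178) (.leaf 2852) (.leaf 3031) (.leaf 0))) (.node (.node (.leaf 198) (.leaf 1086)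 (.leaf 1714) (.leaf 2902)) (.node (.leaf 207) (.leaf 1797) (.leaf 1777) (.leaf 3463)) (.node (.leaf 1049) (.leaf 1263) (.leaf 1266) (.leaf 0)) (.node (.leaf 593) (.leaf 2748) (.leaf 1584) (.leaf 0))) (.node (.node (.leaf 170) (.leaf 2504) (.leaf 2247) (.leaf 3005)) (.node (.leaf 908) (.leaf 792) (.leaf 3388) (.leaf 0)) (.node (.leaf 1181) (.leaf 2462) (.leaf 2766) (.leaf 0)) (.node (.leaf 325) (.leaf 1428) (.leaf 2573) (.leaf 0)))) (.node (.node (.node (.leaf 77) (.leaf 1950) (.leaf 1269) (.leaf 2381)) (.node (.leaf 66) (.leaf 811) (.leaf 3253) (.leaf 3326)) (.node (.leaf 410) (.leaf 3080) (.leaf 2995) (.leaf 0)) (.node (.leaf 246) (.leaf 2298) (.leaf 1417) (.leaf 0))) (.node (.node (.leaf 27) (.leaf 1157) (.leaf 2141) (.leaf 2778)) (.node (.leaf 220) (.leaf 834) (.leaf 1780) (.leaf 3435)) (.node (.leaf 959) (.leaf 1062) (.leaf 1982) (.leaf 0)) (.node (.leaf 846) (.leaf 1605) (.leaf 2810) (.leaf 0))) (.node (.node (.leaf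 253) (.leaf 1781) (.leaf 2438) (.leaf 3478)) (.node (.leaf 1041) (.leaf 1850) (.leaf 2846) (.leaf 2921)) (.node (.leaf 326) (.leaf 1554) (.leaf 3123) (.leaf 0)) (.node (.leaf 411) (.leaf 2250) (.leaf 3405) (.leaf 0))) (.node (.node (.leaf 264) (.leaf 1462) (.leaf 1782) (.leaf 2667)) (.node (.leaf 182) (.leaf 1340) (.leaf 1623) (.leaf 0)) (.node (.leaf 485) (.leaf 592) (.leaf 2191) (.leaf 0)) (.node (.leaf 517) (.leaf 2777) (.leaf 2625) (.leaf 0)))) (.node (.node (.node (.leaf 16) (.leaf 1955) (.leaf 2869) (.leaf 2371)) (.node (.leaf 677) (.leaf 1807) (.leaf 1077) (.leaf 3101)) (.node (.leaf 998) (.leaf 1603) (.leaf 2857) (.leaf 0)) (.node (.leaf 1498) (.leaf 2049) (.leaf 2294) (.leaf 0))) (.node (.node (.leaf 239) (.leaf 872) (.leaf 2340) (.leaf 3498)) (.node (.leaf 617) (.leaf 1627) (.leaf 1617) (.leaf 3360)) (.node (.leaf 813) (.leaf 1994) (.leaf 3458) (.leaf 0)) (.node (.leaf 1344) (.leaf 1969) (.leaf 2803) (.leaf 0)))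 (.node (.node (.leaf 88) (.leaf 1368) (.leaf 1727) (.leaf 3235)) (.node (.leaf 875) (.leaf 1715) (.leaf 3383) (.leaf 3285)) (.node (.leaf 536) (.leaf 994) (.leaf 1407) (.leaf 0)) (.node (.leaf 1335) (.leaf 2677) (.leaf 3025) (.leaf 0))) (.node (.node (.leaf 491) (.leaf 1198) (.leaf 3445) (.leaf 1559)) (.node (.leaf 533) (.leaf 585) (.leaf 2990) (.leaf 0)) (.node (.leaf 488) (.leaf 1973) (.leaf 2974) (.leaf 0)) (.node (.leaf 629) (.leaf 2877) (.leaf 1606) (.leaf 0)))) (.node (.node (.node (.leaf 205) (.leaf 758) (.leaf 2964) (.leaf 1509)) (.node (.leaf 975) (.leaf 1502) (.leaf 2210) (.leaf 3356)) (.node (.leaf 1001) (.leaf 1457) (.leaf 1908) (.leaf 0)) (.node (.leaf 1684) (.leaf 2847) (.leaf 2315) (.leaf 0))) (.node (.node (.leaf 159) (.leaf 738) (.leaf 2031) (.leaf 3124)) (.node (.leaf 506) (.leaf 1261) (.leaf 2673) (.leaf 3504)) (.node (.leaf 605) (.leaf 2176) (.leaf 2583) (.leaf 0)) (.node (.leaf 889) (.leaf 1720) (.leaf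 3046) (.leaf 0))) (.node (.node (.leaf 243) (.leaf 553) (.leaf 1692) (.leaf 3249)) (.node (.leaf 439) (.leaf 2244) (.leaf 1224) (.leaf 3154)) (.node (.leaf 500) (.leaf 1958) (.leaf 2099) (.leaf 0)) (.node (.leaf 802) (.leaf 1937) (.leaf 2920) (.leaf 0))) (.node (.node (.leaf 330) (.leaf 997) (.leaf 3127) (.leaf 3470)) (.node (.leaf 521) (.leaf 2631) (.leaf 2232) (.leaf 0)) (.node (.leaf 641) (.leaf 2253) (.leaf 2712) (.leaf 0)) (.node (.leaf 1005) (.leaf 3048) (.leaf 2098) (.leaf 0)))))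

def xTree6 : SporBound.Q ℕ := (.node (.node (.node (.node (.leaf 151) (.leaf 1521) (.leaf 2274) (.leaf 2477)) (.node (.leaf 471) (.leaf 1109) (.leaf 2147) (.leaf 3298)) (.node (.leaf 586) (.leaf 1378) (.leaf 3338) (.leaf 0)) (.node (.leaf 671) (.leaf 1682) (.leaf 2355) (.leaf 0))) (.node (.node (.leaf 114) (.leaf 794) (.leaf 1426) (.leaf 2797)) (.node (.leaf 313) (.leaf 2397) (.leaf 1708) (.leaf 3321)) (.node (.leaf 1472) (.leaf 358) (.leaf 2515) (.leaf 0)) (.node (.leaf 780) (.leaf 2779) (.leaf 2787) (.leaf 0))) (.node (.node (.leaf 150) (.leaf 1244) (.leaf 2245) (.leaf 3212)) (.node (.leaf 157) (.leaf 460) (.leaf 2280) (.leaf 3159)) (.node (.leaf 1886) (.leaf 845) (.leaf 3271) (.leaf 0)) (.node (.leaf 609) (.leaf 1422) (.leaf 2474) (.leaf 0))) (.node (.node (.leaf 522) (.leaf 2502) (.leaf 2392) (.leaf 3404)) (.node (.leaf 1206) (.leaf 931) (.leaf 3309) (.leaf 0)) (.node (.leaf 1645) (.leaf 1954) (.leaf 2767) (.leaf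 0)) (.node (.leaf 1885) (.leaf 1395) (.leaf 3454) (.leaf 0)))) (.node (.node (.node (.leaf 43) (.leaf 755) (.leaf 3295) (.leaf 2010)) (.node (.leaf 232) (.leaf 824) (.leaf 2773) (.leaf 2572)) (.node (.leaf 573) (.leaf 1380) (.leaf 2948) (.leaf 0)) (.node (.leaf 858) (.leaf 1200) (.leaf 3184) (.leaf 0))) (.node (.node (.leaf 60) (.leaf 1155) (.leaf 2428) (.leaf 3494)) (.node (.leaf 560) (.leaf 1872) (.leaf 1632) (.leaf 3490)) (.node (.leaf 251) (.leaf 874) (.leaf 3259) (.leaf 0)) (.node (.leaf 1203) (.leaf 3016) (.leaf 2750) (.leaf 0))) (.node (.node (.leaf 314) (.leaf 736) (.leaf 2192) (.leaf 3495)) (.node (.leaf 462) (.leaf 1242) (.leaf 1659) (.leaf 3310)) (.node (.leaf 1075) (.leaf 1675) (.leaf 2437) (.leaf 0)) (.node (.leaf 914) (.leaf 2289) (.leaf 1592) (.leaf 0))) (.node (.node (.leaf 204) (.leaf 1458) (.leaf 1741) (.leaf 2953)) (.node (.leaf 441) (.leaf 1329) (.leaf 3058) (.leaf 0)) (.node (.leaf 556) (.leaf 1590)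 (.leaf 2735) (.leaf 0)) (.node (.leaf 675) (.leaf 3083) (.leaf 3441) (.leaf 0)))) (.node (.node (.node (.leaf 56) (.leaf 939) (.leaf 2342) (.leaf 2707)) (.node (.leaf 250) (.leaf 1078) (.leaf 3213) (.leaf 3334)) (.node (.leaf 350) (.leaf 2469) (.leaf 3033) (.leaf 0)) (.node (.leaf 1582) (.leaf 929) (.leaf 2814) (.leaf 0))) (.node (.node (.leaf 63) (.leaf 1316) (.leaf 1607) (.leaf 3493)) (.node (.leaf 95) (.leaf 1449) (.leaf 2040) (.leaf 2837)) (.node (.leaf 242) (.leaf 1656) (.leaf 2273) (.leaf 0)) (.node (.leaf 685) (.leaf 2088) (.leaf 2963) (.leaf 0))) (.node (.node (.leaf 367) (.leaf 1391) (.leaf 2661) (.leaf 2476)) (.node (.leaf 1132) (.leaf 699) (.leaf 1220) (.leaf 2570)) (.node (.leaf 398) (.leaf 1525) (.leaf 3233) (.leaf 0)) (.node (.leaf 944) (.leaf 2472) (.leaf 3262) (.leaf 0))) (.node (.node (.leaf 346) (.leaf 2187) (.leaf 2541) (.leaf 2980)) (.node (.leaf 320) (.leaf 1663) (.leaf 2745) (.leaf 0)) (.node (.leaf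 1208) (.leaf 1412) (.leaf 2124) (.leaf 0)) (.node (.leaf 1974) (.leaf 2059) (.leaf 2985) (.leaf 0)))) (.node (.node (.node (.leaf 23) (.leaf 2553) (.leaf 1565) (.leaf 1879)) (.node (.leaf 652) (.leaf 1510) (.leaf 1630) (.leaf 3505)) (.node (.leaf 627) (.leaf 1454) (.leaf 1915) (.leaf 0)) (.node (.leaf 1511) (.leaf 2061) (.leaf 1757) (.leaf 0))) (.node (.node (.leaf 101) (.leaf 1131) (.leaf 2434) (.leaf 3354)) (.node (.leaf 818) (.leaf 1284) (.leaf 3003) (.leaf 2794)) (.node (.leaf 651) (.leaf 2256) (.leaf 2165) (.leaf 0)) (.node (.leaf 1767) (.leaf 1846) (.leaf 2576) (.leaf 0))) (.node (.node (.leaf 41) (.leaf 849) (.leaf 3239) (.leaf 3228)) (.node (.leaf 437) (.leaf 1420) (.leaf 2482) (.leaf 0)) (.node (.leaf 887) (.leaf 828) (.leaf 3226) (.leaf 0)) (.node (.leaf 1314) (.leaf 3057) (.leaf 3409) (.leaf 0))) (.node (.node (.leaf 107) (.leaf 2475) (.leaf 2239) (.leaf 2882)) (.node (.leaf 1156) (.leaf 2130) (.leaf 2496) (.leaf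 0)) (.node (.leaf 481) (.leaf 2154) (.leaf 3151) (.leaf 0)) (.node (.leaf 1445) (.leaf 2962) (.leaf 2800) (.leaf 0)))))

def xTree7 : SporBound.Q ℕ := (.node (.node (.node (.node (.leaf 163) (.leaf 2026) (.leaf 2343) (.leaf 2425)) (.node (.leaf 118) (.leaf 2282) (.leaf 3121) (.leaf 3089)) (.node (.leaf 717) (.leaf 2219) (.leaf 2987) (.leaf 0)) (.node (.leaf 487) (.leaf 1751) (.leaf 3027) (.leaf 0))) (.node (.node (.leaf 111) (.leaf 1118) (.leaf 2288) (.leaf 3074)) (.node (.leaf 724) (.leaf 1523) (.leaf 2611) (.leaf 3118)) (.node (.leaf 930) (.leaf 1809) (.leaf 2789) (.leaf 0)) (.node (.leaf 1769) (.leaf 1696) (.leaf 3068) (.leaf 0))) (.node (.node (.leaf 164) (.leaf 1033) (.leaf 2426) (.leaf 2349)) (.node (.leaf 616) (.leaf 1357) (.leaf 2226) (.leaf 3422)) (.node (.leaf 1028) (.leaf 2715) (.leaf 2175) (.leaf 0)) (.node (.leaf 1388) (.leaf 1093) (.leaf 2620) (.leaf 0))) (.node (.node (.leaf 181) (.leaf 1602) (.leaf 1875)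 (.leaf 3402)) (.node (.leaf 380) (.leaf 1337) (.leaf 2642) (.leaf 0)) (.node (.leaf 303) (.leaf 1936) (.leaf 2605) (.leaf 0)) (.node (.leaf 735) (.leaf 1442) (.leaf 1236) (.leaf 0)))) (.node (.node (.node (.leaf 21) (.leaf 1870) (.leaf 1599) (.leaf 3400)) (.node (.leaf 756) (.leaf 804) (.leaf 2604) (.leaf 3365)) (.node (.leaf 1234) (.leaf 1084) (.leaf 2102) (.leaf 0)) (.node (.leaf 600) (.leaf 1540) (.leaf 2763) (.leaf 0))) (.node (.node (.leaf 68) (.leaf 608) (.leaf 3136) (.leaf 2997)) (.node (.leaf 430) (.leaf 746) (.leaf 2067) (.leaf 2633)) (.node (.leaf 665) (.leaf 1083) (.leaf 2087) (.leaf 0)) (.node (.leaf 1447) (.leaf 1452) (.leaf 1232) (.leaf 0))) (.node (.node (.leaf 409) (.leaf 1188) (.leaf 2119) (.leaf 3081)) (.node (.leaf 464) (.leaf 942) (.leaf 2640) (.leaf 3331)) (.node (.leaf 211) (.leaf 1294) (.leaf 2585) (.leaf 0)) (.node (.leaf 1291) (.leaf 1903) (.leaf 3432) (.leaf 0))) (.node (.node (.leaf 265) (.leaf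 580) (.leaf 1750) (.leaf 3138)) (.node (.leaf 1180) (.leaf 1803) (.leaf 1959) (.leaf 0)) (.node (.leaf 1643) (.leaf 1537) (.leaf 2495) (.leaf 0)) (.node (.leaf 865) (.leaf 1877) (.leaf 2742) (.leaf 0)))) (.node (.node (.node (.leaf 133) (.leaf 1024) (.leaf 2291) (.leaf 3480)) (.node (.leaf 158) (.leaf 613) (.leaf 2598) (.leaf 3318)) (.node (.leaf 924) (.leaf 2206) (.leaf 2586) (.leaf 0)) (.node (.leaf 412) (.leaf 2629) (.leaf 3296) (.leaf 0))) (.node (.node (.leaf 38) (.leaf 1145) (.leaf 2978) (.leaf 2858)) (.node (.leaf 759) (.leaf 686) (.leaf 1912) (.leaf 3193)) (.node (.leaf 299) (.leaf 1539) (.leaf 2704) (.leaf 0)) (.node (.leaf 1772) (.leaf 1312) (.leaf 2589) (.leaf 0))) (.node (.node (.leaf 90) (.leaf 689) (.leaf 3168) (.leaf 3231)) (.node (.leaf 512) (.leaf 2037) (.leaf 2036) (.leaf 3299)) (.node (.leaf 993) (.leaf 1914) (.leaf 1935) (.leaf 0)) (.node (.leaf 982) (.leaf 1944) (.leaf 2200) (.leaf 0))) (.node (.node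 (.leaf 120) (.leaf 769) (.leaf 2716) (.leaf 3450)) (.node (.leaf 258) (.leaf 1635) (.leaf 1971) (.leaf 0)) (.node (.leaf 1545) (.leaf 1788) (.leaf 2537) (.leaf 0)) (.node (.leaf 988) (.leaf 1002) (.leaf 2967) (.leaf 0)))) (.node (.node (.node (.leaf 44) (.leaf 2092) (.leaf 1580) (.leaf 2724)) (.node (.leaf 335) (.leaf 1495) (.leaf 1824) (.leaf 3366)) (.node (.leaf 1541) (.leaf 1676) (.leaf 2177) (.leaf 0)) (.node (.leaf 319) (.leaf 1256) (.leaf 2910) (.leaf 0))) (.node (.node (.leaf 166) (.leaf 1113) (.leaf 2212) (.leaf 2867)) (.node (.leaf 414) (.leaf 1286) (.leaf 2418) (.leaf 3207)) (.node (.leaf 809) (.leaf 1172) (.leaf 2647) (.leaf 0)) (.node (.leaf 572) (.leaf 2152) (.leaf 3474) (.leaf 0))) (.node (.node (.leaf 229) (.leaf 1061) (.leaf 1619) (.leaf 1749)) (.node (.leaf 694) (.leaf 1177) (.leaf 1972) (.leaf 0)) (.node (.leaf 452) (.leaf 2140) (.leaf 3424) (.leaf 0)) (.node (.leaf 1098) (.leaf 3162) (.leaf 2979) (.leaf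 0))) (.node (.node (.leaf 803) (.leaf 2557) (.leaf 2885) (.leaf 2387)) (.node (.leaf 379) (.leaf 1702) (.leaf 2907) (.leaf 0)) (.node (.leaf 1493) (.leaf 1484) (.leaf 2218) (.leaf 0)) (.node (.leaf 1194) (.leaf 2591) (.leaf 1927) (.leaf 0)))))

def xTree8 : SporBound.Q ℕ := (.node (.node (.node (.node (.leaf 55) (.leaf 385) (.leaf 2208) (.leaf 2389)) (.node (.leaf 866) (.leaf 505) (.leaf 2262) (.leaf 2341)) (.node (.leaf 284) (.leaf 691) (.leaf 2112) (.leaf 0)) (.node (.leaf 801) (.leaf 2539) (.leaf 1724) (.leaf 0))) (.node (.node (.leaf 119) (.leaf 1143) (.leaf 1835) (.leaf 2391)) (.node (.leaf 228) (.leaf 1596) (.leaf 2659) (.leaf 3133)) (.node (.leaf 903) (.leaf 1106) (.leaf 3148) (.leaf 0)) (.node (.leaf 551) (.leaf 1413) (.leaf 2047) (.leaf 0))) (.node (.node (.leaf 161) (.leaf 402) (.leaf 1593) (.leaf 3487)) (.node (.leaf 408) (.leaf 1499) (.leaf 2481) (.leaf 3439)) (.node (.leaf 894) (.leaf 1905) (.leaf 2684) (.leaf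 0)) (.node (.leaf 1006) (.leaf 1710) (.leaf 3417) (.leaf 0))) (.node (.node (.leaf 680) (.leaf 786) (.leaf 3419) (.leaf 3277)) (.node (.leaf 610) (.leaf 1332) (.leaf 3044) (.leaf 0)) (.node (.leaf 996) (.leaf 547) (.leaf 3126) (.leaf 0)) (.node (.leaf 1309) (.leaf 1394) (.leaf 2450) (.leaf 0)))) (.node (.node (.node (.leaf 92) (.leaf 2300) (.leaf 3353) (.leaf 2510)) (.node (.leaf 306) (.leaf 1334) (.leaf 2436) (.leaf 1869)) (.node (.leaf 405) (.leaf 2045) (.leaf 2412) (.leaf 0)) (.node (.leaf 958) (.leaf 1587) (.leaf 2731) (.leaf 0))) (.node (.node (.leaf 65) (.leaf 1153) (.leaf 2840) (.leaf 3165)) (.node (.leaf 1176) (.leaf 1402) (.leaf 2634) (.leaf 2741)) (.node (.leaf 810) (.leaf 1080) (.leaf 3218) (.leaf 0)) (.node (.leaf 596) (.leaf 2900) (.leaf 2992) (.leaf 0))) (.node (.node (.leaf 260) (.leaf 1658) (.leaf 2331) (.leaf 2936)) (.node (.leaf 881) (.leaf 1651) (.leaf 3376) (.leaf 3307)) (.node (.leaf 1400) (.leaf 1535)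 (.leaf 1404) (.leaf 0)) (.node (.leaf 820) (.leaf 1465) (.leaf 1891) (.leaf 0))) (.node (.node (.leaf 445) (.leaf 1014) (.leaf 3206) (.leaf 3473)) (.node (.leaf 368) (.leaf 302) (.leaf 2969) (.leaf 0)) (.node (.leaf 450) (.leaf 1804) (.leaf 2738) (.leaf 0)) (.node (.leaf 1586) (.leaf 895) (.leaf 2719) (.leaf 0)))) (.node (.node (.node (.leaf 35) (.leaf 363) (.leaf 1538) (.leaf 3396)) (.node (.leaf 649) (.leaf 2242) (.leaf 2060) (.leaf 3500)) (.node (.leaf 1090) (.leaf 1248) (.leaf 3380) (.leaf 0)) (.node (.leaf 1419) (.leaf 1298) (.leaf 3306) (.leaf 0))) (.node (.node (.leaf 64) (.leaf 1464) (.leaf 1837) (.leaf 2999)) (.node (.leaf 308) (.leaf 1443) (.leaf 2895) (.leaf 3488)) (.node (.leaf 534) (.leaf 2233) (.leaf 3203) (.leaf 0)) (.node (.leaf 782) (.leaf 1687) (.leaf 3345) (.leaf 0))) (.node (.node (.leaf 396) (.leaf 912) (.leaf 2421) (.leaf 3476)) (.node (.leaf 423) (.leaf 714) (.leaf 2558) (.leaf 3440)) (.node (.leaf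 1165) (.leaf 1170) (.leaf 3149) (.leaf 0)) (.node (.leaf 618) (.leaf 2071) (.leaf 3281) (.leaf 0))) (.node (.node (.leaf 317) (.leaf 1207) (.leaf 2776) (.leaf 1976)) (.node (.leaf 381) (.leaf 561) (.leaf 2150) (.leaf 0)) (.node (.leaf 1116) (.leaf 2064) (.leaf 2320) (.leaf 0)) (.node (.leaf 566) (.leaf 2284) (.leaf 3408) (.leaf 0)))) (.node (.node (.node (.leaf 82) (.leaf 1089) (.leaf 2874) (.leaf 1980)) (.node (.leaf 970) (.leaf 415) (.leaf 3225) (.leaf 2478)) (.node (.leaf 1766) (.leaf 856) (.leaf 1562) (.leaf 0)) (.node (.leaf 1071) (.leaf 2065) (.leaf 2453) (.leaf 0))) (.node (.node (.leaf 102) (.leaf 956) (.leaf 2390) (.leaf 3349)) (.node (.leaf 252) (.leaf 1925) (.leaf 3286) (.leaf 3175)) (.node (.leaf 238) (.leaf 2433) (.leaf 3260) (.leaf 0)) (.node (.leaf 725) (.leaf 1904) (.leaf 2155) (.leaf 0))) (.node (.node (.leaf 244) (.leaf 891) (.leaf 2203) (.leaf 2529)) (.node (.leaf 177) (.leaf 2722) (.leaf 2089) (.leaf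 0)) (.node (.leaf 1204) (.leaf 1636) (.leaf 3192) (.leaf 0)) (.node (.leaf 977) (.leaf 2268) (.leaf 3430) (.leaf 0))) (.node (.node (.leaf 661) (.leaf 1369) (.leaf 3407) (.leaf 3457)) (.node (.leaf 751) (.leaf 1792) (.leaf 1938) (.leaf 0)) (.node (.leaf 976) (.leaf 1268) (.leaf 3377) (.leaf 0)) (.node (.leaf 555) (.leaf 2918) (.leaf 3421) (.leaf 0)))))

def xTree9 : SporBound.Q ℕ := (.node (.node (.node (.node (.leaf 86) (.leaf 991) (.leaf 1832) (.leaf 2922)) (.node (.leaf 722) (.leaf 1479) (.leaf 1401) (.leaf 2575)) (.node (.leaf 407) (.leaf 1221) (.leaf 2238) (.leaf 0)) (.node (.leaf 854) (.leaf 1814) (.leaf 1899) (.leaf 0))) (.node (.node (.leaf 69) (.leaf 1148) (.leaf 1560) (.leaf 2669)) (.node (.leaf 449) (.leaf 1743) (.leaf 2396) (.leaf 2168)) (.node (.leaf 245) (.leaf 2107) (.leaf 1686) (.leaf 0)) (.node (.leaf 705) (.leaf 1272) (.leaf 2982) (.leaf 0))) (.node (.node (.leaf 212) (.leaf 1163) (.leaf 3000) (.leaf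 2811)) (.node (.leaf 420) (.leaf 624) (.leaf 3060) (.leaf 2833)) (.node (.leaf 1317) (.leaf 1762) (.leaf 2836) (.leaf 0)) (.node (.leaf 1460) (.leaf 1707) (.leaf 1598) (.leaf 0))) (.node (.node (.leaf 178) (.leaf 1747) (.leaf 2507) (.leaf 2927)) (.node (.leaf 612) (.leaf 1823) (.leaf 1802) (.leaf 0)) (.node (.leaf 1568) (.leaf 1470) (.leaf 2854) (.leaf 0)) (.node (.leaf 1222) (.leaf 2236) (.leaf 1553) (.leaf 0)))) (.node (.node (.node (.leaf 89) (.leaf 1258) (.leaf 2698) (.leaf 1968)) (.node (.leaf 188) (.leaf 2006) (.leaf 3142) (.leaf 3443)) (.node (.leaf 1213) (.leaf 1963) (.leaf 2139) (.leaf 0)) (.node (.leaf 559) (.leaf 2491) (.leaf 3194) (.leaf 0))) (.node (.node (.leaf 203) (.leaf 2522) (.leaf 1591) (.leaf 3028)) (.node (.leaf 290) (.leaf 2697) (.leaf 2445) (.leaf 3214)) (.node (.leaf 530) (.leaf 2286) (.leaf 1825) (.leaf 0)) (.node (.leaf 1346) (.leaf 2090) (.leaf 3064) (.leaf 0))) (.node (.node (.leaf 46) (.leaf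 360) (.leaf 3090) (.leaf 2816)) (.node (.leaf 461) (.leaf 1648) (.leaf 2682) (.leaf 3501)) (.node (.leaf 877) (.leaf 2251) (.leaf 2747) (.leaf 0)) (.node (.leaf 962) (.leaf 1942) (.leaf 2788) (.leaf 0))) (.node (.node (.leaf 369) (.leaf 1042) (.leaf 2526) (.leaf 3506)) (.node (.leaf 541) (.leaf 1962) (.leaf 1900) (.leaf 0)) (.node (.leaf 1861) (.leaf 2566) (.leaf 3173) (.leaf 0)) (.node (.leaf 1060) (.leaf 3119) (.leaf 3301) (.leaf 0)))) (.node (.node (.node (.leaf 57) (.leaf 355) (.leaf 2587) (.leaf 2470)) (.node (.leaf 527) (.leaf 1185) (.leaf 2179) (.leaf 3152)) (.node (.leaf 438) (.leaf 1878) (.leaf 2519) (.leaf 0)) (.node (.leaf 896) (.leaf 2394) (.leaf 2128) (.leaf 0))) (.node (.node (.leaf 256) (.leaf 376) (.leaf 1849) (.leaf 2115)) (.node (.leaf 619) (.leaf 843) (.leaf 2956) (.leaf 3172)) (.node (.leaf 520) (.leaf 2446) (.leaf 3122) (.leaf 0)) (.node (.leaf 1387) (.leaf 1993) (.leaf 2743) (.leaf 0))) (.node (.node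 (.leaf 91) (.leaf 1053) (.leaf 3453) (.leaf 2375)) (.node (.leaf 507) (.leaf 2215) (.leaf 3355) (.leaf 3452)) (.node (.leaf 351) (.leaf 2582) (.leaf 2209) (.leaf 0)) (.node (.leaf 413) (.leaf 1461) (.leaf 2549) (.leaf 0))) (.node (.node (.leaf 318) (.leaf 2459) (.leaf 1644) (.leaf 3468)) (.node (.leaf 192) (.leaf 1166) (.leaf 2121) (.leaf 0)) (.node (.leaf 907) (.leaf 1988) (.leaf 3002) (.leaf 0)) (.node (.leaf 2441) (.leaf 1928) (.leaf 2915) (.leaf 0)))) (.node (.node (.node (.leaf 59) (.leaf 943) (.leaf 1997) (.leaf 2293)) (.node (.leaf 301) (.leaf 728) (.leaf 2005) (.leaf 3327)) (.node (.leaf 480) (.leaf 1828) (.leaf 1989) (.leaf 0)) (.node (.leaf 806) (.leaf 2443) (.leaf 2188) (.leaf 0))) (.node (.node (.leaf 138) (.leaf 1504) (.leaf 2327) (.leaf 2965)) (.node (.leaf 315) (.leaf 752) (.leaf 1791) (.leaf 3268)) (.node (.leaf 1124) (.leaf 2772) (.leaf 2630) (.leaf 0)) (.node (.leaf 226) (.leaf 2935) (.leaf 2807) (.leaf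 0))) (.node (.node (.leaf 134) (.leaf 1273) (.leaf 2951) (.leaf 3263)) (.node (.leaf 615) (.leaf 2317) (.leaf 3374) (.leaf 0)) (.node (.leaf 587) (.leaf 1800) (.leaf 2771) (.leaf 0)) (.node (.leaf 974) (.leaf 2182) (.leaf 2345) (.leaf 0))) (.node (.node (.leaf 432) (.leaf 1082) (.leaf 1367) (.leaf 2560)) (.node (.leaf 424) (.leaf 1164) (.leaf 2984) (.leaf 0)) (.node (.leaf 1142) (.leaf 1265) (.leaf 1579) (.leaf 0)) (.node (.leaf 884) (.leaf 1721) (.leaf 2775) (.leaf 0)))))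

def xTree10 : SporBound.Q ℕ := (.node (.node (.node (.node (.leaf 7) (.leaf 2077) (.leaf 1839) (.leaf 3209)) (.node (.leaf 128) (.leaf 1491) (.leaf 3412) (.leaf 2989)) (.node (.leaf 361) (.leaf 2456) (.leaf 2240) (.leaf 0)) (.node (.leaf 495) (.leaf 2579) (.leaf 1990) (.leaf 0))) (.node (.node (.leaf 3) (.leaf 670) (.leaf 1952) (.leaf 2547)) (.node (.leaf 1048) (.leaf 1514) (.leaf 2131) (.leaf 2258)) (.node (.leaf 440) (.leaf 1389) (.leaf 2938) (.leaf 0)) (.node (.leaf 1440) (.leaf 1647) (.leaf 2726) (.leaf 0))) (.node (.node (.leaf 162) (.leaf 1251) (.leaf 2116) (.leaf 2316)) (.node (.leaf 662) (.leaf 2311) (.leaf 1600) (.leaf 3202)) (.node (.leaf 359) (.leaf 2151) (.leaf 1755) (.leaf 0)) (.node (.leaf 778) (.leaf 2022) (.leaf 3272) (.leaf 0))) (.node (.node (.leaf 174) (.leaf 493) (.leaf 1354) (.leaf 2041)) (.node (.leaf 928) (.leaf 749) (.leaf 3021) (.leaf 0)) (.node (.leaf 1107) (.leaf 1820) (.leaf 2665) (.leaf 0))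 (.node (.leaf 1339) (.leaf 2235) (.leaf 3429) (.leaf 0)))) (.node (.node (.node (.leaf 49) (.leaf 947) (.leaf 2888) (.leaf 2350)) (.node (.leaf 483) (.leaf 477) (.leaf 2649) (.leaf 3348)) (.node (.leaf 395) (.leaf 1386) (.leaf 1664) (.leaf 0)) (.node (.leaf 1034) (.leaf 1306) (.leaf 2662) (.leaf 0))) (.node (.node (.leaf 168) (.leaf 965) (.leaf 2908) (.leaf 2873)) (.node (.leaf 140) (.leaf 1359) (.leaf 2465) (.leaf 3251)) (.node (.leaf 963) (.leaf 1489) (.leaf 2823) (.leaf 0)) (.node (.leaf 498) (.leaf 2170) (.leaf 2695) (.leaf 0))) (.node (.node (.leaf 261) (.leaf 2205) (.leaf 2422) (.leaf 2988)) (.node (.leaf 451) (.leaf 1572) (.leaf 2612) (.leaf 3314)) (.node (.leaf 957) (.leaf 2501) (.leaf 3240) (.leaf 0)) (.node (.leaf 978) (.leaf 2937) (.leaf 2169) (.leaf 0))) (.node (.node (.leaf 176) (.leaf 496) (.leaf 1742) (.leaf 2618)) (.node (.leaf 199) (.leaf 1873) (.leaf 3359) (.leaf 0)) (.node (.leaf 770) (.leaf 2696) (.leaf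 2488) (.leaf 0)) (.node (.leaf 1679) (.leaf 2166) (.leaf 3185) (.leaf 0)))) (.node (.node (.node (.leaf 171) (.leaf 390) (.leaf 2108) (.leaf 2321)) (.node (.leaf 399) (.leaf 861) (.leaf 3114) (.leaf 3459)) (.node (.leaf 391) (.leaf 1842) (.leaf 2940) (.leaf 0)) (.node (.leaf 941) (.leaf 2117) (.leaf 1522) (.leaf 0))) (.node (.node (.leaf 70) (.leaf 1135) (.leaf 2486) (.leaf 2403)) (.node (.leaf 693) (.leaf 1008) (.leaf 2657) (.leaf 3141)) (.node (.leaf 822) (.leaf 1894) (.leaf 3204) (.leaf 0)) (.node (.leaf 502) (.leaf 1233) (.leaf 3279) (.leaf 0))) (.node (.node (.leaf 98) (.leaf 1245) (.leaf 2523) (.leaf 2073)) (.node (.leaf 336) (.leaf 2334) (.leaf 2913) (.leaf 3507)) (.node (.leaf 839) (.leaf 1910) (.leaf 3197) (.leaf 0)) (.node (.leaf 403) (.leaf 2932) (.leaf 2903) (.leaf 0))) (.node (.node (.leaf 73) (.leaf 2473) (.leaf 3219) (.leaf 3442)) (.node (.leaf 523) (.leaf 1047) (.leaf 3332) (.leaf 0)) (.node (.leaf 292)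 (.leaf 1729) (.leaf 2362) (.leaf 0)) (.node (.leaf 1088) (.leaf 3337) (.leaf 3246) (.leaf 0)))) (.node (.node (.node (.leaf 11) (.leaf 1957) (.leaf 3006) (.leaf 2483)) (.node (.leaf 700) (.leaf 1125) (.leaf 1432) (.leaf 2565)) (.node (.leaf 850) (.leaf 1826) (.leaf 2125) (.leaf 0)) (.node (.leaf 263) (.leaf 2214) (.leaf 2655) (.leaf 0))) (.node (.node (.leaf 135) (.leaf 1497) (.leaf 2930) (.leaf 3215)) (.node (.leaf 966) (.leaf 1866) (.leaf 2356) (.leaf 3179)) (.node (.leaf 784) (.leaf 1852) (.leaf 2348) (.leaf 0)) (.node (.leaf 614) (.leaf 2584) (.leaf 1896) (.leaf 0))) (.node (.node (.leaf 508) (.leaf 1640) (.leaf 2216) (.leaf 3034)) (.node (.leaf 463) (.leaf 1552) (.leaf 2946) (.leaf 0)) (.node (.leaf 1202) (.leaf 3161) (.leaf 3208) (.leaf 0)) (.node (.leaf 1516) (.leaf 1983) (.leaf 2744) (.leaf 0))) (.node (.node (.leaf 435) (.leaf 577) (.leaf 1411) (.leaf 3431)) (.node (.leaf 597) (.leaf 2413) (.leaf 2753) (.leaf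 0)) (.node (.leaf 1162) (.leaf 2531) (.leaf 2675) (.leaf 0)) (.node (.leaf 1020) (.leaf 1483) (.leaf 3352) (.leaf 0)))))

def xTree11 : SporBound.Q ℕ := (.node (.node (.node (.node (.leaf 14) (.leaf 1129) (.leaf 1753) (.leaf 3433)) (.node (.leaf 537) (.leaf 1144) (.leaf 1356) (.leaf 3324)) (.node (.leaf 883) (.leaf 1000) (.leaf 2309) (.leaf 0)) (.node (.leaf 980) (.leaf 2925) (.leaf 3144) (.leaf 0))) (.node (.node (.leaf 117) (.leaf 1480) (.leaf 1697) (.leaf 2975)) (.node (.leaf 713) (.leaf 1628) (.leaf 2401) (.leaf 2197)) (.node (.leaf 774) (.leaf 955) (.leaf 3243) (.leaf 0)) (.node (.leaf 1276) (.leaf 1601) (.leaf 3288) (.leaf 0))) (.node (.node (.leaf 173) (.leaf 1485) (.leaf 2467) (.leaf 3483)) (.node (.leaf 812) (.leaf 2299) (.leaf 1966) (.leaf 3241)) (.node (.leaf 644) (.leaf 1313) (.leaf 1805) (.leaf 0)) (.node (.leaf 1055) (.leaf 2801) (.leaf 2610) (.leaf 0))) (.node (.node (.leaf 571) (.leaf 2074) (.leaf 2960)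 (.leaf 3280)) (.node (.leaf 1277) (.leaf 1292) (.leaf 2451) (.leaf 0)) (.node (.leaf 1239) (.leaf 3156) (.leaf 3267) (.leaf 0)) (.node (.leaf 1240) (.leaf 2027) (.leaf 1771) (.leaf 0)))) (.node (.node (.node (.leaf 25) (.leaf 1209) (.leaf 2530) (.leaf 1956)) (.node (.leaf 155) (.leaf 1108) (.leaf 2628) (.leaf 2973)) (.node (.leaf 214) (.leaf 2221) (.leaf 2924) (.leaf 0)) (.node (.leaf 584) (.leaf 1876) (.leaf 2452) (.leaf 0))) (.node (.node (.leaf 22) (.leaf 754) (.leaf 2372) (.leaf 2950)) (.node (.leaf 557) (.leaf 2700) (.leaf 1612) (.leaf 2826)) (.node (.leaf 779) (.leaf 1561) (.leaf 2479) (.leaf 0)) (.node (.leaf 1325) (.leaf 2887) (.leaf 1322) (.leaf 0))) (.node (.node (.leaf 78) (.leaf 1012) (.leaf 1784) (.leaf 2829)) (.node (.leaf 312) (.leaf 2734) (.leaf 3375) (.leaf 3284)) (.node (.leaf 880) (.leaf 1661) (.leaf 3248) (.leaf 0)) (.node (.leaf 304) (.leaf 2186) (.leaf 3449) (.leaf 0))) (.node (.node (.leaf 124) (.leaf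 1575) (.leaf 1513) (.leaf 2599)) (.node (.leaf 797) (.leaf 767) (.leaf 1182) (.leaf 0)) (.node (.leaf 1264) (.leaf 2947) (.leaf 2761) (.leaf 0)) (.node (.leaf 525) (.leaf 2635) (.leaf 1895) (.leaf 0)))) (.node (.node (.node (.leaf 26) (.leaf 1066) (.leaf 1985) (.leaf 3370)) (.node (.leaf 160) (.leaf 1494) (.leaf 3227) (.leaf 3071)) (.node (.leaf 698) (.leaf 1383) (.leaf 1226) (.leaf 0)) (.node (.leaf 591) (.leaf 1199) (.leaf 2420) (.leaf 0))) (.node (.node (.leaf 61) (.leaf 1581) (.leaf 2198) (.leaf 2880)) (.node (.leaf 153) (.leaf 745) (.leaf 3394) (.leaf 2636)) (.node (.leaf 416) (.leaf 2174) (.leaf 3211) (.leaf 0)) (.node (.leaf 1444) (.leaf 1786) (.leaf 2338) (.leaf 0))) (.node (.node (.leaf 422) (.leaf 1187) (.leaf 2699) (.leaf 3379)) (.node (.leaf 352) (.leaf 1249) (.leaf 3039) (.leaf 3425)) (.node (.leaf 221) (.leaf 2132) (.leaf 3053) (.leaf 0)) (.node (.leaf 757) (.leaf 2303) (.leaf 1984) (.leaf 0))) (.node (.node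 (.leaf 249) (.leaf 1134) (.leaf 1923) (.leaf 2485)) (.node (.leaf 328) (.leaf 1685) (.leaf 2559) (.leaf 0)) (.node (.leaf 855) (.leaf 1191) (.leaf 2977) (.leaf 0)) (.node (.leaf 1609) (.leaf 2313) (.leaf 2480) (.leaf 0)))) (.node (.node (.node (.leaf 28) (.leaf 1625) (.leaf 2038) (.leaf 2224)) (.node (.leaf 340) (.leaf 904) (.leaf 1815) (.leaf 3368)) (.node (.leaf 1065) (.leaf 1100) (.leaf 3270) (.leaf 0)) (.node (.leaf 542) (.leaf 1860) (.leaf 2432) (.leaf 0))) (.node (.node (.leaf 215) (.leaf 1519) (.leaf 2078) (.leaf 3061)) (.node (.leaf 968) (.leaf 2277) (.leaf 2399) (.leaf 3484)) (.node (.leaf 539) (.leaf 1779) (.leaf 2656) (.leaf 0)) (.node (.leaf 695) (.leaf 1406) (.leaf 2804) (.leaf 0))) (.node (.node (.leaf 131) (.leaf 1653) (.leaf 3250) (.leaf 3191)) (.node (.leaf 375) (.leaf 1629) (.leaf 2710) (.leaf 0)) (.node (.leaf 905) (.leaf 1843) (.leaf 3116) (.leaf 0)) (.node (.leaf 492) (.leaf 2199) (.leaf 2569) (.leaf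 0))) (.node (.node (.leaf 112) (.leaf 1069) (.leaf 3254) (.leaf 3099)) (.node (.leaf 269) (.leaf 1169) (.leaf 2917) (.leaf 0)) (.node (.leaf 386) (.leaf 3112) (.leaf 1712) (.leaf 0)) (.node (.leaf 366) (.leaf 2409) (.leaf 1622) (.leaf 0)))))

def xTree12 : SporBound.Q ℕ := (.node (.node (.node (.node (.leaf 6) (.leaf 1917) (.leaf 1738) (.leaf 2544)) (.node (.leaf 334) (.leaf 985) (.leaf 2542) (.leaf 3372)) (.node (.leaf 740) (.leaf 2095) (.leaf 2382) (.leaf 0)) (.node (.leaf 953) (.leaf 2580) (.leaf 1851) (.leaf 0))) (.node (.node (.leaf 116) (.leaf 783) (.leaf 1436) (.leaf 3502)) (.node (.leaf 310) (.leaf 1167) (.leaf 3158) (.leaf 2178)) (.node (.leaf 909) (.leaf 1967) (.leaf 1695) (.leaf 0)) (.node (.leaf 1377) (.leaf 3087) (.leaf 1229) (.leaf 0))) (.node (.node (.leaf 96) (.leaf 1353) (.leaf 2172) (.leaf 2809)) (.node (.leaf 795) (.leaf 1571) (.leaf 1918) (.leaf 2732)) (.node (.leaf 1079) (.leaf 1324) (.leaf 2733) (.leaf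 0)) (.node (.leaf 281) (.leaf 2943) (.leaf 2949) (.leaf 0))) (.node (.node (.leaf 270) (.leaf 2072) (.leaf 2400) (.leaf 3085)) (.node (.leaf 193) (.leaf 1283) (.leaf 3390) (.leaf 0)) (.node (.leaf 776) (.leaf 1576) (.leaf 2118) (.leaf 0)) (.node (.leaf 1677) (.leaf 2398) (.leaf 2058) (.leaf 0)))) (.node (.node (.node (.leaf 100) (.leaf 387) (.leaf 1822) (.leaf 3096)) (.node (.leaf 489) (.leaf 2185) (.leaf 2711) (.leaf 2668)) (.node (.leaf 474) (.leaf 2330) (.leaf 2896) (.leaf 0)) (.node (.leaf 948) (.leaf 2562) (.leaf 2091) (.leaf 0))) (.node (.node (.leaf 208) (.leaf 1293) (.leaf 2424) (.leaf 3399)) (.node (.leaf 222) (.leaf 2314) (.leaf 1970) (.leaf 3256)) (.node (.leaf 1518) (.leaf 2783) (.leaf 3265) (.leaf 0)) (.node (.leaf 2248) (.leaf 1349) (.leaf 2679) (.leaf 0))) (.node (.node (.leaf 425) (.leaf 1429) (.leaf 2457) (.leaf 1431)) (.node (.leaf 715) (.leaf 2100) (.leaf 3329) (.leaf 3073)) (.node (.leaf 647) (.leaf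 1482) (.leaf 1874) (.leaf 0)) (.node (.leaf 1301) (.leaf 2158) (.leaf 1672) (.leaf 0))) (.node (.node (.leaf 475) (.leaf 1073) (.leaf 1430) (.leaf 1857)) (.node (.leaf 316) (.leaf 987) (.leaf 2637) (.leaf 0)) (.node (.leaf 772) (.leaf 2595) (.leaf 3102) (.leaf 0)) (.node (.leaf 1171) (.leaf 1652) (.leaf 2484) (.leaf 0)))) (.node (.node (.node (.leaf 180) (.leaf 1642) (.leaf 2713) (.leaf 2884)) (.node (.leaf 657) (.leaf 1327) (.leaf 2333) (.leaf 3210)) (.node (.leaf 773) (.leaf 915) (.leaf 2627) (.leaf 0)) (.node (.leaf 984) (.leaf 2427) (.leaf 2671) (.leaf 0))) (.node (.node (.leaf 71) (.leaf 1435) (.leaf 2222) (.leaf 2824)) (.node (.leaf 1091) (.leaf 2044) (.leaf 2283) (.leaf 2290)) (.node (.leaf 490) (.leaf 1052) (.leaf 2843) (.leaf 0)) (.node (.leaf 1296) (.leaf 1827) (.leaf 3032) (.leaf 0))) (.node (.node (.leaf 99) (.leaf 1254) (.leaf 2821) (.leaf 2881)) (.node (.leaf 446) (.leaf 791) (.leaf 2718) (.leaf 3481)) (.node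 (.leaf 764) (.leaf 1536) (.leaf 1783) (.leaf 0)) (.node (.leaf 825) (.leaf 2084) (.leaf 3230) (.leaf 0))) (.node (.node (.leaf 800) (.leaf 447) (.leaf 3120) (.leaf 2550)) (.node (.leaf 1152) (.leaf 1409) (.leaf 2768) (.leaf 0)) (.node (.leaf 266) (.leaf 2097) (.leaf 3055) (.leaf 0)) (.node (.leaf 1279) (.leaf 2285) (.leaf 2755) (.leaf 0)))) (.node (.node (.node (.leaf 29) (.leaf 354) (.leaf 1987) (.leaf 3167)) (.node (.leaf 216) (.leaf 1481) (.leaf 3134) (.leaf 2577)) (.node (.leaf 241) (.leaf 2068) (.leaf 2255) (.leaf 0)) (.node (.leaf 277) (.leaf 1608) (.leaf 2933) (.leaf 0))) (.node (.node (.leaf 136) (.leaf 901) (.leaf 2527) (.leaf 3166)) (.node (.leaf 417) (.leaf 1212) (.leaf 2281) (.leaf 3255)) (.node (.leaf 642) (.leaf 1179) (.leaf 1931) (.leaf 0)) (.node (.leaf 1450) (.leaf 2014) (.leaf 1278) (.leaf 0))) (.node (.node (.leaf 125) (.leaf 750) (.leaf 2545) (.leaf 2835)) (.node (.leaf 473) (.leaf 1660) (.leaf 2442)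 (.leaf 0)) (.node (.leaf 916) (.leaf 1673) (.leaf 3363) (.leaf 0)) (.node (.leaf 950) (.leaf 1441) (.leaf 2644) (.leaf 0))) (.node (.node (.leaf 339) (.leaf 2180) (.leaf 3416) (.leaf 2623)) (.node (.leaf 860) (.leaf 1227) (.leaf 2879) (.leaf 0)) (.node (.leaf 927) (.leaf 2096) (.leaf 2032) (.leaf 0)) (.node (.leaf 885) (.leaf 1953) (.leaf 2991) (.leaf 0)))))

def xTree13 : SporBound.Q ℕ := (.node (.node (.node (.node (.leaf 5) (.leaf 938) (.leaf 2606) (.leaf 2891)) (.node (.leaf 279) (.leaf 1139) (.leaf 2828) (.leaf 2614)) (.node (.leaf 1228) (.leaf 1448) (.leaf 3078) (.leaf 0)) (.node (.leaf 979) (.leaf 1717) (.leaf 1991) (.leaf 0))) (.node (.node (.leaf 129) (.leaf 920) (.leaf 2368) (.leaf 2886)) (.node (.leaf 1043) (.leaf 2616) (.leaf 1906) (.leaf 3269)) (.node (.leaf 382) (.leaf 2043) (.leaf 2546) (.leaf 0)) (.node (.leaf 583) (.leaf 2000) (.leaf 2708) (.leaf 0))) (.node (.node (.leaf 374) (.leaf 2369) (.leaf 2632)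 (.leaf 3395)) (.node (.leaf 479) (.leaf 787) (.leaf 1806) (.leaf 2739)) (.node (.leaf 1225) (.leaf 2046) (.leaf 3187) (.leaf 0)) (.node (.leaf 726) (.leaf 2802) (.leaf 3009) (.leaf 0))) (.node (.node (.leaf 707) (.leaf 711) (.leaf 2600) (.leaf 2957)) (.node (.leaf 357) (.leaf 2030) (.leaf 1898) (.leaf 0)) (.node (.leaf 442) (.leaf 2435) (.leaf 2363) (.leaf 0)) (.node (.leaf 862) (.leaf 1945) (.leaf 2952) (.leaf 0)))) (.node (.node (.node (.leaf 24) (.leaf 1770) (.leaf 3070) (.leaf 1941)) (.node (.leaf 195) (.leaf 1631) (.leaf 2540) (.leaf 3346)) (.node (.leaf 421) (.leaf 1231) (.leaf 2227) (.leaf 0)) (.node (.leaf 1690) (.leaf 1793) (.leaf 2660) (.leaf 0))) (.node (.node (.leaf 213) (.leaf 532) (.leaf 2162) (.leaf 2429)) (.node (.leaf 748) (.leaf 1566) (.leaf 3076) (.leaf 3386)) (.node (.leaf 674) (.leaf 1610) (.leaf 1044) (.leaf 0)) (.node (.leaf 601) (.leaf 2104) (.leaf 2624) (.leaf 0))) (.node (.node (.leaf 79) (.leaf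 1921) (.leaf 3245) (.leaf 2093)) (.node (.leaf 634) (.leaf 1076) (.leaf 2008) (.leaf 3075)) (.node (.leaf 712) (.leaf 1856) (.leaf 2793) (.leaf 0)) (.node (.leaf 669) (.leaf 1408) (.leaf 2619) (.leaf 0))) (.node (.node (.leaf 121) (.leaf 1754) (.leaf 1616) (.leaf 3143)) (.node (.leaf 201) (.leaf 760) (.leaf 2234) (.leaf 0)) (.node (.leaf 913) (.leaf 1569) (.leaf 2160) (.leaf 0)) (.node (.leaf 1173) (.leaf 1490) (.leaf 2919) (.leaf 0)))) (.node (.node (.node (.leaf 36) (.leaf 951) (.leaf 1466) (.leaf 1425)) (.node (.leaf 659) (.leaf 1563) (.leaf 1437) (.leaf 3335)) (.node (.leaf 1021) (.leaf 2279) (.leaf 2683) (.leaf 0)) (.node (.leaf 1415) (.leaf 1667) (.leaf 2672) (.leaf 0))) (.node (.node (.leaf 53) (.leaf 937) (.leaf 1763) (.leaf 3041)) (.node (.leaf 378) (.leaf 900) (.leaf 2447) (.leaf 2862)) (.node (.leaf 307) (.leaf 1668) (.leaf 2013) (.leaf 0)) (.node (.leaf 1050) (.leaf 1237) (.leaf 3015) (.leaf 0))) (.node (.node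 (.leaf 109) (.leaf 1382) (.leaf 2688) (.leaf 3252)) (.node (.leaf 427) (.leaf 2520) (.leaf 2597) (.leaf 3084)) (.node (.leaf 1352) (.leaf 2004) (.leaf 2594) (.leaf 0)) (.node (.leaf 1381) (.leaf 2868) (.leaf 2357) (.leaf 0))) (.node (.node (.leaf 327) (.leaf 2011) (.leaf 2506) (.leaf 2916)) (.node (.leaf 426) (.leaf 1287) (.leaf 2643) (.leaf 0)) (.node (.leaf 638) (.leaf 1195) (.leaf 2220) (.leaf 0)) (.node (.leaf 1362) (.leaf 1544) (.leaf 3297) (.leaf 0)))) (.node (.node (.node (.leaf 42) (.leaf 1578) (.leaf 1040) (.leaf 2721)) (.node (.leaf 710) (.leaf 510) (.leaf 2676) (.leaf 2972)) (.node (.leaf 469) (.leaf 2079) (.leaf 2686) (.leaf 0)) (.node (.leaf 946) (.leaf 3278) (.leaf 3328) (.leaf 0))) (.node (.node (.leaf 144) (.leaf 1476) (.leaf 1704) (.leaf 2351)) (.node (.leaf 418) (.leaf 1366) (.leaf 2410) (.leaf 3497)) (.node (.leaf 639) (.leaf 1764) (.leaf 2521) (.leaf 0)) (.node (.leaf 1300) (.leaf 3274) (.leaf 2417)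 (.leaf 0))) (.node (.node (.leaf 519) (.leaf 2264) (.leaf 1730) (.leaf 3170)) (.node (.leaf 981) (.leaf 1858) (.leaf 2295) (.leaf 0)) (.node (.leaf 234) (.leaf 2367) (.leaf 1646) (.leaf 0)) (.node (.leaf 989) (.leaf 2312) (.leaf 2926) (.leaf 0))) (.node (.node (.leaf 863) (.leaf 2460) (.leaf 2458) (.leaf 3446)) (.node (.leaf 431) (.leaf 2538) (.leaf 2899) (.leaf 0)) (.node (.leaf 819) (.leaf 1074) (.leaf 2161) (.leaf 0)) (.node (.leaf 1027) (.leaf 1621) (.leaf 1611) (.leaf 0)))))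

def xTree14 : SporBound.Q ℕ := (.node (.node (.node (.node (.leaf 0) (.leaf 552) (.leaf 1496) (.leaf 2904)) (.node (.leaf 682) (.leaf 1343) (.leaf 2663) (.leaf 3447)) (.node (.leaf 397) (.leaf 2183) (.leaf 2805) (.leaf 0)) (.node (.leaf 598) (.leaf 2249) (.leaf 3128) (.leaf 0))) (.node (.node (.leaf 76) (.leaf 538) (.leaf 1705) (.leaf 2872)) (.node (.leaf 322) (.leaf 2329) (.leaf 2260) (.leaf 3410)) (.node (.leaf 1072) (.leaf 1439) (.leaf 1759) (.leaf 0)) (.node (.leaf 1017) (.leaf 2257) (.leaf 2765) (.leaf 0))) (.node (.node (.leaf 147) (.leaf 829) (.leaf 2492) (.leaf 2944)) (.node (.leaf 546) (.leaf 1756) (.leaf 3373) (.leaf 2322)) (.node (.leaf 910) (.leaf 1548) (.leaf 1399) (.leaf 0)) (.node (.leaf 999) (.leaf 2685) (.leaf 3461) (.leaf 0))) (.node (.node (.leaf 113) (.leaf 1530) (.leaf 1463) (.leaf 2509)) (.node (.leaf 847) (.leaf 1836) (.leaf 2454) (.leaf 0)) (.node (.leaf 890) (.leaf 1649) (.leaf 3257) (.leaf 0))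 (.node (.leaf 1405) (.leaf 3014) (.leaf 2593) (.leaf 0)))) (.node (.node (.node (.leaf 97) (.leaf 1241) (.leaf 1745) (.leaf 3403)) (.node (.leaf 287) (.leaf 499) (.leaf 3132) (.leaf 3140)) (.node (.leaf 276) (.leaf 436) (.leaf 1542) (.leaf 0)) (.node (.leaf 704) (.leaf 1255) (.leaf 1421) (.leaf 0))) (.node (.node (.leaf 50) (.leaf 815) (.leaf 1871) (.leaf 1512)) (.node (.leaf 233) (.leaf 902) (.leaf 2998) (.leaf 3258)) (.node (.leaf 817) (.leaf 1390) (.leaf 1796) (.leaf 0)) (.node (.leaf 1010) (.leaf 2360) (.leaf 3062) (.leaf 0))) (.node (.node (.leaf 282) (.leaf 1274) (.leaf 2911) (.leaf 3186)) (.node (.leaf 1045) (.leaf 283) (.leaf 3022) (.leaf 2970)) (.node (.leaf 892) (.leaf 1848) (.leaf 2171) (.leaf 0)) (.node (.leaf 967) (.leaf 3111) (.leaf 2983) (.leaf 0))) (.node (.node (.leaf 115) (.leaf 633) (.leaf 2758) (.leaf 2384)) (.node (.leaf 808) (.leaf 1713) (.leaf 2243) (.leaf 0)) (.node (.leaf 1112) (.leaf 2464) (.leaf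 1370) (.leaf 0)) (.node (.leaf 919) (.leaf 2035) (.leaf 2871) (.leaf 0)))) (.node (.node (.node (.leaf 18) (.leaf 348) (.leaf 2347) (.leaf 3104)) (.node (.leaf 103) (.leaf 1403) (.leaf 1365) (.leaf 3010)) (.node (.leaf 692) (.leaf 1864) (.leaf 3330) (.leaf 0)) (.node (.leaf 743) (.leaf 730) (.leaf 1524) (.leaf 0))) (.node (.node (.leaf 85) (.leaf 932) (.leaf 2551) (.leaf 2819)) (.node (.leaf 231) (.leaf 1011) (.leaf 3047) (.leaf 2103)) (.node (.leaf 518) (.leaf 1058) (.leaf 2638) (.leaf 0)) (.node (.leaf 606) (.leaf 2135) (.leaf 3289) (.leaf 0))) (.node (.node (.leaf 223) (.leaf 1819) (.leaf 2830) (.leaf 2725)) (.node (.leaf 353) (.leaf 747) (.leaf 1830) (.leaf 3312)) (.node (.leaf 545) (.leaf 1930) (.leaf 3113) (.leaf 0)) (.node (.leaf 807) (.leaf 2388) (.leaf 3418) (.leaf 0))) (.node (.node (.leaf 202) (.leaf 1467) (.leaf 3234) (.leaf 2825)) (.node (.leaf 960) (.leaf 1308) (.leaf 2785) (.leaf 0)) (.node (.leaf 961) (.leaf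 1567) (.leaf 1838) (.leaf 0)) (.node (.leaf 457) (.leaf 3012) (.leaf 3069) (.leaf 0)))) (.node (.node (.node (.leaf 123) (.leaf 550) (.leaf 3224) (.leaf 3384)) (.node (.leaf 579) (.leaf 1890) (.leaf 2376) (.leaf 3007)) (.node (.leaf 1023) (.leaf 1133) (.leaf 2083) (.leaf 0)) (.node (.leaf 906) (.leaf 1556) (.leaf 2105) (.leaf 0))) (.node (.node (.leaf 544) (.leaf 578) (.leaf 2906) (.leaf 2875)) (.node (.leaf 622) (.leaf 1487) (.leaf 2651) (.leaf 3147)) (.node (.leaf 372) (.leaf 1776) (.leaf 2002) (.leaf 0)) (.node (.leaf 1270) (.leaf 2017) (.leaf 1455) (.leaf 0))) (.node (.node (.leaf 200) (.leaf 1101) (.leaf 1939) (.leaf 2764)) (.node (.leaf 388) (.leaf 1840) (.leaf 2806) (.leaf 0)) (.node (.leaf 1350) (.leaf 1909) (.leaf 2225) (.leaf 0)) (.node (.leaf 1215) (.leaf 2297) (.leaf 3276) (.leaf 0))) (.node (.node (.leaf 362) (.leaf 1197) (.leaf 2818) (.leaf 3189)) (.node (.leaf 271) (.leaf 1137) (.leaf 2358) (.leaf 0)) (.node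 (.leaf 660) (.leaf 1508) (.leaf 2986) (.leaf 0)) (.node (.leaf 1016) (.leaf 2012) (.leaf 3008) (.leaf 0)))))

def xTree15 : SporBound.Q ℕ := (.node (.node (.node (.node (.leaf 1) (.leaf 2063) (.leaf 3302) (.leaf 2905)) (.node (.leaf 349) (.leaf 389) (.leaf 3107) (.leaf 3290)) (.node (.leaf 1321) (.leaf 1459) (.leaf 2408) (.leaf 0)) (.node (.leaf 645) (.leaf 3079) (.leaf 2487) (.leaf 0))) (.node (.node (.leaf 15) (.leaf 1515) (.leaf 2928) (.leaf 3496)) (.node (.leaf 333) (.leaf 688) (.leaf 3043) (.leaf 3415)) (.node (.leaf 1364) (.leaf 2304) (.leaf 3221) (.leaf 0)) (.node (.leaf 285) (.leaf 2498) (.leaf 3011) (.leaf 0))) (.node (.node (.leaf 93) (.leaf 1099) (.leaf 1361) (.leaf 3462)) (.node (.leaf 443) (.leaf 1817) (.leaf 2306) (.leaf 3109)) (.node (.leaf 886) (.leaf 2021) (.leaf 2864) (.leaf 0)) (.node (.leaf 1307) (.leaf 2751) (.leaf 2157) (.leaf 0))) (.node (.node (.leaf 179) (.leaf 1680) (.leaf 2792) (.leaf 3273))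 (.node (.leaf 621) (.leaf 1102) (.leaf 2324) (.leaf 0)) (.node (.leaf 501) (.leaf 2720) (.leaf 2831) (.leaf 0)) (.node (.leaf 1674) (.leaf 2533) (.leaf 1847) (.leaf 0)))) (.node (.node (.node (.leaf 52) (.leaf 864) (.leaf 2945) (.leaf 2934)) (.node (.leaf 761) (.leaf 771) (.leaf 1995) (.leaf 3398)) (.node (.leaf 219) (.leaf 1201) (.leaf 2658) (.leaf 0)) (.node (.leaf 733) (.leaf 2120) (.leaf 2500) (.leaf 0))) (.node (.node (.leaf 83) (.leaf 509) (.leaf 2621) (.leaf 2207)) (.node (.leaf 146) (.leaf 1821) (.leaf 1613) (.leaf 2223)) (.node (.leaf 969) (.leaf 2588) (.leaf 1901) (.leaf 0)) (.node (.leaf 1841) (.leaf 1737) (.leaf 2757) (.leaf 0))) (.node (.node (.leaf 347) (.leaf 1813) (.leaf 1785) (.leaf 3038)) (.node (.leaf 286) (.leaf 721) (.leaf 2332) (.leaf 3067)) (.node (.leaf 255) (.leaf 1115) (.leaf 2561) (.leaf 0)) (.node (.leaf 1146) (.leaf 1063) (.leaf 3305) (.leaf 0))) (.node (.node (.leaf 486) (.leaf 1250) (.leaf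 1744) (.leaf 2955)) (.node (.leaf 983) (.leaf 2033) (.leaf 3357) (.leaf 0)) (.node (.leaf 1085) (.leaf 2567) (.leaf 3183) (.leaf 0)) (.node (.leaf 844) (.leaf 2237) (.leaf 2827) (.leaf 0)))) (.node (.node (.node (.leaf 4) (.leaf 1577) (.leaf 2122) (.leaf 2893)) (.node (.leaf 540) (.leaf 859) (.leaf 2512) (.leaf 3460)) (.node (.leaf 185) (.leaf 1311) (.leaf 2571) (.leaf 0)) (.node (.leaf 709) (.leaf 2439) (.leaf 1669) (.leaf 0))) (.node (.node (.leaf 189) (.leaf 1517) (.leaf 2379) (.leaf 3091)) (.node (.leaf 590) (.leaf 1768) (.leaf 2430) (.leaf 2736)) (.node (.leaf 528) (.leaf 2664) (.leaf 3413) (.leaf 0)) (.node (.leaf 1372) (.leaf 681) (.leaf 2954) (.leaf 0))) (.node (.node (.leaf 196) (.leaf 734) (.leaf 1618) (.leaf 1992)) (.node (.leaf 433) (.leaf 716) (.leaf 3361) (.leaf 3427)) (.node (.leaf 625) (.leaf 2639) (.leaf 3052) (.leaf 0)) (.node (.leaf 240) (.leaf 2617) (.leaf 2781) (.leaf 0))) (.node (.node (.leaf 516)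 (.leaf 701) (.leaf 2839) (.leaf 3397)) (.node (.leaf 511) (.leaf 1320) (.leaf 3382) (.leaf 0)) (.node (.leaf 531) (.leaf 2164) (.leaf 1736) (.leaf 0)) (.node (.leaf 1574) (.leaf 2259) (.leaf 3287) (.leaf 0)))) (.node (.node (.node (.leaf 75) (.leaf 1650) (.leaf 2511) (.leaf 2860)) (.node (.leaf 543) (.leaf 1594) (.leaf 2416) (.leaf 3001)) (.node (.leaf 775) (.leaf 2080) (.leaf 2126) (.leaf 0)) (.node (.leaf 548) (.leaf 1246) (.leaf 2534) (.leaf 0))) (.node (.node (.leaf 217) (.leaf 1888) (.leaf 2752) (.leaf 3477)) (.node (.leaf 206) (.leaf 635) (.leaf 1883) (.leaf 3223)) (.node (.leaf 1031) (.leaf 1834) (.leaf 3097) (.leaf 0)) (.node (.leaf 940) (.leaf 2019) (.leaf 2709) (.leaf 0))) (.node (.node (.leaf 646) (.leaf 1722) (.leaf 2493) (.leaf 2866)) (.node (.leaf 235) (.leaf 1543) (.leaf 1529) (.leaf 0)) (.node (.leaf 766) (.leaf 2489) (.leaf 2838) (.leaf 0)) (.node (.leaf 1889) (.leaf 1882) (.leaf 2269) (.leaf 0))) (.node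 (.node (.leaf 273) (.leaf 2411) (.leaf 2760) (.leaf 2603)) (.node (.leaf 871) (.leaf 2377) (.leaf 2109) (.leaf 0)) (.node (.leaf 535) (.leaf 1299) (.leaf 2062) (.leaf 0)) (.node (.leaf 1067) (.leaf 1351) (.leaf 1773) (.leaf 0)))))

def xTree : SporBound.Q ℕ := (.node (.node xTree0 xTree4 xTree8 xTree12) (.node xTree1 xTree5 xTree9 xTree13) (.node xTree2 xTree6 xTree10 xTree14) (.node xTree3 xTree7 xTree11 xTree15))

def steps0 : List (ℕ × ℕ) := [(1060, 2), (1060, 3), (1060, 4), (1060, 5), (1060, 6), (1060, 7), (1060, 8), (1060, 9), (1060, 10), (1060, 11), (1196, 3), (1196, 4), (1196, 5), (1196, 6), (1196, 7), (1196, 8), (1196, 9), (1196, 10), (1196, 11), (1196, 12), (1254, 4), (1254, 5), (1254, 6), (1254, 7), (1254, 8), (1254, 9), (1254, 10), (1254, 11), (1254, 12), (2187, 5), (2187, 6), (2187, 7), (2187, 8), (2187, 9), (2187, 10), (2187, 11), (2187, 12), (2467, 6), (2467, 7), (2467, 8), (2467, 9), (2467, 10), (2467, 11),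 (2467, 12), (2883, 7), (2883, 8), (2883, 9), (2883, 10), (2883, 11), (2883, 12), (2914, 8), (2914, 9), (2914, 10), (2914, 11), (2914, 12), (3110, 9), (3110, 10), (3110, 11), (3110, 12), (2707, 10), (2707, 11), (2707, 12), (2042, 11), (2042, 12), (1483, 12), (699, 3), (699, 4), (699, 5), (699, 6), (699, 7), (699, 8), (699, 9), (699, 11), (699, 12), (3460, 1), (3460, 4), (3460, 6), (3460, 8), (3460, 9), (3460, 10), (3460, 11), (3460, 12), (1669, 1), (1669, 2), (1669, 5), (1669, 6), (1669, 7), (1669, 11), (1669, 12), (647, 1), (647, 2), (647, 6), (647, 7), (647, 8), (647, 10), (647, 11), (647, 12), (387, 1), (387, 2), (387, 3), (387, 4), (387, 7), (387, 8), (387, 10), (387, 11), (387, 12), (1539, 1), (1539, 2), (1539, 4), (1539, 5), (1539, 8), (1539, 9), (1539, 10), (1539, 11), (1539, 12), (2845, 1), (2845, 2), (2845, 3), (2845, 5), (2845, 6), (2845, 9), (2845, 10), (2845, 12), (1766, 1), (1766, 2), (1766, 3), (1766, 7),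 (1766, 10), (1766, 11), (1766, 12), (1257, 1), (1257, 3), (1257, 5), (1257, 6), (1257, 7), (1257, 8), (1257, 11), (1257, 12), (1634, 1), (1634, 2), (1634, 3), (1634, 4), (1634, 5), (1634, 6), (1634, 7), (1634, 9), (905, 4), (905, 5), (905, 6), (905, 7), (905, 8), (905, 9), (905, 10), (905, 12), (3499, 2), (3499, 5), (3499, 7), (3499, 9), (3499, 10), (3499, 11), (3499, 12), (1263, 2), (1263, 3), (1263, 6), (1263, 7), (1263, 8), (1263, 12), (1028, 2), (1028, 3), (1028, 7), (1028, 8), (1028, 9), (1028, 11), (1028, 12), (676, 2), (676, 3), (676, 4), (676, 5), (676, 8), (676, 9), (676, 11), (676, 12), (2134, 2), (2134, 3), (2134, 5), (2134, 6), (2134, 9), (2134, 10), (2134, 11), (2134, 12), (2660, 2), (2660, 3), (2660, 4), (2660, 6), (2660, 7), (2660, 10), (2660, 11), (1412, 2), (1412, 3), (1412, 4)]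

def steps1 : List (ℕ × ℕ) := [(1412, 8), (1412, 11), (1412, 12), (2459, 2), (2459, 4), (2459, 6), (2459, 7), (2459, 8), (2459, 9), (2459, 12), (1446, 2), (1446, 3), (1446, 4), (1446, 5), (1446, 6), (1446, 7), (1446, 8), (1446, 10), (1460, 0), (1460, 5), (1460, 6), (1460, 7), (1460, 8), (1460, 9), (1460, 10), (1460, 11), (3425, 0), (3425, 3), (3425, 6), (3425, 8), (3425, 10), (3425, 11), (3425, 12), (701, 0), (701, 3), (701, 4), (701, 7), (701, 8), (701, 9), (1095, 0), (1095, 3), (1095, 4), (1095, 8), (1095, 9), (1095, 10), (1095, 12), (678, 0), (678, 3), (678, 4), (678, 5), (678, 6), (678, 9), (678, 10), (678, 12), (2428, 0), (2428, 3), (2428, 4), (2428, 6), (2428, 7), (2428, 10), (2428, 11), (2428, 12), (1046, 3), (1046, 4), (1046, 5), (1046, 7), (1046, 8), (1046, 11), (1046, 12), (2145, 0), (2145, 3), (2145, 4), (2145, 5), (2145, 9), (2145, 12), (3375, 3), (3375, 5), (3375, 7), (3375, 8), (3375, 9), (3375, 10), (1376,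 1), (1376, 6), (1376, 7), (1376, 8), (1376, 9), (1376, 10), (1376, 11), (1376, 12), (3106, 0), (3106, 1), (3106, 4), (3106, 7), (3106, 9), (3106, 11), (3106, 12), (234, 1), (234, 4), (234, 5), (234, 8), (234, 9), (234, 10), (1118, 0), (1118, 1), (1118, 4), (1118, 5), (1118, 9), (1118, 10), (1118, 11), (398, 0), (398, 1), (398, 4), (398, 5), (398, 6), (398, 7), (398, 10), (398, 11), (2281, 0), (2281, 1), (2281, 4), (2281, 5), (2281, 7), (2281, 8), (2281, 11), (2281, 12), (755, 0), (755, 4), (755, 5), (755, 6), (755, 8), (755, 9), (755, 12), (2863, 1), (2863, 4), (2863, 5), (2863, 6), (2863, 10), (1752, 0), (1752, 2), (1752, 7), (1752, 8), (1752, 9), (1752, 10), (1752, 11), (1752, 12), (1794, 0), (1794, 1), (1794, 2), (1794, 5), (1794, 8), (1794, 10), (1794, 12), (73, 2), (73, 5), (73, 6), (73, 9), (73, 10), (73, 11), (815, 1), (815, 2), (815, 5), (815, 6), (815, 10), (815, 11), (815, 12), (546, 1), (546, 2), (546, 5), (546,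 6), (546, 7), (546, 8), (546, 11), (546, 12), (1644, 0), (1644, 1), (1644, 2), (1644, 5), (1644, 6), (1644, 8), (1644, 9), (1644, 12), (668, 1), (668, 5), (668, 6), (668, 7), (668, 9), (668, 10), (1804, 0), (1804, 1), (1804, 3), (1804, 8), (1804, 9), (1804, 10), (1804, 11), (1804, 12), (1398, 0), (1398, 1), (1398, 2), (1398, 3), (1398, 6)]

def steps2 : List (ℕ × ℕ) := [(1398, 9), (1398, 11), (69, 3), (69, 6), (69, 7), (69, 10), (69, 11), (69, 12), (709, 0), (709, 2), (709, 3), (709, 6), (709, 7), (709, 11), (709, 12), (690, 0), (690, 2), (690, 3), (690, 6), (690, 7), (690, 8), (690, 9), (690, 12), (1052, 1), (1052, 2), (1052, 3), (1052, 6), (1052, 7), (1052, 9), (1052, 10), (2580, 0), (2580, 1), (2580, 2), (2580, 4), (2580, 9), (2580, 10), (2580, 11), (2580, 12), (1284, 1), (1284, 2), (1284, 3), (1284, 4), (1284, 7), (1284, 10), (1284, 12), (105, 0), (105, 4), (105, 7), (105, 8), (105, 11), (105, 12), (1181, 0), (1181,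 1), (1181, 3), (1181, 4), (1181, 7), (1181, 8), (1181, 12), (1639, 1), (1639, 3), (1639, 4), (1639, 7), (1639, 8), (1639, 9), (1639, 10), (2971, 0), (2971, 1), (2971, 2), (2971, 3), (2971, 5), (2971, 10), (2971, 11), (2971, 12), (973, 0), (973, 2), (973, 3), (973, 4), (973, 5), (973, 8), (973, 11), (256, 0), (256, 1), (256, 5), (256, 8), (256, 9), (256, 12), (1921, 1), (1921, 2), (1921, 4), (1921, 5), (1921, 8), (1921, 9), (3449, 0), (3449, 1), (3449, 2), (3449, 3), (3449, 4), (3449, 6), (3449, 11), (3449, 12), (862, 1), (862, 3), (862, 4), (862, 5), (862, 6), (862, 9), (862, 12), (568, 1), (568, 2), (568, 6), (568, 9), (568, 10), (3268, 0), (3268, 1), (3268, 2), (3268, 3), (3268, 4), (3268, 5), (3268, 7), (3268, 12), (1010, 2), (1010, 4), (1010, 5), (1010, 6), (1010, 7), (1010, 10), (2786, 1), (2786, 2), (2786, 3), (2786, 4), (2786, 5), (2786, 6), (2786, 8), (1917, 1), (1917, 4), (1917, 5), (1917, 6), (1917, 7), (1917,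 8), (1917, 9), (1917, 10), (1917, 12), (3037, 1), (3037, 5), (3037, 6), (3037, 7), (3037, 8), (3037, 9), (3037, 10), (3037, 11), (3037, 12), (2569, 1), (2569, 3), (2569, 6), (2569, 7), (2569, 10), (2569, 12), (1687, 1), (1687, 3), (1687, 4), (1687, 7), (1687, 8), (1687, 9), (1687, 10), (1687, 11), (1687, 12), (1895, 1), (1895, 3), (1895, 4), (1895, 5), (1895, 8), (1895, 9), (1895, 10), (1895, 11), (2265, 1), (2265, 3), (2265, 4), (2265, 5), (2265, 6), (2265, 9), (2265, 10), (3344, 1), (3344, 3), (3344, 4), (3344, 6), (3344, 7), (3344, 11), (1330, 1), (1330, 3), (1330, 4), (1330, 6), (1330, 7), (1330, 9), (1330, 12), (2239, 1), (2239, 3), (2239, 4), (2239, 5), (2239, 6), (2239, 10)]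

def steps3 : List (ℕ × ℕ) := [(2493, 4), (2493, 5), (2493, 6), (2493, 7), (2493, 11), (2493, 12), (2331, 1), (2331, 2), (2331, 7), (2331, 8), (2331, 9), (2331, 10), (2331, 11), (2331, 12), (238, 1), (238, 2), (238, 8), (238, 9), (238, 10), (238, 11), (238, 12), (1720, 2), (1720, 4), (1720, 5), (1720, 6), (1720, 9), (1720, 10), (1253, 2), (1253, 4), (1253, 5), (1253, 10), (1253, 11), (1253, 12), (713, 2), (713, 4), (713, 5), (713, 12), (1440, 1), (1440, 2), (1440, 4), (1440, 5), (1440, 6), (1440, 7), (1440, 8), (1440, 9), (1440, 12), (1747, 1), (1747, 2), (1747, 4), (1747, 5), (1747, 6), (1747, 7), (1747, 8), (1747, 9), (1747, 10), (3093, 2), (3093, 3), (3093, 5), (3093, 7), (3093, 8), (3093, 9), (3093, 10), (3093, 11), (3093, 12), (1322, 5), (1322, 7), (1322, 8), (1322, 9), (1322, 10), (1322, 12), (3447, 1), (3447, 2), (3447, 6), (3447, 8), (3447, 9), (3447, 10), (3447, 12), (756, 1), (756, 7), (756, 8), (756, 9), (756,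 10), (756, 12), (2216, 1), (2216, 2), (2216, 3), (2216, 9), (2216, 10), (2216, 11), (332, 1), (332, 3), (332, 7), (332, 8), (332, 9), (332, 12), (2101, 1), (2101, 2), (2101, 3), (2101, 6), (2101, 8), (2101, 9), (2101, 10), (2964, 2), (2964, 3), (2964, 4), (2964, 7), (2964, 9), (2964, 10), (2964, 11), (2964, 12), (1110, 6), (1110, 7), (1110, 9), (1110, 10), (1110, 11), (1110, 12), (1113, 1), (1113, 2), (1113, 3), (1113, 4), (1113, 7), (1113, 9), (626, 2), (626, 3), (626, 8), (626, 9), (626, 10), (192, 3), (192, 4), (192, 10), (192, 11), (192, 12), (1954, 1), (1954, 2), (1954, 3), (1954, 4), (1954, 7), (1954, 8), (1954, 11), (1954, 12), (3270, 1), (3270, 2), (3270, 3), (3270, 8), (3270, 9), (3270, 12), (810, 1), (810, 2), (810, 3), (810, 4), (810, 8), (810, 9), (810, 10), (941, 2), (941, 3), (941, 4), (941, 5), (941, 9), (941, 10), (941, 11), (941, 12), (1854, 3), (1854, 4), (1854, 5), (1854, 8), (1854, 9), (1854, 11), (1854,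 12), (994, 5), (994, 7), (994, 10), (994, 12), (3234, 1), (3234, 2), (3234, 7), (3234, 8), (3234, 9), (3234, 11), (3234, 12), (1385, 3), (1385, 4), (1385, 5), (1385, 8), (1385, 9), (1385, 10), (1385, 11), (2271, 2), (2271, 3), (2271, 4), (2271, 11), (142, 1), (142, 3), (142, 7), (3022, 1), (3022, 2), (3022, 4), (3022, 7), (3022, 8), (3022, 9), (3022, 12)]

def steps4 : List (ℕ × ℕ) := [(3463, 1), (3463, 2), (3463, 3), (3463, 4), (3463, 10), (3422, 2), (3422, 3), (3422, 4), (3422, 5), (3422, 10), (3422, 11), (3422, 12), (3251, 5), (3251, 9), (3251, 10), (3251, 11), (406, 1), (406, 6), (406, 8), (406, 10), (2317, 1), (2317, 2), (2317, 3), (2317, 8), (2317, 9), (2317, 11), (3126, 3), (3126, 6), (3126, 9), (3126, 11), (3126, 12), (211, 2), (211, 3), (211, 5), (211, 6), (211, 10), (211, 12), (3334, 1), (3334, 2), (3334, 4), (3334, 6), (3334, 8), (3334, 11), (3334, 12), (2544, 1), (2544, 2), (2544, 3), (2544, 5), (2544, 6),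 (2544, 8), (2544, 9), (2544, 12), (1593, 1), (1593, 8), (1593, 9), (1593, 10), (1828, 2), (1828, 9), (1828, 10), (1828, 11), (1828, 12), (1995, 3), (1995, 4), (1995, 5), (1995, 9), (1995, 10), (1995, 11), (357, 5), (357, 6), (357, 11), (357, 12), (1548, 2), (1548, 3), (1548, 6), (1548, 7), (1548, 9), (1548, 10), (1548, 11), (1548, 12), (1258, 3), (1258, 4), (1258, 9), (1258, 10), (1258, 11), (1849, 2), (1849, 4), (1849, 5), (1849, 6), (1849, 7), (1849, 10), (1849, 11), (2218, 1), (2218, 2), (2218, 4), (2218, 5), (2218, 6), (2218, 7), (673, 1), (673, 3), (673, 5), (673, 7), (673, 9), (673, 10), (821, 2), (821, 4), (821, 6), (821, 8), (821, 10), (821, 11), (425, 3), (425, 4), (425, 5), (425, 6), (425, 8), (425, 10), (3484, 5), (3484, 6), (3484, 7), (3484, 10), (3484, 11), (2693, 3), (2693, 5), (2693, 10), (2693, 12), (945, 1), (945, 2), (945, 3), (945, 4), (945, 5), (945, 11), (945, 12), (1948, 1), (1948, 3), (1948, 4),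 (1948, 5), (1948, 6), (1948, 8), (1948, 12), (2789, 3), (2789, 6), (2789, 7), (2789, 8), (2789, 10), (2974, 4), (2974, 5), (2974, 7), (2974, 8), (2974, 9), (2974, 11), (2974, 12), (724, 5), (724, 6), (724, 7), (724, 8), (724, 9), (724, 11), (724, 12), (2260, 1), (2260, 2), (2260, 3), (2260, 7), (2260, 12), (712, 1), (712, 2), (712, 7), (712, 8), (712, 9), (712, 12), (426, 1), (426, 2), (426, 9), (426, 12), (798, 1), (798, 2), (798, 3), (798, 4), (798, 5), (798, 6), (798, 11), (798, 12), (2853, 1), (2853, 2), (2853, 4), (2853, 8), (2853, 9), (2853, 12), (651, 1), (651, 2), (651, 3), (651, 4), (651, 5), (651, 6), (651, 7), (651, 9), (644, 2), (644, 3), (644, 4), (644, 5), (644, 6), (644, 7)]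

def steps5 : List (ℕ × ℕ) := [(644, 8), (644, 10), (644, 12), (2776, 3), (2776, 4), (2776, 5), (2776, 6), (2776, 7), (2776, 8), (2776, 9), (2776, 10), (2776, 12), (2422, 1), (2422, 4), (2422, 5), (2422, 8), (2422, 10), (2422, 12), (2938, 2), (2938, 5), (2938, 6), (2938, 7), (2938, 8), (2938, 9), (2938, 10), (3060, 1), (3060, 2), (3060, 3), (3060, 6), (3060, 7), (3060, 8), (3060, 9), (3060, 12), (2570, 1), (2570, 2), (2570, 3), (2570, 7), (2570, 8), (2570, 12), (1861, 1), (1861, 4), (1861, 5), (1861, 9), (934, 1), (934, 2), (934, 4), (934, 5), (934, 7), (934, 12), (3274, 0), (3274, 2), (3274, 5), (3274, 7), (3274, 8), (3274, 9), (3274, 10), (3274, 11), (2919, 0), (2919, 2), (2919, 6), (2919, 7), (2919, 8), (2919, 9), (2919, 10), (2919, 11), (2238, 0), (2238, 2), (2238, 4), (2238, 7), (2238, 8), (2238, 11), (1294, 0), (1294, 4), (1294, 5), (1294, 8), (1294, 9), (1294, 11), (1294, 12), (1312, 2), (1312, 4), (1312, 5), (1312,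 6), (1312, 9), (1312, 10), (2526, 2), (2526, 4), (2526, 5), (2526, 6), (2526, 10), (2526, 11), (3319, 2), (3319, 4), (3319, 5), (3319, 7), (3319, 8), (3319, 12), (790, 2), (790, 4), (790, 7), (790, 8), (790, 10), (2295, 5), (2295, 6), (2295, 8), (2295, 12), (2628, 2), (2628, 3), (2628, 8), (2628, 11), (2628, 12), (202, 0), (202, 3), (202, 11), (202, 12), (1636, 3), (1636, 5), (1636, 7), (1636, 10), (1198, 0), (1198, 5), (1198, 6), (1198, 12), (1568, 0), (1965, 2), (1965, 3), (1965, 5), (1965, 6), (1965, 7), (1965, 9), (1965, 10), (2381, 0), (2381, 3), (2381, 6), (2381, 8), (2381, 9), (2381, 10), (2381, 11), (861, 0), (861, 6), (861, 8), (861, 9), (861, 10), (861, 11), (3207, 0), (3207, 2), (3207, 3), (3207, 7), (3207, 10), (3207, 11), (1338, 2), (1338, 8), (1338, 9), (1338, 10), (1338, 11), (2421, 2), (2421, 3), (2421, 10), (2421, 11), (2421, 12), (310, 4), (310, 8), (310, 9), (3020, 0), (3020, 3), (3020, 4), (3020, 10),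 (3020, 11), (3020, 12), (1155, 0), (1155, 7), (1155, 8), (1155, 10), (1155, 11), (1155, 12), (2522, 2), (2522, 3), (2522, 4), (2522, 5), (2522, 8), (2522, 10), (814, 3), (814, 4), (814, 9), (814, 11), (74, 0), (74, 4), (74, 11), (74, 12), (2007, 0), (2007, 2), (2007, 3), (2007, 4), (2007, 5), (2007, 8), (2007, 9), (2007, 12), (3404, 2), (3404, 3), (3404, 4), (1381, 5)]

def steps6 : List (ℕ × ℕ) := [(1381, 6), (1556, 0), (1556, 6), (1556, 9), (1556, 10), (1556, 12), (995, 0), (995, 6), (3387, 0), (3387, 2), (3387, 8), (3387, 9), (3387, 10), (3387, 12), (843, 4), (843, 5), (843, 9), (843, 10), (843, 11), (843, 12), (1744, 3), (1744, 4), (1744, 5), (1744, 12), (147, 2), (2593, 2), (2593, 3), (2593, 5), (2593, 8), (2593, 10), (3258, 0), (3258, 3), (3258, 4), (3258, 5), (3258, 11), (3258, 12), (2727, 6), (2727, 10), (2727, 11), (2727, 12), (462, 2), (462, 9), (462, 11), (2828, 3), (2828, 4), (2828, 9), (2828, 10), (2828, 12),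 (1879, 0), (1879, 7), (1879, 12), (190, 0), (190, 3), (190, 6), (190, 7), (3298, 0), (3298, 2), (3298, 5), (3298, 7), (2517, 4), (2517, 7), (2517, 9), (2517, 10), (1626, 0), (1626, 3), (1626, 11), (2027, 4), (2027, 5), (2027, 6), (2027, 10), (2027, 11), (2027, 12), (617, 0), (617, 6), (617, 12), (2095, 0), (2095, 3), (2095, 7), (2095, 8), (2095, 10), (2095, 11), (2095, 12), (2473, 4), (2473, 5), (2473, 10), (2473, 11), (2473, 12), (2443, 5), (2443, 6), (2443, 7), (2443, 8), (2443, 11), (2443, 12), (2523, 2), (2523, 3), (2523, 5), (2523, 6), (2523, 7), (1684, 3), (1684, 5), (1684, 7), (1684, 9), (1684, 11), (1684, 12), (507, 4), (507, 5), (507, 6), (507, 7), (507, 9), (507, 11), (3073, 6), (3073, 8), (3073, 11), (3073, 12), (1266, 0), (1266, 4), (1266, 11), (653, 2), (2158, 2), (2158, 4), (2158, 5), (2158, 6), (2158, 7), (2158, 9), (2983, 0), (2983, 5), (2983, 9), (882, 0), (882, 6), (882, 8), (882, 9), (882, 10), (882,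 12), (1726, 0), (1726, 2), (1726, 3), (1726, 4), (1726, 8), (996, 0), (996, 2), (996, 3), (996, 9), (996, 10), (336, 0), (336, 2), (336, 3), (704, 0), (704, 2), (704, 4), (704, 6), (704, 7), (704, 12), (2294, 2), (2294, 3), (2294, 5), (2294, 9), (2294, 10), (1036, 3), (1036, 4), (1036, 6), (1036, 7), (1036, 11), (2738, 0), (2738, 5), (2738, 6), (2738, 7), (2738, 9), (3003, 2), (3003, 5), (3003, 6), (3003, 9), (3003, 11), (1896, 3), (1896, 6), (1896, 7), (1896, 8), (1896, 9), (1896, 10), (1896, 11), (3035, 0), (3035, 2), (3035, 3), (3035, 4), (3035, 7), (3035, 8), (2240, 0), (2240, 2), (2240, 3), (2240, 4), (2852, 2), (2852, 5), (2852, 6), (2852, 10), (944, 0), (944, 2), (944, 3), (944, 5), (944, 6), (944, 8), (858, 3)]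

def steps7 : List (ℕ × ℕ) := [(858, 5), (858, 8), (858, 9), (858, 11), (2041, 1), (2041, 3), (2041, 6), (2041, 8), (2041, 9), (2041, 10), (2041, 11), (2041, 12), (2589, 1), (2589, 3), (2589, 7), (2589, 8), (2589, 9), (2589, 10), (2589, 11), (2589, 12), (1939, 3), (1939, 5), (1939, 8), (1939, 9), (1939, 12), (1343, 0), (1343, 1), (1343, 5), (1343, 6), (1343, 9), (1343, 12), (476, 3), (476, 5), (476, 6), (476, 7), (476, 10), (476, 11), (2243, 3), (2243, 5), (2243, 6), (2243, 7), (2243, 11), (2243, 12), (2387, 0), (2387, 5), (2387, 8), (2387, 9), (2868, 3), (2868, 6), (2868, 7), (2868, 8), (2868, 10), (2868, 11), (2885, 0), (2885, 6), (2885, 7), (2885, 9), (2681, 0), (2681, 3), (2681, 9), (2681, 12), (174, 0), (174, 1), (174, 4), (174, 12), (2195, 4), (2195, 8), (2195, 11), (1819, 0), (1819, 1), (1819, 6), (1819, 7), (652, 5), (652, 9), (1906, 1), (1906, 4), (1906, 7), (1906, 9), (1906, 10), (1906, 11), (1906, 12), (601,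 1), (601, 7), (601, 9), (601, 10), (601, 11), (601, 12), (2349, 1), (2349, 3), (2349, 4), (2349, 8), (2349, 11), (2349, 12), (1125, 3), (1125, 9), (1125, 10), (1125, 11), (1125, 12), (2673, 0), (2673, 3), (2673, 4), (2673, 11), (2673, 12), (2178, 3), (2178, 4), (2178, 5), (2178, 12), (2058, 0), (2058, 1), (2058, 4), (2058, 5), (2058, 11), (2058, 12), (1038, 0), (1038, 1), (1038, 8), (1038, 9), (1038, 11), (1038, 12), (3359, 3), (3359, 4), (3359, 5), (3359, 9), (743, 4), (743, 5), (743, 10), (743, 12), (3, 0), (3, 1), (3, 5), (3, 12), (1877, 1), (1877, 3), (1877, 4), (1877, 5), (1877, 6), (1877, 9), (1877, 10), (2601, 3), (2601, 4), (2601, 6), (2601, 9), (1627, 6), (1627, 7), (2018, 0), (2018, 1), (2018, 7), (2018, 10), (1007, 1), (3368, 0), (3368, 3), (3368, 9), (3368, 11), (1276, 0), (1276, 6), (1276, 10), (1276, 11), (1276, 12), (1732, 0), (1732, 4), (1732, 5), (1732, 6), (254, 3), (1623, 8), (1623, 10), (1623, 11),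 (3034, 0), (3034, 1), (3034, 4), (3034, 5), (3034, 6), (3034, 12), (1935, 0), (1935, 7), (1935, 11), (1935, 12), (847, 3), (847, 10), (847, 12), (1851, 0), (1851, 4), (1851, 5), (1851, 10), (1851, 11), (1452, 0), (1452, 1), (200, 4), (200, 7), (200, 8), (2832, 1), (2832, 6), (2832, 8), (1489, 4), (1489, 12), (2313, 5), (2313, 6), (2313, 7), (2313, 12), (520, 0), (520, 1)]

def steps8 : List (ℕ × ℕ) := [(520, 7), (2122, 0), (2122, 1), (2122, 4), (2122, 8), (2122, 11), (2122, 12), (3355, 0), (3355, 5), (3355, 6), (3355, 11), (3355, 12), (1966, 0), (1966, 6), (1966, 8), (1966, 9), (1966, 12), (1182, 3), (1182, 4), (1182, 6), (1182, 7), (1182, 8), (2551, 3), (2551, 5), (2551, 6), (2551, 7), (2516, 0), (2516, 4), (2516, 6), (2516, 8), (2516, 12), (269, 5), (269, 6), (269, 7), (269, 8), (269, 12), (2525, 0), (2525, 7), (2525, 9), (2525, 12), (1122, 1), (1122, 5), (1225, 3), (2200, 1), (2200, 6), (2200, 10), (632, 0), (632, 10),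 (1909, 1), (1909, 9), (1009, 1), (1009, 11), (331, 4), (842, 3), (842, 5), (842, 7), (498, 4), (498, 6), (498, 10), (498, 12), (1721, 0), (1721, 2), (1721, 4), (1721, 7), (1721, 10), (1721, 11), (1721, 12), (2227, 2), (2227, 4), (2227, 8), (2227, 9), (2227, 10), (2227, 11), (2227, 12), (2110, 0), (2110, 4), (2110, 6), (2110, 9), (2110, 10), (1594, 1), (1594, 2), (1594, 7), (1594, 10), (316, 4), (316, 6), (316, 7), (316, 11), (316, 12), (1655, 0), (1655, 4), (1655, 6), (1655, 7), (1655, 8), (1655, 12), (2267, 1), (2267, 6), (2267, 10), (3103, 7), (3103, 8), (3103, 9), (3103, 11), (3103, 12), (3031, 1), (3031, 7), (3031, 8), (3031, 10), (2630, 0), (2630, 1), (2630, 4), (223, 0), (223, 1), (223, 2), (223, 5), (2366, 5), (2366, 9), (1876, 1), (1876, 2), (1079, 6), (1079, 10), (2364, 0), (2364, 2), (2364, 5), (2364, 8), (2364, 10), (2364, 11), (2364, 12), (530, 8), (530, 10), (530, 11), (530, 12), (1437, 0), (1437, 4), (1437,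 5), (1437, 9), (1437, 12), (872, 0), (872, 4), (872, 10), (872, 11), (872, 12), (2374, 0), (2374, 1), (2374, 4), (2374, 5), (1605, 1), (1605, 2), (1605, 4), (1605, 5), (1605, 6), (1605, 7), (1605, 10), (1605, 11), (1595, 4), (1595, 5), (1595, 6), (1839, 0), (1839, 1), (1839, 2), (1839, 5), (1839, 6), (1839, 12), (552, 0), (552, 1), (552, 9), (552, 10), (552, 12), (3398, 4), (3398, 5), (3398, 6), (3398, 10), (1545, 0), (1545, 5), (1545, 6), (1545, 11), (12, 0), (12, 2), (12, 6), (362, 4), (2519, 5), (2519, 7), (1561, 8), (2057, 1), (2057, 2), (2057, 8), (2057, 11), (1574, 2), (3500, 1), (3500, 4), (3500, 12), (2180, 0), (2180, 7), (2180, 11), (2180, 12), (1999, 1), (1999, 6), (1999, 7), (3029, 2), (3029, 7), (3029, 9), (1083, 9)]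

def steps9 : List (ℕ × ℕ) := [(1083, 11), (3185, 1), (3185, 2), (3185, 5), (3185, 6), (3185, 7), (2751, 0), (2751, 1), (2751, 8), (285, 0), (285, 4), (1860, 1), (1860, 5), (1860, 6), (1860, 11), (791, 1), (791, 2), (680, 5), (680, 8), (1274, 4), (1274, 5), (1274, 8), (1274, 9), (1274, 12), (1096, 0), (1096, 5), (1401, 0), (1401, 6), (1401, 7), (1401, 8), (284, 1), (284, 2), (284, 8), (1952, 0), (1952, 1), (1952, 2), (1952, 5), (1952, 9), (1952, 12), (2973, 0), (2973, 1), (2973, 12), (2388, 1), (2388, 7), (2388, 9), (2388, 10), (2907, 4), (2907, 6), (2907, 7), (2907, 8), (3342, 0), (3342, 1), (3342, 5), (3342, 7), (3342, 9), (279, 0), (279, 6), (279, 7), (279, 8), (279, 9), (2234, 0), (2234, 1), (2234, 10), (529, 2), (529, 6), (1513, 2), (1513, 7), (1513, 11), (1513, 12), (515, 0), (515, 5), (515, 11), (1800, 0), (1800, 1), (1800, 3), (1800, 8), (1800, 11), (1800, 12), (2705, 0), (2705, 3), (2705, 5), (2705, 9), (2705,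 10), (2705, 11), (2705, 12), (3224, 1), (3224, 5), (3224, 7), (3224, 10), (3224, 11), (1826, 2), (1826, 3), (1826, 8), (1826, 11), (216, 0), (216, 5), (216, 7), (216, 8), (216, 12), (1172, 1), (1172, 5), (1172, 7), (1172, 8), (1172, 9), (1549, 2), (1549, 3), (2934, 0), (2934, 9), (2934, 10), (2934, 12), (2742, 2), (2742, 8), (2742, 11), (2515, 2), (2515, 5), (486, 1), (486, 2), (486, 3), (486, 6), (2376, 6), (2376, 10), (2092, 7), (2092, 11), (3134, 0), (3134, 1), (3134, 3), (3134, 9), (3134, 12), (1230, 0), (1230, 9), (1230, 11), (1230, 12), (1076, 1), (1076, 5), (1076, 6), (1076, 10), (782, 1), (782, 5), (782, 11), (782, 12), (1708, 1), (1708, 2), (1708, 5), (1708, 6), (1681, 2), (1681, 3), (1681, 5), (1681, 6), (1681, 7), (1681, 8), (1681, 11), (1100, 5), (1100, 7), (2439, 1), (2439, 2), (2439, 3), (2439, 6), (2439, 7), (1090, 1), (1090, 2), (1090, 10), (1090, 11), (3321, 6), (3321, 7), (3321, 11), (1221, 1), (1221,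 6), (1221, 7), (1221, 12), (6, 1), (6, 3), (6, 7), (693, 5), (1959, 8), (1963, 9), (1832, 2), (1832, 3), (1832, 9), (1832, 12), (2469, 3), (3481, 2), (3481, 5), (2958, 0), (2958, 1), (2958, 8), (2958, 12), (2533, 2), (2533, 8), (1165, 6), (1165, 9), (2625, 3), (2625, 10), (1625, 10), (1625, 12), (3200, 2), (3200, 3), (3200, 6), (3200, 7), (3200, 8), (2838, 1)]

def steps10 : List (ℕ × ℕ) := [(2838, 2), (2838, 9), (195, 5), (1733, 2), (1733, 6), (1733, 7), (1733, 12), (600, 2), (600, 3), (577, 5), (577, 6), (577, 9), (577, 10), (1143, 1), (1143, 6), (752, 1), (752, 7), (752, 8), (752, 9), (489, 2), (489, 3), (489, 9), (1734, 0), (1734, 1), (1734, 2), (1734, 3), (1734, 6), (1734, 10), (2619, 0), (2619, 2), (1528, 1), (1528, 2), (1528, 6), (1528, 8), (1528, 9), (1528, 10), (1528, 12), (1166, 3), (1166, 8), (1166, 12), (1223, 1), (1223, 6), (1223, 12), (2539, 0), (2539, 1), (2539, 2), (2539, 4), (2539, 9), (2539, 12), (2780,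 0), (2780, 4), (2780, 6), (2780, 10), (2780, 11), (2780, 12), (2936, 2), (2936, 8), (2936, 11), (2936, 12), (2111, 3), (2111, 4), (2111, 9), (2111, 12), (445, 1), (445, 6), (445, 8), (445, 9), (2659, 7), (2659, 11), (1448, 3), (1448, 4), (2576, 0), (2576, 1), (2576, 11), (3226, 3), (3226, 9), (3226, 12), (1527, 3), (1527, 6), (320, 2), (320, 3), (320, 4), (2713, 8), (2713, 12), (3384, 10), (1530, 0), (1530, 1), (1530, 10), (1530, 12), (1032, 2), (1032, 6), (1032, 7), (1032, 11), (598, 0), (598, 2), (598, 6), (598, 12), (1536, 2), (1536, 3), (1536, 6), (1536, 7), (151, 2), (151, 4), (151, 8), (151, 12), (1280, 3), (1280, 4), (1280, 6), (1280, 7), (1280, 8), (1280, 9), (1280, 12), (783, 6), (783, 8), (2226, 2), (2226, 3), (2226, 4), (2226, 7), (2226, 8), (1946, 2), (1946, 3), (1946, 11), (1946, 12), (2560, 7), (2560, 12), (2504, 2), (2504, 7), (2504, 8), (2990, 3), (2990, 9), (2990, 12), (500, 6), (1944, 9), (2303, 10),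 (1298, 0), (1298, 3), (1298, 4), (1298, 10), (3383, 4), (3501, 6), (3461, 1), (3461, 2), (3461, 9), (2369, 7), (2369, 10), (1701, 4), (1701, 11), (2286, 0), (1473, 3), (1473, 7), (1473, 8), (1473, 9), (3184, 3), (3184, 10), (130, 6), (2462, 0), (2462, 3), (2462, 8), (981, 1), (981, 2), (981, 7), (981, 9), (981, 10), (981, 12), (1792, 2), (1792, 3), (1792, 7), (1792, 9), (1792, 10), (1792, 11), (829, 0), (829, 4), (829, 9), (1602, 0), (1602, 2), (1602, 7), (2559, 0), (2559, 1), (2559, 2), (2559, 3), (2559, 5), (2559, 10), (3102, 0), (3102, 1), (3102, 5), (3102, 7), (3102, 12), (2155, 0), (2155, 3), (2155, 12), (2511, 4), (2511, 5), (2511, 10), (3264, 8), (3264, 12), (714, 5), (1633, 1), (1633, 2), (1633, 12), (2988, 0)]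

def steps11 : List (ℕ × ℕ) := [(2988, 4), (2988, 10), (1702, 4), (1702, 7), (218, 3), (218, 4), (218, 5), (2581, 3), (2581, 4), (2581, 7), (2581, 8), (2581, 12), (2747, 0), (2747, 9), (2478, 11), (2413, 0), (2413, 1), (2413, 2), (2413, 11), (385, 3), (385, 7), (385, 8), (385, 12), (251, 1), (251, 3), (251, 7), (3044, 1), (3044, 3), (3044, 8), (3044, 12), (409, 3), (409, 9), (1328, 0), (1328, 4), (1328, 7), (1328, 8), (1328, 9), (1328, 10), (645, 7), (645, 9), (2931, 4), (2931, 5), (2931, 8), (2931, 9), (2937, 0), (2937, 3), (2937, 4), (2937, 12), (2184, 8), (3418, 4), (3418, 10), (384, 7), (1465, 10), (2760, 11), (663, 1), (663, 4), (663, 5), (663, 11), (3366, 5), (3084, 7), (2324, 1), (2324, 6), (2324, 11), (2324, 12), (517, 2), (517, 3), (517, 8), (517, 10), (517, 11), (2272, 4), (2272, 8), (2272, 10), (2272, 11), (946, 5), (946, 10), (3098, 1), (3098, 3), (3098, 8), (2109, 1), (2109, 2), (2109, 6), (2109, 11), (3403,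 0), (3403, 1), (3403, 2), (3403, 6), (3403, 8), (2198, 1), (2198, 4), (176, 4), (176, 5), (176, 6), (3350, 0), (3350, 9), (1107, 6), (1259, 0), (1259, 2), (1259, 3), (3230, 1), (3230, 5), (3230, 11), (1525, 5), (1525, 8), (112, 1), (112, 2), (112, 4), (112, 8), (112, 12), (2995, 5), (2995, 8), (2995, 9), (3116, 1), (3116, 10), (1830, 12), (2447, 1), (2447, 2), (2447, 3), (2447, 12), (337, 4), (337, 8), (337, 9), (2335, 2), (2335, 4), (2335, 9), (461, 4), (461, 10), (1678, 1), (1678, 5), (1678, 8), (1678, 9), (1678, 10), (1678, 11), (1049, 8), (1049, 10), (2153, 5), (2153, 6), (2153, 9), (2153, 10), (2807, 0), (2807, 1), (2807, 4), (2807, 5), (2192, 1), (2192, 2), (2192, 5), (2246, 2), (2246, 7), (2246, 12), (565, 3), (565, 4), (565, 9), (565, 11), (565, 12), (2380, 5), (2380, 9), (2380, 11), (2380, 12), (484, 6), (484, 11), (2350, 2), (2350, 4), (2350, 9), (1040, 2), (1040, 3), (1040, 7), (1040, 12), (2197, 1), (2197,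 2), (2197, 3), (2197, 7), (2197, 9), (237, 6), (237, 7), (2572, 1), (2572, 10), (925, 7), (1134, 3), (1134, 4), (3186, 2), (3186, 6), (3186, 12), (2631, 6), (2631, 9), (156, 2), (156, 3), (156, 5), (156, 9), (3451, 6), (3451, 9), (3451, 10), (2884, 2), (2884, 11), (929, 0), (2306, 0), (2306, 2), (2306, 3), (2306, 4), (2438, 2), (2438, 3), (2438, 4)]

def steps12 : List (ℕ × ℕ) := [(2438, 8), (2438, 10), (2438, 12), (2052, 2), (2052, 3), (2052, 6), (2392, 0), (2392, 3), (2392, 8), (1001, 0), (1001, 4), (1001, 5), (1001, 10), (1001, 12), (3158, 0), (3158, 10), (3158, 12), (513, 7), (513, 12), (1365, 3), (1365, 5), (1365, 10), (630, 3), (630, 4), (630, 8), (327, 7), (327, 8), (2382, 2), (2382, 11), (669, 8), (932, 4), (2993, 0), (2993, 3), (2993, 7), (2280, 3), (2280, 4), (2280, 5), (2280, 11), (2202, 3), (2202, 4), (2202, 7), (2634, 1), (2634, 4), (2634, 9), (2441, 0), (2441, 1), (2441, 5), (2441, 6), (2441, 11), (3494,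 0), (3494, 1), (3494, 11), (729, 0), (729, 8), (834, 4), (834, 6), (834, 11), (1467, 4), (1467, 12), (341, 0), (341, 6), (341, 8), (341, 10), (3470, 8), (3470, 9), (207, 0), (207, 7), (207, 8), (207, 11), (739, 9), (313, 0), (313, 3), (313, 9), (3445, 3), (3445, 4), (3445, 5), (3445, 11), (1834, 4), (1045, 1), (1045, 3), (1045, 5), (634, 5), (634, 6), (634, 9), (2082, 0), (2082, 2), (2082, 3), (2082, 6), (1058, 9), (1058, 10), (1058, 11), (1058, 12), (13, 4), (13, 9), (1016, 0), (2051, 0), (2051, 1), (2051, 3), (2051, 10), (2051, 12), (553, 3), (553, 6), (553, 7), (718, 1), (718, 2), (718, 3), (718, 6), (718, 7), (3125, 6), (3125, 9), (3125, 10), (1461, 11), (1461, 12), (503, 8), (3269, 1), (3269, 2), (3269, 10), (3269, 11), (3269, 12), (1091, 1), (1091, 2), (1091, 4), (1091, 10), (1091, 11), (193, 8), (928, 3), (1587, 3), (1587, 9), (870, 0), (870, 8), (870, 11), (870, 12), (1234, 1), (1234, 10), (288, 1), (288, 8), (288,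 12), (261, 1), (261, 4), (291, 12), (3129, 2), (3129, 8), (2762, 1), (2762, 5), (2762, 7), (2762, 8), (2762, 9), (2762, 10), (2595, 11), (1904, 6), (1904, 8), (1904, 10), (1904, 12), (1024, 9), (1024, 12), (1269, 3), (1269, 12), (471, 3), (471, 6), (290, 4), (290, 5), (290, 10), (290, 11), (290, 12), (3187, 5), (3187, 8), (321, 0), (321, 1), (321, 2), (321, 5), (321, 6), (329, 4), (329, 6), (329, 10), (2600, 4), (2600, 6), (2600, 7), (2023, 5), (2023, 6), (2023, 10), (2023, 11), (2770, 1), (2770, 3), (2770, 9), (2770, 10), (618, 2), (618, 4), (618, 11), (979, 4), (979, 6), (979, 12), (1928, 6), (494, 0), (494, 1), (494, 5), (494, 6), (494, 11), (494, 12), (2582, 0), (2582, 1)]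

def steps13 : List (ℕ × ℕ) := [(2582, 10), (991, 3), (270, 5), (270, 10), (270, 12), (1200, 5), (1200, 8), (2663, 8), (2663, 12), (826, 10), (2094, 6), (3338, 0), (2796, 4), (2796, 10), (655, 4), (655, 10), (1262, 3), (1262, 11), (1630, 1), (1630, 7), (1630, 8), (1630, 11), (2471, 1), (3040, 8), (3040, 9), (2189, 8), (1390, 0), (1390, 2), (1390, 8), (1390, 9), (1390, 12), (2036, 2), (2463, 9), (2463, 10), (87, 12), (886, 5), (2729, 2), (2729, 12), (2664, 0), (2664, 5), (2664, 6), (1882, 2), (1882, 11), (89, 11), (62, 5), (62, 6), (62, 8), (62, 12), (1054, 4), (2252, 11), (1034, 0), (781, 5), (781, 11), (936, 1), (936, 3), (936, 10), (1241, 5), (1241, 11), (1241, 12), (81, 8), (81, 9), (81, 12), (1829, 2), (1829, 10), (2196, 0), (2196, 6), (2196, 11), (1364, 11), (1932, 4), (1932, 10), (2185, 2), (2637, 1), (3151, 12), (2497, 2), (2497, 10), (2642, 9), (2642, 12), (1772, 2), (1772, 5), (2370, 1), (2370, 8), (2370, 12),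 (539, 2), (539, 7), (539, 9), (2003, 3), (2003, 4), (2003, 5), (2003, 8), (3277, 2), (3277, 5), (3277, 9), (86, 0), (1660, 5), (1660, 6), (3376, 2), (2310, 0), (2310, 2), (2310, 3), (2310, 5), (208, 5), (208, 6), (670, 4), (670, 9), (2188, 6), (2188, 9), (2774, 0), (2386, 1), (2386, 5), (576, 6), (576, 7), (892, 5), (892, 10), (2172, 10), (2735, 1), (2882, 7), (3457, 8), (3457, 9), (3457, 11), (1754, 1), (1754, 2), (1754, 9), (1754, 10), (1754, 11), (899, 1), (899, 3), (899, 12), (2074, 1), (2074, 7), (894, 2), (894, 3), (894, 9), (894, 12), (633, 0), (633, 6), (633, 7), (633, 8), (633, 9), (633, 11), (633, 12), (1692, 8), (681, 9), (1333, 3), (1333, 7), (1333, 10), (1930, 8), (3213, 3), (3213, 7), (3213, 8), (3213, 9), (3213, 12), (2594, 1), (2594, 4), (2594, 8), (1400, 5), (1400, 11), (3271, 1), (3271, 5), (3271, 8), (3271, 12), (532, 9), (532, 10), (965, 3), (965, 6), (965, 9), (965, 10), (2257, 1), (3364, 5), (3364,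 8), (3364, 12), (1802, 3), (1802, 4), (1730, 0), (1730, 1), (1730, 7), (1730, 8), (1730, 10), (1730, 12), (2454, 3), (2454, 5), (2454, 9), (2454, 10), (2123, 5), (2123, 6), (2123, 10), (206, 2), (206, 7), (206, 8), (1362, 4), (1362, 5), (1362, 6), (24, 3), (831, 2), (831, 3), (2332, 10), (2332, 11), (1728, 5), (1728, 6), (1728, 7), (602, 8)]

def steps14 : List (ℕ × ℕ) := [(92, 4), (92, 5), (548, 3), (548, 4), (548, 12), (2711, 11), (2711, 12), (1569, 7), (1569, 8), (1569, 12), (113, 3), (1521, 1), (1521, 8), (1521, 9), (432, 0), (1902, 4), (2275, 3), (2275, 5), (2275, 11), (16, 2), (16, 8), (16, 9), (3101, 7), (3101, 8), (2068, 12), (1698, 3), (1698, 5), (1698, 10), (1354, 10), (1354, 11), (3228, 4), (3228, 12), (1019, 0), (1019, 3), (1019, 4), (1019, 12), (606, 1), (606, 4), (606, 9), (2718, 6), (2718, 10), (865, 2), (865, 12), (2792, 1), (2792, 4), (3276, 1), (3276, 10), (2044, 4), (636, 3), (636, 6), (3435, 2), (3435,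 6), (2474, 0), (2474, 9), (2040, 8), (1174, 3), (1174, 9), (2498, 0), (2498, 1), (2498, 2), (2498, 3), (2498, 5), (959, 4), (959, 9), (1351, 4), (3482, 2), (3482, 6), (3482, 7), (1456, 9), (1456, 10), (1456, 12), (1611, 12), (1663, 3), (2277, 2), (2277, 3), (2277, 4), (2277, 7), (3080, 2), (3080, 3), (3080, 6), (3080, 8), (2417, 6), (2417, 7), (908, 1), (908, 8), (908, 11), (2307, 2), (2307, 6), (2307, 8), (1751, 2), (1751, 3), (726, 7), (281, 2), (281, 9), (1964, 3), (1964, 7), (1964, 9), (2930, 0), (2930, 4), (2389, 3), (2389, 7), (2389, 9), (556, 8), (1508, 8), (1508, 9), (1508, 10), (890, 3), (890, 7), (890, 8), (2805, 0), (2805, 11), (2269, 4), (1971, 0), (1971, 3), (1971, 5), (2347, 7), (2347, 8), (950, 12), (1099, 3), (405, 3), (405, 5), (1978, 0), (1612, 5), (501, 2), (1265, 4), (1265, 8), (1265, 12), (1008, 0), (1008, 2), (1008, 6), (1008, 10), (1444, 11), (378, 9), (898, 1), (898, 5), (898, 10), (898, 11), (898,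 12), (2782, 2), (2782, 6), (2782, 8), (2782, 12), (3167, 1), (3167, 9), (738, 7), (2567, 0), (2567, 10), (2072, 0), (2072, 1), (2503, 11), (1848, 9), (820, 12), (953, 9), (953, 10), (953, 12), (840, 5), (1186, 1), (1186, 5), (1186, 12), (334, 5), (334, 12), (1566, 2), (1566, 5), (1566, 6), (1566, 8), (1901, 2), (1901, 3), (1901, 8), (2864, 3), (2864, 4), (2864, 5), (2864, 7), (2864, 11), (2107, 1), (2107, 5), (2107, 8), (951, 2), (951, 7), (951, 11), (613, 3), (613, 4), (613, 6), (1237, 3), (1237, 4), (1237, 7), (1237, 9), (1761, 4), (1761, 5), (1761, 6), (1761, 8), (1761, 12), (2038, 2), (1098, 8), (813, 0), (813, 4), (813, 7), (1760, 8), (1872, 0), (1872, 1), (1872, 10)]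

def steps15 : List (ℕ × ℕ) := [(1387, 0), (1387, 3), (351, 3), (3085, 0), (3085, 2), (3085, 11), (2118, 2), (1620, 12), (1170, 6), (1170, 8), (1170, 9), (439, 6), (439, 10), (1767, 6), (1767, 12), (721, 0), (721, 6), (2658, 1), (2658, 9), (2658, 10), (2658, 11), (677, 1), (677, 3), (677, 10), (1596, 1), (1596, 3), (741, 3), (741, 6), (741, 9), (2923, 10), (1961, 10), (1961, 11), (993, 8), (993, 10), (993, 12), (280, 2), (1888, 12), (1601, 5), (2714, 5), (836, 6), (389, 6), (389, 7), (389, 10), (1824, 3), (794, 12), (306, 3), (2579, 5), (922, 6), (922, 11), (607, 4), (607, 5), (607, 10), (478, 12), (978, 10), (978, 11), (978, 12), (969, 0), (969, 6), (969, 11), (3351, 5), (2904, 4), (2904, 9), (2904, 12), (2891, 5), (1108, 10), (159, 11), (159, 12), (396, 6), (396, 10), (599, 4), (599, 11), (2171, 5), (2171, 7), (2171, 9), (1776, 0), (1776, 8), (1776, 12), (1084, 4), (1084, 12), (1532, 12), (1929, 4), (1929, 6), (2162,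 3), (2162, 4), (2819, 6), (1798, 11), (689, 2), (689, 11), (689, 12), (250, 2), (250, 10), (250, 12), (2249, 4), (2249, 5), (2249, 6), (9, 0), (2823, 1), (2823, 7), (3263, 11), (55, 11), (3097, 0), (3097, 1), (2420, 3), (1421, 2), (1421, 3), (1421, 4), (1421, 9), (1255, 0), (1255, 6), (2505, 2), (2505, 3), (2030, 4), (2030, 6), (2030, 7), (2030, 8), (1893, 11), (1810, 4), (1583, 0), (1583, 8), (3012, 7), (3012, 8), (1505, 4), (1505, 10), (1074, 1), (1074, 7), (1585, 5), (827, 1), (827, 2), (827, 9), (2425, 3), (2425, 4), (2621, 2), (2621, 5), (2621, 6), (1047, 0), (2442, 1), (2442, 10), (1975, 3), (29, 2), (29, 3), (1668, 4), (1668, 5), (1668, 12), (1093, 5), (1137, 6), (1137, 10), (1137, 12), (1368, 2), (110, 7), (305, 1), (305, 2), (305, 8), (305, 11), (85, 8), (338, 5), (338, 9), (338, 12), (1490, 5), (1402, 3), (1729, 11), (1315, 2), (277, 9), (2426, 7), (2641, 1), (2641, 7), (1413, 11), (2390, 8), (2039, 7), (2039,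 8), (495, 12), (2725, 6), (2725, 12), (1799, 0), (3178, 2), (1974, 0), (1974, 2), (2558, 12), (239, 1), (566, 5), (566, 10), (2319, 5), (1780, 4), (1780, 5), (1326, 1), (1326, 8), (627, 4), (3107, 6), (3107, 7), (1295, 9), (1403, 2), (1403, 9), (1510, 2), (375, 3), (375, 12), (516, 10), (593, 1), (593, 4), (2749, 7), (2749, 8), (2749, 9)]

def steps16 : List (ℕ × ℕ) := [(15, 2), (875, 1), (875, 10), (244, 0), (244, 4), (605, 6), (164, 8), (2322, 9), (767, 8), (28, 10), (28, 12), (144, 2), (3496, 0), (3496, 6), (1573, 7), (1573, 12), (2407, 10), (1951, 7), (2896, 1), (499, 1), (273, 8), (273, 10), (2692, 6), (184, 4), (184, 11), (1422, 9), (1781, 5), (2490, 3), (2490, 4), (992, 4), (1159, 1), (214, 10), (1801, 3), (1898, 4), (1753, 11), (1743, 8), (1950, 2), (1950, 6), (1629, 5), (220, 1), (220, 9), (179, 1), (179, 8), (179, 12), (301, 1), (3504, 4), (3504, 5), (3504, 12), (1509, 7), (3300, 4), (763, 0), (763, 11), (5,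 5), (2353, 11), (2244, 12), (379, 9), (3005, 3), (2217, 2), (2217, 3), (2217, 11), (2217, 12), (132, 9), (2665, 2), (2665, 11), (685, 1), (2070, 2), (2070, 11), (2293, 9), (1960, 0), (1960, 7), (1960, 11), (1641, 0), (1641, 10), (997, 0), (289, 5), (1002, 6), (1002, 7), (1002, 12), (2948, 1), (844, 4), (1192, 6), (2989, 1), (3055, 11), (1011, 0), (1011, 9), (2209, 3), (123, 6), (123, 9), (2049, 3), (2077, 1), (48, 9), (2354, 7), (2354, 12), (2144, 10), (1920, 4), (2957, 10), (1179, 7), (2147, 3), (2147, 4), (1064, 7), (1064, 8), (1892, 8), (2696, 12), (1868, 0), (1868, 2), (1868, 4), (1270, 0), (1270, 4), (1482, 9), (1925, 12), (3402, 6), (1703, 1), (1703, 11), (1659, 4), (1659, 6), (1697, 11), (19, 4), (342, 0), (342, 4), (2585, 12), (1243, 9), (1941, 8), (1941, 9), (2135, 5), (33, 3), (33, 10), (1037, 4), (1037, 6), (1431, 5), (366, 1), (366, 4), (595, 3), (642, 4), (2913, 10), (2918, 9), (736, 4), (2393, 2), (2393,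 6), (1889, 5), (3314, 8), (188, 3), (3227, 2), (614, 9), (2712, 1), (1616, 5), (1314, 0), (1480, 4), (1041, 4), (1041, 6), (2302, 2), (2302, 11), (1370, 0), (2207, 10), (2987, 1), (2987, 11), (706, 0), (322, 0), (1462, 4), (1462, 5), (1252, 7), (1415, 5), (1614, 2), (1614, 11), (146, 4), (1426, 3), (1029, 7), (1029, 10), (1788, 0), (785, 7), (536, 4), (536, 11), (488, 4), (808, 0), (1222, 7), (2992, 10), (3288, 6), (2078, 8), (2078, 10), (354, 5), (1227, 0), (1707, 7), (1105, 0), (1105, 12), (2507, 5), (2507, 6), (787, 4), (2929, 8), (1371, 5), (1665, 6), (542, 3), (2686, 3), (1600, 11), (2666, 6), (172, 6), (66, 10), (2356, 8), (1816, 2), (1797, 12), (2591, 8), (511, 0)]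

def steps17 : List (ℕ × ℕ) := [(3057, 3), (2358, 0), (3317, 7), (414, 4), (674, 7), (364, 9), (3440, 1), (3440, 7), (1603, 0), (1603, 8), (1756, 10), (1912, 11), (2946, 4), (2946, 5), (204, 11), (2720, 9), (3287, 12), (475, 2), (659, 2), (3508, 5), (585, 8), (3056, 5), (386, 1), (968, 10), (3453, 3), (3453, 4), (3453, 12), (2071, 8), (2071, 12), (2446, 1), (629, 1), (1088, 0), (1088, 7), (1088, 8), (912, 7), (1471, 1), (215, 7), (215, 10), (191, 10), (2499, 8), (1914, 12), (1779, 7), (363, 8), (363, 9), (3087, 1), (58, 5), (560, 5), (2250, 9), (938, 5), (468, 4), (2445, 3), (1092, 1), (1332, 5), (1557, 5), (2818, 12), (1359, 1), (1984, 2), (1357, 6), (1097, 8), (1141, 8), (381, 5), (1419, 1), (3292, 11), (1745, 11), (1492, 0), (1855, 9), (2002, 4), (2015, 12), (3042, 4), (2723, 6), (1309, 11), (3497, 4), (3373, 2), (935, 1), (935, 8), (935, 9), (646, 11), (3222, 9), (2001, 8), (2905, 2), (623, 5), (688, 2), (688, 12),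 (1148, 9), (2299, 2), (2106, 12), (1246, 10), (1114, 5), (2173, 7), (3452, 5), (3335, 3), (982, 9), (1886, 12), (2352, 9), (3064, 3), (675, 10), (1217, 11)]

def steps : List (ℕ × ℕ) := steps0 ++ (steps1 ++ (steps2 ++ (steps3 ++ (steps4 ++ (steps5 ++ (steps6 ++ (steps7 ++ (steps8 ++ (steps9 ++ (steps10 ++ (steps11 ++ (steps12 ++ (steps13 ++ (steps14 ++ (steps15 ++ (steps16 ++ (steps17)))))))))))))))))

/-- The certificate. -/
def cert : NCert where
  p := 13
  xWord := [2, 4, 7, 5, 1, 0, 8, 3]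
  xTree := xTree
  fixed := []
  seeds := []
  r0 := 1060
  tests := [((0, 0), (1, 1), true), ((0, 2), (10, 10), true), ((0, 4), (8, 8), true)]
  steps := steps
  m := 6
  g := 4
  wWord := [2, 3, 7, 8, 4, 3, 7, 5, 4, 3, 2, 0, 1, 4, 5, 1, 0, 2, 1, 3, 4, 7, 3, 2, 3, 7, 4, 3, 1, 2, 0, 1, 5, 8, 3, 7, 4, 3, 8, 5, 3, 2, 4, 7, 3, 7, 4, 2, 3, 7, 8, 3, 2, 4, 7, 3, 4, 7, 2, 3, 4, 5, 1, 0, 2, 1, 3, 4, 7, 3, 2, 3, 7, 4, 3, 1, 2, 0, 1, 5, 0, 4]
  bad := [2]
  nTuples := 1

/-- An odd permutation with exponent 2, followed by the symmetry. -/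
def oddWord : List ℕ := [4, 1, 2, 3, 7, 8, 5, 3, 4, 2, 3, 7, 6, 5, 4, 3, 2, 1, 3, 6, 4, 1, 0, 2, 1, 3, 2, 7, 3, 5, 4, 3, 1, 2, 1, 5, 0, 7, 3, 2, 1, 3, 8, 3, 7, 2, 3, 7, 5, 3, 2, 4, 3, 5, 4, 6, 5, 1, 0, 2, 1, 3, 4, 7, 3, 2, 3, 7, 4, 3, 1, 2, 0, 1, 7, 8, 5, 6, 4, 5, 3, 4, 2, 4, 5, 7, 3, 4, 8, 7, 3, 2, 1, 2, 3, 4, 5, 7, 3, 2, 4, 3, 8, 7, 3, 2, 4, 3, 5, 4, 0, 1, 2, 3, 7, 8, 7, 3, 4, 2, 3, 7, 5, 4, 3, 2, 0, 1, 6, 3, 2, 7, 3, 5, 4, 3, 2, 7, 3, 4, 5, 4, 6]

end CfsgLib.Recog.FiNorm.P13
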