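import Cfsg.Agent.Lib.Recog.FiNorm.Bounds
import Cfsg.Agent.Lib.Recog.FiNorm.Data5

set_option autoImplicit false
set_option maxRecDepth 100000
set_option Elab.async false

/-!
The subgroups of order 5 in a Sylow 5-subgroup of Fi22 are conjugate to the first one (owner: helper15).
-/

namespace CfsgLib.Recog.FiNorm.P5

open Cfsg CfsgLib.ThreeTrans.CosetIndex
open CfsgLib.Recog.SporBound.Fi22Group (a act card_and_faithful finite_fi22)
open CfsgLib.Recog.SporBound.Fi22Aut

/-- The word of a transposition of order five with the first four seeds. -/
noncomputable def zWord : List ℕ := (cert.seeds.map pal).flatten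

/-- The commuting element of order five. -/
noncomputable def z : Cfsg.Spor.Fi22 := (zWord.map a).prod

/-- The base points. -/
noncomputable def basePts : List ℕ := (List.range (cert.seeds.length + cert.p)).map (cert.toCert.base 1 cert.r0)

/-- The element commutes with the first one and has order five, checked at the base points. -/
noncomputable def zOK : Bool :=
  (basePts.all fun r =>
    Nat.beq (FiHat3510.data.trace (cert.xTree.get r) zWord.reverse) (cert.xTree.get (FiHat3510.data.trace r zWord.reverse))
    && Nat.beq (FiHat3510.data.trace r ((List.replicate 5 zWord).flatten).reverse) r) &&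
  basePts.any fun r => !Nat.beq (FiHat3510.data.trace r zWord.reverse) r

theorem z_ok : zOK = true := by decide +kernel

/-- A word carries the element to a generator of a line. -/
noncomputable def lineOK (i : ℕ) : Bool :=
  basePts.all fun r =>
    Nat.beq (FiHat3510.data.trace (cert.xTree.get r) (lineWords.getD i []).reverse)
      (cert.toCert.it i (FiHat3510.data.trace (FiHat3510.data.trace r (lineWords.getD i []).reverse) zWord.reverse))

theorem line_ok : (List.range 5).all lineOK = true := by decide +kernel

end CfsgLib.Recog.FiNorm.P5
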