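import Cfsg.Agent.Lib.Recog.FiNorm.Transport
import Cfsg.Agent.Lib.Recog.FiNorm.Check5
import Cfsg.Agent.Lib.Recog.FiNorm.Check7
import Cfsg.Agent.Lib.Recog.FiNorm.Check11
import Cfsg.Agent.Lib.Recog.FiNorm.Check13
import Cfsg.Agent.Lib.Recog.FiNorm.CountOne5
import Cfsg.Agent.Lib.Recog.FiNorm.CountOne7
import Cfsg.Agent.Lib.Recog.FiNorm.CountOne11
import Cfsg.Agent.Lib.Recog.FiNorm.CountOne13
import Cfsg.Agent.Lib.Recog.FiNorm.CountTwo11
import Cfsg.Agent.Lib.Recog.FiNorm.CountTwo13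
import Cfsg.Agent.Lib.Recog.FiNorm.Lines

set_option autoImplicit false
set_option maxRecDepth 20000

/-!
The normalisers of the elements of orders 5, 7, 11 and 13 in Fi22 and the conjugacy of subgroups of order 5
(owner: helper15).
-/

namespace CfsgLib.Recog.FiNorm

open Cfsg CfsgLib.ThreeTrans.CosetIndex
open CfsgLib.Recog.SporBound.Fi22Group (a act card_and_faithful finite_fi22)
open CfsgLib.Recog.SporBound.Fi22Aut

local notation "Fi" => Cfsg.Spor.Fi22

theorem factorization_order {p : ℕ} (k r : ℕ) (hp : p.Prime) (he : 64561751654400 = p ^ k * r) (hr : ¬ p ∣ r) :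
    (64561751654400 : ℕ).factorization p = k := by
  rw [he, Nat.factorization_mul (pow_ne_zero _ hp.ne_zero) (fun e => hr (by rw [e]; exact dvd_zero p)), Finsupp.add_apply,
    hp.factorization_pow, Finsupp.single_eq_same, Nat.factorization_eq_zero_of_not_dvd hr, add_zero]

theorem card_perm (n : ℕ) : Nat.card (Equiv.Perm (Fin n)) = n.factorial := by
  rw [Nat.card_perm, Nat.card_fin]

namespace P7

theorem card_elts : Nat.card (cert.toCert.Elts 1) ≤ 7 := by
  have := ok.odd_bound odd_ok count_one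
  omega

theorem sym : Nonempty (↥(NCert.Sg cert) ≃* Equiv.Perm (Fin 3)) := ok.sym_equiv card_elts lab_ok

theorem eq_normalizer : NCert.F cert ⊔ NCert.Sg cert =
    Subgroup.normalizer ((NCert.X cert : Subgroup Fi) : Set Fi) := by
  refine ok.normalizer_eq ((ok.card_normalizer_le card_elts fun e he => absurd he List.not_mem_nil).trans ?_)
  obtain ⟨e⟩ := sym
  rw [Nat.card_congr e.toEquiv, card_perm]
  decide

end P7

namespace P5

theorem card_elts : Nat.card (cert.toCert.Elts 1) ≤ 5 := by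
  have := ok.odd_bound odd_ok count_one
  omega

theorem sym : Nonempty (↥(NCert.Sg cert) ≃* Equiv.Perm (Fin 5)) := ok.sym_equiv card_elts lab_ok

theorem eq_normalizer : NCert.F cert ⊔ NCert.Sg cert =
    Subgroup.normalizer ((NCert.X cert : Subgroup Fi) : Set Fi) := by
  refine ok.normalizer_eq ((ok.card_normalizer_le card_elts fun e he => absurd he List.not_mem_nil).trans ?_)
  obtain ⟨e⟩ := sym
  rw [Nat.card_congr e.toEquiv, card_perm]
  decide

theorem trace_z (r : Row) : FiHat3510.data.trace r zWord.reverse = ((act z r : Row) : ℕ) := by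
  rw [trace_act, List.reverse_reverse, z]

theorem base_mem {i : ℕ} (hi : i < cert.seeds.length + cert.p) {r : Row}
    (hr : (r : ℕ) = cert.toCert.base 1 cert.r0 i) : (r : ℕ) ∈ basePts :=
  List.mem_map.2 ⟨i, List.mem_range.2 hi, hr.symm⟩

theorem z_comm : Commute z cert.toCert.x := by
  refine card_and_faithful.2.1 (ok.toOK.ext_base (eqv_act _) (eqv_act _) fun i hi r hr => Fin.ext ?_)
  have h := z_ok
  rw [zOK, Bool.and_eq_true, List.all_eq_true] at h
  have h' := (Bool.and_eq_true_iff.1 (h.1 r (base_mem hi hr))).1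
  rw [ok.toOK.tab, trace_z, trace_z, ok.toOK.tab] at h'
  rw [map_mul, map_mul, Equiv.Perm.mul_apply, Equiv.Perm.mul_apply]
  exact Nat.eq_of_beq_eq_true h'

theorem orderOf_z : orderOf z = 5 := by
  haveI : Fact (Nat.Prime 5) := ⟨by norm_num⟩
  have h := z_ok
  rw [zOK, Bool.and_eq_true, List.all_eq_true, List.any_eq_true] at h
  refine orderOf_eq_prime (card_and_faithful.2.1
    (ok.toOK.ext_base (eqv_act _) (eqv_act _) fun i hi r hr => Fin.ext ?_)) fun e => ?_
  · have h' := (Bool.and_eq_true_iff.1 (h.1 r (base_mem hi hr))).2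
    rw [trace_act, List.reverse_reverse, List.map_flatten, List.prod_flatten, List.map_replicate, List.map_replicate,
      List.prod_replicate] at h'
    rw [map_one]
    exact Nat.eq_of_beq_eq_true h'
  · obtain ⟨n, hn, h'⟩ := h.2
    obtain ⟨i, -, hni⟩ := List.mem_map.1 hn
    obtain ⟨r, hr⟩ := ok.toOK.exists_base i
    rw [← hni, ← hr, trace_z r, e, map_one] at h'
    simp at h'

theorem z_mem : z ∈ NCert.Sg cert := by
  have hm : ∀ L : List ℕ, (∀ d ∈ L, d ∈ cert.fixed ∧ d < 3510) →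
      (((L.map pal).flatten).map a).prod ∈ NCert.Sg cert := by
    intro L
    induction L with
    | nil => intro _; exact one_mem _
    | cons d L ih =>
      intro hL
      obtain ⟨hf, hd⟩ := hL d List.mem_cons_self
      rw [List.map_cons, List.flatten_cons, List.map_append, List.prod_append, pal_eq ⟨d, hd⟩]
      exact mul_mem (Subgroup.subset_closure ⟨⟨d, hd⟩, hf, rfl⟩) (ih fun e he => hL e (List.mem_cons_of_mem _ he))
  exact hm cert.seeds fun d hd => ok.toOK.seed_mem hd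

theorem line (i : ℕ) (hi : i < 5) : ∃ u : Fi, u * cert.toCert.x * u⁻¹ = cert.toCert.x ^ i * z := by
  refine ⟨((lineWords.getD i []).map a).prod, mul_inv_eq_iff_eq_mul.2 (card_and_faithful.2.1
    (ok.toOK.ext_base (eqv_act _) (eqv_act _) fun j hj r hr => Fin.ext ?_))⟩
  have h := List.all_eq_true.1 (List.all_eq_true.1 line_ok i (List.mem_range.2 hi)) r (base_mem hj hr)
  simp only [trace_act, List.reverse_reverse, ok.toOK.tab] at h
  rw [show (zWord.map a).prod = z from rfl, ok.toOK.it_eq] at h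
  simp only [map_mul, Equiv.Perm.mul_apply]
  exact Nat.eq_of_beq_eq_true h

/-- The Sylow 5-subgroup. -/
noncomputable abbrev E : Subgroup Fi := NCert.X cert ⊔ Subgroup.zpowers z

theorem mem_E {u : Fi} (hu : u ∈ E) : ∃ k l, k < 5 ∧ l < 5 ∧ u = cert.toCert.x ^ k * z ^ l := by
  classical
  have := finite_fi22
  have hn : Subgroup.zpowers z ≤ Subgroup.normalizer ((NCert.X cert : Subgroup Fi) : Set Fi) :=
    (Subgroup.zpowers_le).2 (NCert.mem_normalizer_zpowers (by
      rw [z_comm.eq, mul_inv_cancel_right]; exact Subgroup.mem_zpowers _))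
  rw [E, ← SetLike.mem_coe, Subgroup.coe_mul_of_right_le_normalizer_left _ _ hn] at hu
  obtain ⟨y, hy, w, hw, rfl⟩ := hu
  obtain ⟨k, hk, rfl⟩ := Finset.mem_image.1 (mem_zpowers_iff_mem_range_orderOf.1 hy)
  obtain ⟨l, hl, rfl⟩ := Finset.mem_image.1 (mem_zpowers_iff_mem_range_orderOf.1 hw)
  rw [Finset.mem_range] at hk hl
  rw [ok.orderOf_x] at hk
  rw [orderOf_z] at hl
  exact ⟨k, l, hk, hl, rfl⟩

theorem card_E : Nat.card E = 25 := by
  classical
  have := finite_fi22
  let f : Fin 5 × Fin 5 → E := fun q => ⟨cert.toCert.x ^ (q.1 : ℕ) * z ^ (q.2 : ℕ),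
    mul_mem (pow_mem (Subgroup.mem_sup_left (Subgroup.mem_zpowers _)) _)
      (pow_mem (Subgroup.mem_sup_right (Subgroup.mem_zpowers _)) _)⟩
  have hf : Function.Bijective f := by
    refine ⟨?_, fun u => ?_⟩
    · rintro ⟨k, l⟩ ⟨k', l'⟩ e
      have e' : cert.toCert.x ^ (k : ℕ) * z ^ (l : ℕ) = cert.toCert.x ^ (k' : ℕ) * z ^ (l' : ℕ) :=
        congrArg Subtype.val e
      have hmem : (cert.toCert.x ^ (k' : ℕ))⁻¹ * cert.toCert.x ^ (k : ℕ) ∈ NCert.F cert ⊓ NCert.Sg cert := by
        have hx : cert.toCert.x ∈ NCert.F cert := Subgroup.mem_sup_left (Subgroup.mem_zpowers _)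
        refine Subgroup.mem_inf.2 ⟨mul_mem (inv_mem (pow_mem hx _)) (pow_mem hx _), ?_⟩
        have : (cert.toCert.x ^ (k' : ℕ))⁻¹ * cert.toCert.x ^ (k : ℕ) = z ^ (l' : ℕ) * (z ^ (l : ℕ))⁻¹ := by
          rw [eq_mul_inv_iff_mul_eq, mul_assoc, e', inv_mul_cancel_left]
        rw [this]
        exact mul_mem (pow_mem z_mem _) (inv_mem (pow_mem z_mem _))
      rw [ok.F_inf_Sg, Subgroup.mem_bot, inv_mul_eq_one] at hmem
      rw [hmem] at e'
      have e2 := mul_left_cancel e'
      rw [pow_eq_pow_iff_modEq, orderOf_z, Nat.ModEq, Nat.mod_eq_of_lt l.2, Nat.mod_eq_of_lt l'.2] at e2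
      rw [pow_eq_pow_iff_modEq, ok.orderOf_x] at hmem
      change (k' : ℕ) % 5 = (k : ℕ) % 5 at hmem
      exact Prod.ext (Fin.ext (by
        rw [Nat.mod_eq_of_lt k.2, Nat.mod_eq_of_lt k'.2] at hmem; exact hmem.symm)) (Fin.ext e2)
    · obtain ⟨k, l, hk, hl, e⟩ := mem_E u.2
      exact ⟨(⟨k, hk⟩, ⟨l, hl⟩), Subtype.ext e.symm⟩
  rw [← Nat.card_congr (Equiv.ofBijective f hf), Nat.card_prod, Nat.card_fin]

theorem conj_std {B : Subgroup Fi} (hB : Nat.card B = 5) :
    ∃ g : Fi, (NCert.X cert).map (MulAut.conj g).toMonoidHom = B := by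
  classical
  have := finite_fi22
  haveI : Fact (Nat.Prime 5) := ⟨by norm_num⟩
  have hpart : (Nat.card Fi).factorization 5 = 2 := by
    rw [card_and_faithful.1]
    exact factorization_order 2 2582470066176 (by norm_num) (by norm_num) (by norm_num)
  let P : Sylow 5 Fi := Sylow.ofCard E (by rw [card_E, hpart]; norm_num)
  obtain ⟨Q, hQ⟩ := (IsPGroup.of_card (n := 1) (by rw [hB, pow_one]) : IsPGroup 5 B).exists_le_sylow
  obtain ⟨g, hg⟩ := MulAction.exists_smul_eq Fi P Q
  obtain ⟨u, hu, hu1⟩ : ∃ u ∈ B, u ≠ 1 := by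
    by_contra hcon
    push Not at hcon
    have : B = ⊥ := (Subgroup.eq_bot_iff_forall B).2 hcon
    rw [this, Subgroup.card_bot] at hB
    omega
  have hBu : B = Subgroup.zpowers u := by
    symm
    refine SetLike.ext' (Set.eq_of_subset_of_ncard_le ((Subgroup.zpowers_le).2 hu) ?_)
    rw [← Nat.card_coe_set_eq, ← Nat.card_coe_set_eq, SetLike.coe_sort_coe, SetLike.coe_sort_coe, hB,
      Nat.card_zpowers]
    have hd : orderOf u ∣ 5 := by
      have := Subgroup.orderOf_dvd_natCard B hu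
      rwa [hB] at this
    rcases (Nat.dvd_prime (by norm_num)).1 hd with h | h
    · exact absurd (orderOf_eq_one_iff.1 h) hu1
    · omega
  have hmem : u ∈ E.map (MulAut.conj g).toMonoidHom := by
    have e : E.map (MulAut.conj g).toMonoidHom = (Q : Subgroup Fi) := by rw [← hg]; rfl
    rw [e]; exact hQ hu
  obtain ⟨v, hv, hvu⟩ := hmem
  obtain ⟨k, l, hk, hl, rfl⟩ := mem_E hv
  suffices h : ∃ h : Fi, cert.toCert.x ^ k * z ^ l ∈ (NCert.X cert).map (MulAut.conj h).toMonoidHom by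
    obtain ⟨h, hh⟩ := h
    refine ⟨g * h, ?_⟩
    rw [hBu, ← hvu]
    refine (SetLike.ext' (Set.eq_of_subset_of_ncard_le ?_ ?_)).symm
    · show Subgroup.zpowers _ ≤ _
      rw [Subgroup.zpowers_le]
      obtain ⟨y, hy, hyv⟩ := hh
      refine ⟨y, hy, ?_⟩
      rw [← hyv]
      simp [mul_assoc]
    · rw [← Nat.card_coe_set_eq, ← Nat.card_coe_set_eq, SetLike.coe_sort_coe, SetLike.coe_sort_coe,
        hvu, ← hBu, hB, Subgroup.card_map_of_injective (MulEquiv.injective _), ok.card_X]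
      exact le_rfl
  by_cases hl0 : l = 0
  · refine ⟨1, cert.toCert.x ^ k, pow_mem (Subgroup.mem_zpowers _) _, ?_⟩
    simp [hl0]
  · obtain ⟨i, hi, hil⟩ : ∃ i < 5, (i * l) % 5 = k :=
      (by decide : ∀ l < 5, l ≠ 0 → ∀ k < 5, ∃ i < 5, (i * l) % 5 = k) l hl hl0 k hk
    obtain ⟨h, hh⟩ := line i hi
    refine ⟨h, cert.toCert.x ^ l, pow_mem (Subgroup.mem_zpowers _) _, ?_⟩
    rw [MulEquiv.coe_toMonoidHom, MulAut.conj_apply, ← conj_pow, hh, (z_comm.pow_right i).symm.mul_pow,
      ← pow_mul, pow_eq_pow_mod (i * l) ok.toOK.pow_eq_one, show (i * l) % cert.p = k from hil]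

end P5

namespace P11

/-- The fixed row. -/
noncomputable def d : Row := ⟨3425, by decide⟩

theorem Sg_eq : NCert.Sg cert = Subgroup.zpowers (T d) := by
  have hs : {r : Row | (r : ℕ) ∈ cert.fixed} = {d} := by
    ext r
    simp [cert, d, Fin.ext_iff]
  show Subgroup.closure _ = _
  rw [hs, Set.image_singleton, Subgroup.zpowers_eq_closure]

theorem T_ne_one : T d ≠ 1 := by
  intro e
  refine SporBound.Fi22U6.a_ne_one ?_
  have h : T d = gr d * a 0 * (gr d)⁻¹ := rfl
  rw [e] at h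
  exact conj_eq_one_iff.1 h.symm

theorem card_Sg : Nat.card (NCert.Sg cert) = 2 := by
  rw [Sg_eq, Nat.card_zpowers]
  exact orderOf_eq_prime (by rw [pow_two]; exact T_sq d) T_ne_one

theorem le_elts : 22 ≤ Nat.card (cert.toCert.Elts 1) := by
  have := finite_fi22
  have hd : (d : ℕ) ∈ cert.fixed := by decide
  have hT : cert.toCert.Moves 1 (act (T d)) := ⟨by
      rw [pow_one, ← map_mul, ← map_mul, (ok.x_comm_T hd).eq],
    fun r hr => (T_comm_iff' r hd hr)⟩
  let f : Fin 11 × Fin 2 → cert.toCert.Elts 1 := fun q =>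
    ⟨cert.toCert.x ^ (q.1 : ℕ) * T d ^ (q.2 : ℕ), by
      refine ⟨?_, fun r hr => ?_⟩
      · have hc : Commute (cert.toCert.x ^ (q.1 : ℕ) * T d ^ (q.2 : ℕ)) cert.toCert.x :=
          ((Commute.refl _).pow_left _).mul_left ((ok.x_comm_T hd).pow_left _)
        rw [pow_one, ← map_mul, ← map_mul, hc.eq]
      · have hj : (q.2 : ℕ) = 0 ∨ (q.2 : ℕ) = 1 := by omega
        rcases hj with hj | hj <;> rw [hj, map_mul, Equiv.Perm.mul_apply]
        · rw [pow_zero, map_one, Equiv.Perm.one_apply]; exact (ok.moves_of_pow _).2 r hr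
        · rw [pow_one, hT.2 r hr]; exact (ok.moves_of_pow _).2 r hr⟩
  have hf : Function.Injective f := by
    rintro ⟨k, j⟩ ⟨k', j'⟩ e
    have e' : cert.toCert.x ^ (k : ℕ) * T d ^ (j : ℕ) = cert.toCert.x ^ (k' : ℕ) * T d ^ (j' : ℕ) :=
      congrArg Subtype.val e
    have hmem : (cert.toCert.x ^ (k' : ℕ))⁻¹ * cert.toCert.x ^ (k : ℕ) ∈ NCert.F cert ⊓ NCert.Sg cert := by
      have hx : cert.toCert.x ∈ NCert.F cert := Subgroup.mem_sup_left (Subgroup.mem_zpowers _)
      refine Subgroup.mem_inf.2 ⟨mul_mem (inv_mem (pow_mem hx _)) (pow_mem hx _), ?_⟩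
      have : (cert.toCert.x ^ (k' : ℕ))⁻¹ * cert.toCert.x ^ (k : ℕ) = T d ^ (j' : ℕ) * (T d ^ (j : ℕ))⁻¹ := by
        rw [eq_mul_inv_iff_mul_eq, mul_assoc, e', inv_mul_cancel_left]
      rw [this, Sg_eq]
      exact mul_mem (pow_mem (Subgroup.mem_zpowers _) _) (inv_mem (pow_mem (Subgroup.mem_zpowers _) _))
    rw [ok.F_inf_Sg, Subgroup.mem_bot, inv_mul_eq_one] at hmem
    rw [hmem] at e'
    have e2 := mul_left_cancel e'
    have ho : orderOf (T d) = 2 := orderOf_eq_prime (by rw [pow_two]; exact T_sq d) T_ne_one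
    rw [pow_eq_pow_iff_modEq, ho, Nat.ModEq, Nat.mod_eq_of_lt j.2, Nat.mod_eq_of_lt j'.2] at e2
    rw [pow_eq_pow_iff_modEq, ok.orderOf_x] at hmem
    change (k' : ℕ) % 11 = (k : ℕ) % 11 at hmem
    exact Prod.ext (Fin.ext (by
      rw [Nat.mod_eq_of_lt k.2, Nat.mod_eq_of_lt k'.2] at hmem; exact hmem.symm)) (Fin.ext e2)
  simpa using Nat.card_le_card_of_injective f hf
where
  T_comm_iff' (r : Row) (_ : (d : ℕ) ∈ cert.fixed) (hr : (r : ℕ) ∈ cert.seeds) : act (T d) r = r := by
    have : r = d := Fin.ext (by simpa [cert, d] using hr)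
    rw [this]
    exact (NCert.T_comm_iff d (T d)).1 rfl

theorem eq_normalizer : NCert.F cert ⊔ NCert.Sg cert =
    Subgroup.normalizer ((NCert.X cert : Subgroup Fi) : Set Fi) := by
  have h1 : Nat.card (cert.toCert.Elts 1) ≤ 22 := ok.toOK.card_elts_le count_one
  have h2 := ok.odd_bound odd_ok count_two
  have h3 := le_elts
  refine ok.normalizer_eq ((ok.card_normalizer_le h1 fun e he => ?_).trans ?_)
  · obtain rfl : e = 2 := by simpa [cert] using he
    omega
  · rw [card_Sg]; decide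

end P11

namespace P13

theorem Sg_eq : NCert.Sg cert = ⊥ := by
  show Subgroup.closure _ = _
  rw [show {r : Row | (r : ℕ) ∈ cert.fixed} = ∅ by ext r; simp [cert], Set.image_empty, Subgroup.closure_empty]

theorem eq_normalizer : NCert.F cert =
    Subgroup.normalizer ((NCert.X cert : Subgroup Fi) : Set Fi) := by
  have h1 : Nat.card (cert.toCert.Elts 1) ≤ 13 := ok.toOK.card_elts_le count_one
  have h2 := ok.odd_bound odd_ok count_two
  have h3 : 13 ≤ Nat.card (cert.toCert.Elts 1) := ok.elts_one_le_card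
  have h := ok.normalizer_eq ((ok.card_normalizer_le h1 fun e he => ?_).trans ?_)
  · rwa [Sg_eq, sup_bot_eq] at h
  · obtain rfl : e = 2 := by simpa [cert] using he
    omega
  · rw [Sg_eq, Subgroup.card_bot]; decide

end P13

end CfsgLib.Recog.FiNorm
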