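import Cfsg.Agent.Lib.Recog.FiNorm.Symmetric

set_option autoImplicit false
set_option maxRecDepth 20000

/-!
Deducing the bounds on centralisers from the checks (owner: helper15).
-/

namespace CfsgLib.Recog.FiNorm

open Cfsg CfsgLib.ThreeTrans.CosetIndex
open CfsgLib.Recog.SporBound.Fi22Group (a act card_and_faithful finite_fi22)
open CfsgLib.Recog.SporBound.Fi22Aut

namespace NCert

variable {N : NCert}

/-- A word with the symmetry after it takes the element to its power and fixes the seeds. -/
noncomputable def oddOK (N : NCert) (e : ℕ) (v : List ℕ) : Bool :=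
  ((List.range (N.seeds.length + N.p)).all fun i =>
      Nat.beq (piTree.get (FiHat3510.data.trace (N.xTree.get (N.toCert.base 1 N.r0 i)) v.reverse))
        (N.toCert.it e (piTree.get (FiHat3510.data.trace (N.toCert.base 1 N.r0 i) v.reverse)))) &&
    N.seeds.all fun d => Nat.beq (piTree.get (FiHat3510.data.trace d v.reverse)) d

theorem OK.odd_bound (h : N.OK) {e k : ℕ} {v : List ℕ} (hv : N.oddOK e v = true)
    (hk : N.toCert.countOK e k = true) :
    Nat.card (N.toCert.Elts e) + Nat.card (N.toCert.Elts 1) ≤ k := by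
  set g := (v.map a).prod
  have hval : ∀ r : Row, (((piPerm * act g) r : Row) : ℕ) = piTree.get (FiHat3510.data.trace r v.reverse) := fun r => by
    rw [Equiv.Perm.mul_apply, trace_act, List.reverse_reverse]
    exact piFun_val _
  rw [oddOK, Bool.and_eq_true, List.all_eq_true, List.all_eq_true] at hv
  refine h.toOK.card_add_le hk (π := piPerm * act g)
    ⟨h.toOK.ext_base ((eqv_piPerm.mul (eqv_act _)).mul (eqv_act _)) ((eqv_act _).mul (eqv_piPerm.mul (eqv_act _)))
      fun i hi r hr => Fin.ext ?_, fun d hd => Fin.ext ?_⟩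
    (eqv_piPerm.mul (eqv_act _)) (by rw [map_mul, sign_piPerm, sign_act, mul_one]) sign_act
  · have h' := Nat.eq_of_beq_eq_true (hv.1 i (List.mem_range.2 hi))
    rw [← hr, h.toOK.tab] at h'
    rw [← hval, ← hval, h.toOK.it_eq] at h'
    rw [Equiv.Perm.mul_apply, Equiv.Perm.mul_apply (act (N.toCert.x ^ e))]
    exact h'
  · rw [hval]
    exact Nat.eq_of_beq_eq_true (hv.2 d hd)

theorem OK.elts_one_le_card (h : N.OK) : N.p ≤ Nat.card (N.toCert.Elts 1) := by
  have := finite_fi22
  let f : Fin N.p → N.toCert.Elts 1 := fun k => ⟨N.toCert.x ^ (k : ℕ), h.moves_of_pow k⟩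
  have hf : Function.Injective f := fun k l e => by
    have e' : N.toCert.x ^ (k : ℕ) = N.toCert.x ^ (l : ℕ) := congrArg Subtype.val e
    rw [pow_eq_pow_iff_modEq, h.orderOf_x, Nat.ModEq, Nat.mod_eq_of_lt k.2, Nat.mod_eq_of_lt l.2] at e'
    exact Fin.ext e'
  simpa using Nat.card_le_card_of_injective f hf

/-- The normaliser is the product of the two factors once the count allows it. -/
theorem OK.normalizer_eq (h : N.OK)
    (hle : Nat.card ↥(Subgroup.normalizer ((X N : Subgroup Cfsg.Spor.Fi22) : Set Cfsg.Spor.Fi22)) ≤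
      N.p * N.m * Nat.card (Sg N)) :
    F N ⊔ Sg N = Subgroup.normalizer ((X N : Subgroup Cfsg.Spor.Fi22) : Set Cfsg.Spor.Fi22) := by
  have := finite_fi22
  refine SetLike.ext' (Set.eq_of_subset_of_ncard_le (sup_le h.F_le h.Sg_le) ?_)
  rw [← Nat.card_coe_set_eq, ← Nat.card_coe_set_eq]
  exact hle.trans_eq (by rw [← h.card_F]; exact h.card_sup.symm)

end NCert

end CfsgLib.Recog.FiNorm
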