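import Cfsg.Agent.Lib.Recog.FiNorm.Bounds
import Cfsg.Agent.Lib.Recog.FiNorm.Data13

set_option autoImplicit false
set_option maxRecDepth 100000
set_option Elab.async false

/-! The count of survivors for the normaliser of an element of order 13 in Fi22 (owner: helper15). -/

namespace CfsgLib.Recog.FiNorm.P13

theorem count_two_0 : cert.toCert.countPart 2 0 0 = true := by decide +kernel

theorem count_two_1 : cert.toCert.countPart 2 1 3 = true := by decide +kernel

theorem count_two_2 : cert.toCert.countPart 2 2 1 = true := by decide +kernel

theorem count_two_3 : cert.toCert.countPart 2 3 1 = true := by decide +kernel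

theorem count_two_4 : cert.toCert.countPart 2 4 2 = true := by decide +kernel

theorem count_two_5 : cert.toCert.countPart 2 5 0 = true := by decide +kernel

theorem count_two_6 : cert.toCert.countPart 2 6 1 = true := by decide +kernel

theorem count_two_7 : cert.toCert.countPart 2 7 0 = true := by decide +kernel

theorem count_two_8 : cert.toCert.countPart 2 8 0 = true := by decide +kernel

theorem count_two_9 : cert.toCert.countPart 2 9 1 = true := by decide +kernel

theorem count_two_10 : cert.toCert.countPart 2 10 0 = true := by decide +kernel

theorem count_two_11 : cert.toCert.countPart 2 11 2 = true := by decide +kernel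

theorem count_two_12 : cert.toCert.countPart 2 12 2 = true := by decide +kernel

theorem count_two : cert.toCert.countOK 2 13 = true := by
  refine Cert.countOK_of_parts [0, 3, 1, 1, 2, 0, 1, 0, 0, 1, 0, 2, 2] (fun i hi => ?_) (by decide)
  interval_cases i
  exacts [count_two_0, count_two_1, count_two_2, count_two_3, count_two_4, count_two_5, count_two_6, count_two_7, count_two_8, count_two_9, count_two_10, count_two_11, count_two_12]

end CfsgLib.Recog.FiNorm.P13
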