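import Cfsg.Agent.Lib.Recog.SporBound.Fi22Aut.Main

set_option autoImplicit false
set_option maxRecDepth 20000
set_option Elab.async false

/-!
Fingerprints on the rows of Fi22 bounding the elements that normalise a cyclic subgroup (owner: helper15).
-/

namespace CfsgLib.Recog.FiNorm

open Cfsg CfsgLib.ThreeTrans.CosetIndex
open CfsgLib.Recog.SporBound (Q)
open CfsgLib.Recog.SporBound.Fi22Group (a act card_and_faithful finite_fi22)
open CfsgLib.Recog.SporBound.Fi22Aut

local notation "G" => Cfsg.Spor.Fi22

/-- A point named by an element: a base point when the two indices agree, otherwise the image of the second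
base point under the transposition of the first. -/
abbrev Term : Type := ℕ × ℕ

/-- The data of a certificate. -/
structure Cert where
  /-- the order of the element -/
  p : ℕ
  /-- the element -/
  xWord : List ℕ
  /-- the element on the rows -/
  xTree : Q ℕ
  /-- the fixed rows -/
  fixed : List ℕ
  /-- fixed rows followed by the element -/
  seeds : List ℕ
  /-- a row that moves -/
  r0 : ℕ
  /-- pairs of terms and whether their transpositions commute at the first row -/
  tests : List (Term × Term × Bool)
  /-- steps (row, index of a base point) generating all rows -/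
  steps : List (ℕ × ℕ)

namespace Cert

variable (C : Cert)

/-- A power of the element on the rows. -/
noncomputable def it (k r : ℕ) : ℕ := Nat.rec (motive := fun _ => ℕ) r (fun _ v => C.xTree.get v) k

/-- A base point. -/
noncomputable def base (e r i : ℕ) : ℕ :=
  cond (Nat.blt i C.seeds.length) (C.seeds.getD i 0) (C.it ((e * (i - C.seeds.length)) % C.p) r)

/-- The row of a term. -/
noncomputable def pt (e r : ℕ) (t : Term) : ℕ :=
  cond (Nat.beq t.1 t.2) (C.base e r t.1) (FiHat3510.data.trace (C.base e r t.2) (pal (C.base e r t.1)))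

/-- A row passes all tests. -/
noncomputable def surv (e r : ℕ) : Bool :=
  C.tests.all fun t => comB (C.pt e r t.1) (C.pt e r t.2.1) == t.2.2

/-- The rows generated by the base points. -/
noncomputable def closeFrom (steps : List (ℕ × ℕ)) (acc : ℕ) : ℕ :=
  List.rec (motive := fun _ => ℕ → ℕ) (fun acc => acc)
    (fun e _ ih acc => ih (cond (acc.testBit e.1)
      (Nat.lor acc (Nat.shiftLeft 1 (FiHat3510.data.trace e.1 (pal (C.base 1 C.r0 e.2))))) acc)) steps acc

/-- The base points. -/
noncomputable def baseMask : ℕ :=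
  (List.range (C.seeds.length + C.p)).foldr (fun i acc => Nat.lor acc (Nat.shiftLeft 1 (C.base 1 C.r0 i))) 0

/-- The element is right on the rows and fixes exactly the given rows. -/
noncomputable def treeOK : Bool :=
  (List.range 3510).all fun r => Nat.beq (FiHat3510.data.trace r C.xWord.reverse) (C.xTree.get r) &&
    (Nat.beq (C.it C.p r) r && (Nat.beq (C.xTree.get r) r == C.fixed.contains r))

/-- The small checks. -/
noncomputable def smallOK : Bool :=
  Nat.blt 1 C.p && (Nat.blt C.r0 3510 && (C.surv 1 C.r0 &&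
    ((C.fixed.all fun d => Nat.blt d 3510) && C.seeds.all fun d => C.fixed.contains d)))

/-- The base points generate all rows. -/
noncomputable def closeOK : Bool := Nat.beq (C.closeFrom C.steps C.baseMask) (2 ^ 3510 - 1)

/-- One of the thirteen parts of the rows. -/
def rows (i : ℕ) : List ℕ := List.range' (i * 270) 270

/-- The table is right on one part of the rows. -/
noncomputable def treePart (i : ℕ) : Bool :=
  (rows i).all fun r => Nat.beq (FiHat3510.data.trace r C.xWord.reverse) (C.xTree.get r) &&
    (Nat.beq (C.it C.p r) r && (Nat.beq (C.xTree.get r) r == C.fixed.contains r))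

/-- The number of survivors in one part of the rows. -/
noncomputable def countPart (e i k : ℕ) : Bool := Nat.ble ((rows i).countP fun r => C.surv e r) k

/-- The number of survivors. -/
noncomputable def countOK (e k : ℕ) : Bool :=
  Nat.ble ((List.range 3510).countP fun r => C.surv e r) k

/-- The checked conditions. -/
structure OK : Prop where
  tree : C.treeOK = true
  small : C.smallOK = true
  close : C.closeOK = true

/-- The element. -/
noncomputable def x : G := (C.xWord.map a).prod

end Cert

/-- A permutation of the rows carrying transpositions to transpositions. -/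
def Eqv (f : Equiv.Perm Row) : Prop := ∀ r s : Row, f (act (T r) s) = act (T (f r)) (f s)

theorem eqv_act (h : G) : Eqv (act h) := fun r s => by
  rw [T_equiv, map_mul, map_mul, Equiv.Perm.mul_apply, Equiv.Perm.mul_apply, map_inv, Equiv.Perm.coe_inv,
    Equiv.symm_apply_apply]

theorem Eqv.mul {f g : Equiv.Perm Row} (hf : Eqv f) (hg : Eqv g) : Eqv (f * g) := fun r s => by
  rw [Equiv.Perm.mul_apply, hg r s, hf]; rfl

theorem Eqv.com_iff {f : Equiv.Perm Row} (hf : Eqv f) {r s : Row} : com (f r) (f s) ↔ com r s := by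
  unfold com
  rw [← hf r s]
  exact f.injective.eq_iff

namespace Cert

variable {C : Cert}

theorem treeOK_of_parts (h : ∀ i < 13, C.treePart i = true) : C.treeOK = true := by
  refine List.all_eq_true.2 fun r hr => ?_
  rw [List.mem_range] at hr
  exact List.all_eq_true.1 (h (r / 270) (by omega)) r (by rw [rows, List.mem_range'_1]; omega)

theorem countP_range_parts (P : ℕ → Bool) (n : ℕ) (L : ℕ → ℕ) (h : ∀ i < n, (rows i).countP P ≤ L i) :
    (List.range (n * 270)).countP P ≤ ((List.range n).map L).sum := by
  induction n with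
  | zero => simp
  | succ n ih =>
    have e : List.range ((n + 1) * 270) = List.range (n * 270) ++ rows n := by
      rw [List.range_eq_range', List.range_eq_range', rows, Nat.succ_mul, ← List.range'_append_1, Nat.zero_add]
    rw [e, List.countP_append, List.range_succ, List.map_append, List.sum_append]
    exact Nat.add_le_add (ih fun i hi => h i (Nat.lt_succ_of_lt hi)) (by simpa using h n (Nat.lt_succ_self n))

theorem countOK_of_parts {e k : ℕ} (L : List ℕ) (h : ∀ i < 13, C.countPart e i (L.getD i 0) = true)
    (hk : ((List.range 13).map fun i => L.getD i 0).sum ≤ k) : C.countOK e k = true := by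
  rw [countOK, Nat.ble_eq, show (3510 : ℕ) = 13 * 270 from rfl]
  refine le_trans (countP_range_parts _ 13 (fun i => L.getD i 0) fun i hi => ?_) hk
  have h' := h i hi
  rwa [countPart, Nat.ble_eq] at h'

theorem closeFrom_append (a b : List (ℕ × ℕ)) (acc : ℕ) :
    C.closeFrom (a ++ b) acc = C.closeFrom b (C.closeFrom a acc) := by
  induction a generalizing acc with
  | nil => rfl
  | cons s a ih => exact ih _

/-- The element acts as its table. -/
theorem OK.tab (h : C.OK) (r : Row) : C.xTree.get r = ((act C.x r : Row) : ℕ) := by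
  have h' := List.all_eq_true.1 h.tree r (List.mem_range.2 r.2)
  rw [Bool.and_eq_true] at h'
  rw [← Nat.eq_of_beq_eq_true h'.1, trace_act, List.reverse_reverse, Cert.x]

theorem OK.it_eq (h : C.OK) (k : ℕ) (r : Row) : C.it k r = ((act (C.x ^ k) r : Row) : ℕ) := by
  induction k with
  | zero => rw [pow_zero, map_one]; rfl
  | succ k ih =>
    show C.xTree.get (C.it k r) = _
    rw [ih, h.tab, pow_succ', map_mul, Equiv.Perm.mul_apply]

theorem OK.pow_eq_one (h : C.OK) : C.x ^ C.p = 1 := by
  refine card_and_faithful.2.1 (Equiv.ext fun r => Fin.ext ?_)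
  have h' := List.all_eq_true.1 h.tree r (List.mem_range.2 r.2)
  simp only [Bool.and_eq_true] at h'
  rw [← h.it_eq, Nat.eq_of_beq_eq_true h'.2.1, map_one]
  rfl

theorem OK.fix_iff (h : C.OK) (r : Row) : act C.x r = r ↔ (r : ℕ) ∈ C.fixed := by
  have h' := List.all_eq_true.1 h.tree r (List.mem_range.2 r.2)
  simp only [Bool.and_eq_true, beq_iff_eq] at h'
  rw [← List.contains_iff_mem, ← h'.2.2, h.tab, Nat.beq_eq, Fin.ext_iff]

theorem OK.r0_lt (h : C.OK) : C.r0 < 3510 := by
  have := h.small
  simp only [smallOK, Bool.and_eq_true, Nat.blt_eq] at this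
  exact this.2.1

theorem OK.one_lt (h : C.OK) : 1 < C.p := by
  have := h.small
  simp only [smallOK, Bool.and_eq_true, Nat.blt_eq] at this
  exact this.1

theorem OK.seed_mem (h : C.OK) {d : ℕ} (hd : d ∈ C.seeds) : d ∈ C.fixed ∧ d < 3510 := by
  have := h.small
  simp only [smallOK, Bool.and_eq_true, List.all_eq_true, Nat.blt_eq] at this
  have hm : d ∈ C.fixed := List.contains_iff_mem.1 (this.2.2.2.2 d hd)
  exact ⟨hm, this.2.2.2.1 d hm⟩

/-- The row `r0`. -/
noncomputable def OK.row0 (h : C.OK) : Row := ⟨C.r0, h.r0_lt⟩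

/-- A permutation takes the element to its power and fixes the seeds. -/
def Moves (C : Cert) (e : ℕ) (f : Equiv.Perm Row) : Prop :=
  f * act C.x = act (C.x ^ e) * f ∧ ∀ d : Row, (d : ℕ) ∈ C.seeds → f d = d

theorem Moves.pow {e : ℕ} {f : Equiv.Perm Row} (hf : C.Moves e f) (k : ℕ) :
    f * act (C.x ^ k) = act (C.x ^ (e * k)) * f := by
  induction k with
  | zero => simp
  | succ k ih =>
    rw [pow_succ, map_mul, ← mul_assoc, ih, mul_assoc, hf.1, ← mul_assoc, ← map_mul, ← pow_add, Nat.mul_succ]

theorem Moves.base_eq (h : C.OK) {e : ℕ} {f : Equiv.Perm Row} (hf : C.Moves e f) {i : ℕ}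
    (hi : i < C.seeds.length ∨ C.seeds.length ≤ i) :
    ∃ b : Row, (b : ℕ) = C.base 1 C.r0 i ∧ ((f b : Row) : ℕ) = C.base e (f h.row0) i := by
  by_cases hs : i < C.seeds.length
  · have hm : C.seeds.getD i 0 ∈ C.seeds := by
      rw [List.getD_eq_getElem _ _ hs]; exact List.getElem_mem hs
    have hb : Nat.blt i C.seeds.length = true := by rw [Nat.blt_eq]; exact hs
    refine ⟨⟨C.seeds.getD i 0, (h.seed_mem hm).2⟩, ?_, ?_⟩
    · simp only [Cert.base, hb, cond_true]
    · rw [hf.2 _ hm]
      simp only [Cert.base, hb, cond_true]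
  · have hb : Nat.blt i C.seeds.length = false := Bool.eq_false_iff.2 (by rw [Ne, Nat.blt_eq]; exact hs)
    simp only [Cert.base, hb, cond_false, one_mul]
    set k := i - C.seeds.length
    refine ⟨act (C.x ^ (k % C.p)) h.row0, (h.it_eq _ h.row0).symm, ?_⟩
    rw [h.it_eq, ← pow_eq_pow_mod _ h.pow_eq_one, ← pow_eq_pow_mod _ h.pow_eq_one, ← Equiv.Perm.mul_apply,
      hf.pow k, Equiv.Perm.mul_apply]

theorem Moves.pt_eq (h : C.OK) {e : ℕ} {f : Equiv.Perm Row} (hf : C.Moves e f) (he : Eqv f) (t : Term) :
    ∃ b : Row, (b : ℕ) = C.pt 1 C.r0 t ∧ ((f b : Row) : ℕ) = C.pt e (f h.row0) t := by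
  obtain ⟨u, hu, hu'⟩ := hf.base_eq h (i := t.1) (Nat.lt_or_ge _ _)
  obtain ⟨v, hv, hv'⟩ := hf.base_eq h (i := t.2) (Nat.lt_or_ge _ _)
  cases hb : Nat.beq t.1 t.2
  · simp only [Cert.pt, hb, cond_false, ← hu, ← hv, ← hu', ← hv']
    refine ⟨act (T u) v, (trace_pal u v).symm, ?_⟩
    rw [he, trace_pal]
  · simp only [Cert.pt, hb, cond_true]
    exact ⟨u, hu, hu'⟩

theorem OK.surv_of_moves (h : C.OK) {e : ℕ} {f : Equiv.Perm Row} (hf : C.Moves e f) (he : Eqv f) :
    C.surv e (f h.row0) = true := by
  refine List.all_eq_true.2 fun t ht => ?_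
  have h0 := h.small
  simp only [smallOK, Bool.and_eq_true] at h0
  have h1 := List.all_eq_true.1 h0.2.2.1 t ht
  obtain ⟨u, hu, hu'⟩ := hf.pt_eq h he t.1
  obtain ⟨v, hv, hv'⟩ := hf.pt_eq h he t.2.1
  rw [beq_iff_eq] at h1 ⊢
  rw [← h1, ← hu, ← hv, ← hu', ← hv', Bool.eq_iff_iff, comB_iff, comB_iff, he.com_iff]

theorem OK.exists_base (h : C.OK) (i : ℕ) : ∃ b : Row, (b : ℕ) = C.base 1 C.r0 i := by
  obtain ⟨b, hb, -⟩ := Moves.base_eq h (e := 1) (f := 1) ⟨by simp, fun _ _ => rfl⟩ (i := i) (Nat.lt_or_ge _ _)
  exact ⟨b, hb⟩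

/-- Two symmetries agreeing on the base points are equal. -/
theorem OK.ext_base (h : C.OK) {f g : Equiv.Perm Row} (ef : Eqv f) (eg : Eqv g)
    (hb : ∀ i < C.seeds.length + C.p, ∀ r : Row, (r : ℕ) = C.base 1 C.r0 i → f r = g r) : f = g := by
  have hbase : ∀ i, ∃ b : Row, (b : ℕ) = C.base 1 C.r0 i ∧ f b = g b := fun i => by
    obtain ⟨b, hb'⟩ := h.exists_base i
    refine ⟨b, hb', ?_⟩
    have hp := Nat.zero_lt_of_lt h.one_lt
    by_cases hi : i < C.seeds.length + C.p
    · exact hb i hi b hb'
    · refine hb (C.seeds.length + (i - C.seeds.length) % C.p)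
        (Nat.add_lt_add_left (Nat.mod_lt _ hp) _) b (hb'.trans ?_)
      have h1 : Nat.blt i C.seeds.length = false := Bool.eq_false_iff.2 (by rw [Ne, Nat.blt_eq]; omega)
      have h2 : Nat.blt (C.seeds.length + (i - C.seeds.length) % C.p) C.seeds.length = false :=
        Bool.eq_false_iff.2 (by rw [Ne, Nat.blt_eq]; omega)
      simp only [Cert.base, h1, h2, cond_false, one_mul, Nat.add_sub_cancel_left, Nat.mod_mod]
  have main : ∀ (steps : List (ℕ × ℕ)) (acc : ℕ),
      (∀ q, acc.testBit q = true → ∃ r : Row, (r : ℕ) = q ∧ f r = g r) →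
      ∀ q, (C.closeFrom steps acc).testBit q = true → ∃ r : Row, (r : ℕ) = q ∧ f r = g r := by
    intro steps
    induction steps with
    | nil => exact fun acc hacc => hacc
    | cons s ss ih =>
      intro acc hacc
      refine ih _ fun q hq => ?_
      cases hb : acc.testBit s.1 with
      | false => rw [hb] at hq; exact hacc q hq
      | true =>
        rw [hb] at hq
        change (acc ||| 1 <<< FiHat3510.data.trace s.1 (pal (C.base 1 C.r0 s.2)) : ℕ).testBit q = true at hq
        rw [Nat.testBit_or, Nat.one_shiftLeft, Nat.testBit_two_pow, Bool.or_eq_true, decide_eq_true_eq] at hq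
        rcases hq with hq | hq
        · exact hacc q hq
        obtain ⟨r, hr, hfr⟩ := hacc s.1 hb
        obtain ⟨b, hb', hfb⟩ := hbase s.2
        refine ⟨act (T b) r, ?_, by rw [ef, eg, hfr, hfb]⟩
        rw [← trace_pal, hr, hb', hq]
  have hinit : ∀ (L : List ℕ) (q : ℕ),
      (L.foldr (fun i acc => Nat.lor acc (Nat.shiftLeft 1 (C.base 1 C.r0 i))) 0).testBit q = true →
      ∃ r : Row, (r : ℕ) = q ∧ f r = g r := by
    intro L
    induction L with
    | nil => intro q hq; simp at hq
    | cons i L ih =>
      intro q hq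
      rw [List.foldr_cons] at hq
      change (_ ||| 1 <<< C.base 1 C.r0 i : ℕ).testBit q = true at hq
      rw [Nat.testBit_or, Nat.one_shiftLeft, Nat.testBit_two_pow, Bool.or_eq_true, decide_eq_true_eq] at hq
      rcases hq with hq | hq
      · exact ih q hq
      · obtain ⟨b, hb, hfb⟩ := hbase i
        exact ⟨b, hb.trans hq, hfb⟩
  refine Equiv.ext fun r => ?_
  obtain ⟨r', hr', hfr⟩ := main C.steps C.baseMask (hinit _) r (by
    rw [Nat.eq_of_beq_eq_true h.close, Nat.testBit_two_pow_sub_one]
    exact decide_eq_true r.2)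
  exact (Fin.ext hr' : r' = r) ▸ hfr

/-- Such a permutation is determined by the image of `r0`. -/
theorem OK.ext (h : C.OK) {e : ℕ} {f g : Equiv.Perm Row} (hf : C.Moves e f) (hg : C.Moves e g) (ef : Eqv f)
    (eg : Eqv g) (h0 : f h.row0 = g h.row0) : f = g := by
  refine h.ext_base ef eg fun i _ r hr => ?_
  obtain ⟨b, hb, hb'⟩ := hf.base_eq h (i := i) (Nat.lt_or_ge _ _)
  obtain ⟨c, hc, hc'⟩ := hg.base_eq h (i := i) (Nat.lt_or_ge _ _)
  obtain rfl : b = r := Fin.ext (hb.trans hr.symm)
  obtain rfl : c = b := Fin.ext (hc.trans hb.symm)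
  exact Fin.ext (by rw [hb', hc', h0])

/-- The survivors as a finite set. -/
theorem card_surv {e k : ℕ} (hk : C.countOK e k = true) :
    Nat.card {r : Row // C.surv e r = true} ≤ k := by
  classical
  rw [countOK, Nat.ble_eq, List.countP_eq_length_filter] at hk
  refine le_trans ?_ hk
  rw [← List.toFinset_card_of_nodup (List.nodup_range.filter _), Nat.card_eq_fintype_card, Fintype.card_subtype,
    ← Finset.card_map Fin.valEmbedding]
  refine Finset.card_le_card fun c hc => ?_
  simp only [Finset.mem_map, Finset.mem_filter, Finset.mem_univ, true_and] at hc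
  obtain ⟨r, hr, rfl⟩ := hc
  simp only [List.mem_toFinset, List.mem_filter, List.mem_range, Fin.valEmbedding_apply]
  exact ⟨r.2, hr⟩

/-- The elements taking the element to its power and fixing the seeds. -/
abbrev Elts (C : Cert) (e : ℕ) : Type := {h : G // C.Moves e (act h)}

theorem OK.card_elts_le (h : C.OK) {e k : ℕ} (hk : C.countOK e k = true) : Nat.card (C.Elts e) ≤ k := by
  classical
  refine le_trans (Nat.card_le_card_of_injective
    (fun u : C.Elts e => (⟨act u.1 h.row0, h.surv_of_moves u.2 (eqv_act _)⟩ : {r : Row // C.surv e r = true})) ?_)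
    (card_surv hk)
  intro u v huv
  exact Subtype.ext (card_and_faithful.2.1 (h.ext u.2 v.2 (eqv_act _) (eqv_act _) (congrArg Subtype.val huv)))

/-- An odd permutation in the same coset doubles the count. -/
theorem OK.card_add_le (h : C.OK) {e k : ℕ} (hk : C.countOK e k = true) {π : Equiv.Perm Row} (hπ : C.Moves e π)
    (eπ : Eqv π) (hodd : Equiv.Perm.sign π = -1) (heven : ∀ g : G, Equiv.Perm.sign (act g) = 1) :
    Nat.card (C.Elts e) + Nat.card (C.Elts 1) ≤ k := by
  classical
  have := finite_fi22
  have hcomp : ∀ v : C.Elts 1, C.Moves e (π * act v.1) := fun v => by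
    refine ⟨?_, fun d hd => by rw [Equiv.Perm.mul_apply, v.2.2 d hd, hπ.2 d hd]⟩
    rw [mul_assoc, v.2.1, pow_one, ← mul_assoc, hπ.1, mul_assoc]
  rw [← Nat.card_sum]
  refine le_trans (Nat.card_le_card_of_injective (Sum.elim
    (fun u : C.Elts e => (⟨act u.1 h.row0, h.surv_of_moves u.2 (eqv_act _)⟩ : {r : Row // C.surv e r = true}))
    (fun v : C.Elts 1 => ⟨(π * act v.1) h.row0, h.surv_of_moves (hcomp v) (eπ.mul (eqv_act _))⟩)) ?_) (card_surv hk)
  have hne : ∀ (u : C.Elts e) (v : C.Elts 1), act u.1 h.row0 ≠ (π * act v.1) h.row0 := fun u v e0 => by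
    have := congrArg Equiv.Perm.sign (h.ext u.2 (hcomp v) (eqv_act _) (eπ.mul (eqv_act _)) e0)
    rw [map_mul, hodd, heven, heven, mul_one] at this
    exact absurd this (by decide)
  rintro (u | v) (u' | v') huv
  · exact congrArg Sum.inl (Subtype.ext (card_and_faithful.2.1
      (h.ext u.2 u'.2 (eqv_act _) (eqv_act _) (congrArg Subtype.val huv))))
  · exact absurd (congrArg Subtype.val huv) (hne u v')
  · exact absurd (congrArg Subtype.val huv).symm (hne u' v)
  · exact congrArg Sum.inr (Subtype.ext (card_and_faithful.2.1 (mul_left_cancel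
      (h.ext (hcomp v) (hcomp v') (eπ.mul (eqv_act _)) (eπ.mul (eqv_act _)) (congrArg Subtype.val huv)))))

end Cert

/-- The transpositions of the symmetry of the diagram. -/
noncomputable def piFun (r : Row) : Row :=
  if h : piTree.get r < 3510 then ⟨piTree.get r, h⟩ else r

/-- The symmetry commutes with the tables. -/
noncomputable def piTabOK : Bool :=
  (List.range 3510).all fun c => Nat.blt (piTree.get c) 3510 && (List.range 9).all fun j =>
    Nat.beq (piTree.get (FiHat3510.data.tab c j)) (FiHat3510.data.tab (piTree.get c) (rv j))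

theorem piTab_0 : (Cert.rows 0).all (fun c => Nat.blt (piTree.get c) 3510 && (List.range 9).all fun j =>
    Nat.beq (piTree.get (FiHat3510.data.tab c j)) (FiHat3510.data.tab (piTree.get c) (rv j))) = true := by decide +kernel

theorem piTab_1 : (Cert.rows 1).all (fun c => Nat.blt (piTree.get c) 3510 && (List.range 9).all fun j =>
    Nat.beq (piTree.get (FiHat3510.data.tab c j)) (FiHat3510.data.tab (piTree.get c) (rv j))) = true := by decide +kernel

theorem piTab_2 : (Cert.rows 2).all (fun c => Nat.blt (piTree.get c) 3510 && (List.range 9).all fun j =>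
    Nat.beq (piTree.get (FiHat3510.data.tab c j)) (FiHat3510.data.tab (piTree.get c) (rv j))) = true := by decide +kernel

theorem piTab_3 : (Cert.rows 3).all (fun c => Nat.blt (piTree.get c) 3510 && (List.range 9).all fun j =>
    Nat.beq (piTree.get (FiHat3510.data.tab c j)) (FiHat3510.data.tab (piTree.get c) (rv j))) = true := by decide +kernel

theorem piTab_4 : (Cert.rows 4).all (fun c => Nat.blt (piTree.get c) 3510 && (List.range 9).all fun j =>
    Nat.beq (piTree.get (FiHat3510.data.tab c j)) (FiHat3510.data.tab (piTree.get c) (rv j))) = true := by decide +kernel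

theorem piTab_5 : (Cert.rows 5).all (fun c => Nat.blt (piTree.get c) 3510 && (List.range 9).all fun j =>
    Nat.beq (piTree.get (FiHat3510.data.tab c j)) (FiHat3510.data.tab (piTree.get c) (rv j))) = true := by decide +kernel

theorem piTab_6 : (Cert.rows 6).all (fun c => Nat.blt (piTree.get c) 3510 && (List.range 9).all fun j =>
    Nat.beq (piTree.get (FiHat3510.data.tab c j)) (FiHat3510.data.tab (piTree.get c) (rv j))) = true := by decide +kernel

theorem piTab_7 : (Cert.rows 7).all (fun c => Nat.blt (piTree.get c) 3510 && (List.range 9).all fun j =>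
    Nat.beq (piTree.get (FiHat3510.data.tab c j)) (FiHat3510.data.tab (piTree.get c) (rv j))) = true := by decide +kernel

theorem piTab_8 : (Cert.rows 8).all (fun c => Nat.blt (piTree.get c) 3510 && (List.range 9).all fun j =>
    Nat.beq (piTree.get (FiHat3510.data.tab c j)) (FiHat3510.data.tab (piTree.get c) (rv j))) = true := by decide +kernel

theorem piTab_9 : (Cert.rows 9).all (fun c => Nat.blt (piTree.get c) 3510 && (List.range 9).all fun j =>
    Nat.beq (piTree.get (FiHat3510.data.tab c j)) (FiHat3510.data.tab (piTree.get c) (rv j))) = true := by decide +kernel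

theorem piTab_10 : (Cert.rows 10).all (fun c => Nat.blt (piTree.get c) 3510 && (List.range 9).all fun j =>
    Nat.beq (piTree.get (FiHat3510.data.tab c j)) (FiHat3510.data.tab (piTree.get c) (rv j))) = true := by decide +kernel

theorem piTab_11 : (Cert.rows 11).all (fun c => Nat.blt (piTree.get c) 3510 && (List.range 9).all fun j =>
    Nat.beq (piTree.get (FiHat3510.data.tab c j)) (FiHat3510.data.tab (piTree.get c) (rv j))) = true := by decide +kernel

theorem piTab_12 : (Cert.rows 12).all (fun c => Nat.blt (piTree.get c) 3510 && (List.range 9).all fun j =>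
    Nat.beq (piTree.get (FiHat3510.data.tab c j)) (FiHat3510.data.tab (piTree.get c) (rv j))) = true := by decide +kernel

theorem piTab_ok : piTabOK = true := by
  refine List.all_eq_true.2 fun c hc => ?_
  rw [List.mem_range] at hc
  have h : ∀ i < 13, (Cert.rows i).all (fun c => Nat.blt (piTree.get c) 3510 && (List.range 9).all fun j =>
      Nat.beq (piTree.get (FiHat3510.data.tab c j)) (FiHat3510.data.tab (piTree.get c) (rv j))) = true := by
    intro i hi
    interval_cases i
    exacts [piTab_0, piTab_1, piTab_2, piTab_3, piTab_4, piTab_5, piTab_6, piTab_7, piTab_8, piTab_9, piTab_10, piTab_11, piTab_12]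
  exact List.all_eq_true.1 (h (c / 270) (by omega)) c (by rw [Cert.rows, List.mem_range'_1]; omega)

theorem piFun_val (r : Row) : ((piFun r : Row) : ℕ) = piTree.get r := by
  have h := List.all_eq_true.1 piTab_ok r (List.mem_range.2 r.2)
  rw [Bool.and_eq_true, Nat.blt_eq] at h
  rw [piFun, dif_pos h.1]

theorem piFun_invol (r : Row) : piFun (piFun r) = r := Fin.ext (by
  rw [piFun_val, piFun_val]
  exact Nat.eq_of_beq_eq_true (Bool.and_eq_true_iff.1 (List.all_eq_true.1 pi_ok r (List.mem_range.2 r.2))).2)

/-- The symmetry as a permutation of the rows. -/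
noncomputable def piPerm : Equiv.Perm Row := ⟨piFun, piFun, piFun_invol, piFun_invol⟩

theorem sign_piPerm : Equiv.Perm.sign piPerm = -1 := by
  classical
  have hinv : piPerm ^ 2 = 1 := Equiv.ext fun r => by
    rw [pow_two, Equiv.Perm.mul_apply]; exact piFun_invol r
  have hfix : Fintype.card (Function.fixedPoints piPerm) = 360 := by
    rw [← pi_fixed, Fintype.card_congr (Equiv.subtypeEquivRight (fun r => Iff.rfl) :
      Function.fixedPoints piPerm ≃ {r : Row // piPerm r = r}), Fintype.card_subtype, List.countP_eq_length_filter,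
      ← List.toFinset_card_of_nodup (List.nodup_range.filter _), ← Finset.card_map Fin.valEmbedding]
    refine congrArg Finset.card (Finset.ext fun c => ?_)
    simp only [Finset.mem_map, Finset.mem_filter, Finset.mem_univ, true_and, List.mem_toFinset, List.mem_filter,
      List.mem_range, Fin.valEmbedding_apply, Nat.beq_eq]
    constructor
    · rintro ⟨r, hr, rfl⟩
      exact ⟨r.2, (piFun_val r).symm.trans (congrArg Fin.val hr)⟩
    · rintro ⟨hc, he⟩
      exact ⟨⟨c, hc⟩, Fin.ext ((piFun_val _).trans he), rfl⟩
  rw [Equiv.Perm.sign_of_pow_two_eq_one hinv, hfix, Fintype.card_fin, show FiHat3510.data.n = 3510 from rfl]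
  decide

theorem sign_act (g : G) : Equiv.Perm.sign (act g) = 1 := by
  haveI : IsSimpleGroup G := CfsgLib.Recog.SporBound.Fi22Group.isSimple
  have := finite_fi22
  set χ := (Equiv.Perm.sign).comp act
  rcases (inferInstance : χ.ker.Normal).eq_bot_or_eq_top with h | h
  · exfalso
    have := Nat.card_le_card_of_injective χ ((MonoidHom.ker_eq_bot_iff χ).1 h)
    rw [card_and_faithful.1, Nat.card_eq_fintype_card, Fintype.card_units_int] at this
    omega
  · exact (h ▸ Subgroup.mem_top g : g ∈ χ.ker)

theorem eqv_piPerm : Eqv piPerm := by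
  obtain ⟨σ, hσ⟩ := exists_sigma
  have hc : ∀ g : G, piPerm * act g = act (σ g) * piPerm := by
    intro g
    have hg : g ∈ (⊤ : Subgroup G) := Subgroup.mem_top g
    rw [← gen_generates Cfsg.Agent.S1687.fits] at hg
    induction hg using Subgroup.closure_induction with
    | mem u hu =>
      obtain ⟨j, rfl⟩ := hu
      by_cases hj : j < 9
      · rw [hσ j hj]
        refine Equiv.ext fun c => Fin.ext ?_
        have h := List.all_eq_true.1 (Bool.and_eq_true_iff.1 (List.all_eq_true.1 piTab_ok c
          (List.mem_range.2 c.2))).2 j (List.mem_range.2 hj)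
        have t1 := trace_act [j] c
        have t2 := trace_act [rv j] (piFun c)
        rw [List.reverse_singleton, List.map_cons, List.map_nil, List.prod_cons, List.prod_nil, mul_one] at t1 t2
        show ((piFun (act (a j) c) : Row) : ℕ) = ((act (a (rv j)) (piFun c) : Row) : ℕ)
        rw [piFun_val, ← t1, ← t2, piFun_val]
        exact Nat.eq_of_beq_eq_true h
      · rw [gen_big Cfsg.Agent.S1687.fits (show FiHat3510.data.ng ≤ j from by
          have : FiHat3510.data.ng = 9 := rfl
          omega), map_one, map_one, map_one, mul_one, one_mul]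
    | one => simp
    | mul u v _ _ i j => rw [map_mul, map_mul, map_mul, ← mul_assoc, i, mul_assoc, j, mul_assoc]
    | inv u _ i => rw [map_inv, map_inv, map_inv, eq_inv_mul_iff_mul_eq, ← mul_assoc, ← i, mul_inv_cancel_right]
  have h6 : T ⟨173, by decide⟩ = a 6 := by
    refine card_and_faithful.2.1 (Equiv.ext fun c => Fin.ext ?_)
    rw [← trace_pal, Nat.eq_of_beq_eq_true (List.all_eq_true.1 pal_six c (List.mem_range.2 c.2))]
    have h := trace_act [6] c
    rw [List.reverse_singleton, List.map_cons, List.map_nil, List.prod_cons, List.prod_nil, mul_one] at h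
    exact h
  have h0 : piFun SporBound.Fi22U6.origin = ⟨173, by decide⟩ :=
    Fin.ext ((piFun_val _).trans (by decide +kernel))
  intro r s
  have e1 : σ (T r) = T (piPerm r) := by
    have hp : piPerm r = act (σ (gr r)) (piPerm SporBound.Fi22U6.origin) := by
      rw [← Equiv.Perm.mul_apply, ← hc, Equiv.Perm.mul_apply, gr_origin]
    rw [hp, show piPerm SporBound.Fi22U6.origin = _ from h0, T_equiv, h6, T, map_mul, map_mul, map_inv,
      hσ 0 (by omega)]
    rfl
  rw [← Equiv.Perm.mul_apply, hc, e1]
  rfl

end CfsgLib.Recog.FiNorm
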