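import Cfsg.Agent.Lib.Recog.FiNorm.Fingerprint

set_option autoImplicit false
set_option maxRecDepth 20000

/-!
The normaliser of a cyclic subgroup of Fi22 from a certificate: a Frobenius factor and the transpositions
centralising it (owner: helper15).
-/

namespace CfsgLib.Recog.FiNorm

open Cfsg CfsgLib.ThreeTrans.CosetIndex
open CfsgLib.Recog.SporBound.Fi22Group (a act card_and_faithful finite_fi22)
open CfsgLib.Recog.SporBound.Fi22Aut

universe u

/-- The rest of the certificate: the complement, the multiplier and the bounds. -/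
structure NCert extends Cert where
  /-- the order of the complement -/
  m : ℕ
  /-- the multiplier -/
  g : ℕ
  /-- the complement -/
  wWord : List ℕ
  /-- the exponents outside -/
  bad : List ℕ
  /-- tuples of images of the seeds -/
  nTuples : ℕ

namespace NCert

variable (N : NCert)

/-- The generator of the complement. -/
noncomputable def w : Cfsg.Spor.Fi22 := (N.wWord.map a).prod

/-- The image of a row under the complement. -/
noncomputable def wAt (r : ℕ) : ℕ := FiHat3510.data.trace r N.wWord.reverse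

/-- The power of the image of a row. -/
noncomputable def wIt (k r : ℕ) : ℕ := Nat.rec (motive := fun _ => ℕ) r (fun _ v => N.wAt v) k

/-- At the base points the complement acts on the element by the multiplier and has order `m`; it fixes the
fixed rows. -/
noncomputable def wOK : Bool :=
  ((List.range (N.seeds.length + N.p)).all fun i =>
      Nat.beq (N.wAt (N.xTree.get (N.toCert.base 1 N.r0 i))) (N.toCert.it N.g (N.wAt (N.toCert.base 1 N.r0 i))) &&
      Nat.beq (N.wIt N.m (N.toCert.base 1 N.r0 i)) (N.toCert.base 1 N.r0 i)) &&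
    N.fixed.all fun d => Nat.beq (N.wAt d) d

/-- Every exponent is a power of the multiplier times one or an exponent outside. -/
def expOK : Bool :=
  (List.range N.p).all fun e => Nat.beq e 0 || (List.range N.m).any fun i =>
    (1 :: N.bad).any fun rep => Nat.beq (N.g ^ i * rep % N.p) e

/-- The powers of the multiplier are all different. -/
def multOK : Bool := Nat.blt 1 N.m &&
  (((List.range N.m).all fun i => Nat.beq i 0 || !Nat.beq (N.g ^ i % N.p) 1) && !N.fixed.contains N.r0)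

/-- Extensions of prefixes that repeat the pattern of the seeds. -/
noncomputable def ext (i : ℕ) (L : List (List ℕ)) : List (List ℕ) :=
  L.flatMap fun pre => (N.fixed.filter fun d => (List.range i).all fun j =>
    (comB (pre.getD j 0) d == comB (N.seeds.getD j 0) (N.seeds.getD i 0)) && !Nat.beq (pre.getD j 0) d).map
      fun d => pre ++ [d]

/-- The tuples with the pattern of the seeds. -/
noncomputable def tuples (k : ℕ) : List (List ℕ) :=
  Nat.rec (motive := fun _ => List (List ℕ)) [[]] (fun i L => N.ext i L) k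

/-- The number of tuples is as stated. -/
noncomputable def tupleOK : Bool := Nat.ble (N.tuples N.seeds.length).length N.nTuples && decide N.seeds.Nodup

/-- The checked conditions. -/
structure OK : Prop extends N.toCert.OK where
  prime : N.p.Prime
  wok : N.wOK = true
  exp : N.expOK = true
  mult : N.multOK = true
  tuple : N.tupleOK = true

variable {N}

theorem OK.wAt_eq (r : Row) : N.wAt r = ((act N.w r : Row) : ℕ) := by
  rw [wAt, trace_act, List.reverse_reverse, w]

theorem OK.wIt_eq (k : ℕ) (r : Row) : N.wIt k r = ((act (N.w ^ k) r : Row) : ℕ) := by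
  induction k with
  | zero => rw [pow_zero, map_one]; rfl
  | succ k ih =>
    show N.wAt (N.wIt k r) = _
    rw [ih, OK.wAt_eq, pow_succ', map_mul, Equiv.Perm.mul_apply]

theorem OK.w_rel (h : N.OK) : N.w * N.toCert.x = N.toCert.x ^ N.g * N.w ∧ N.w ^ N.m = 1 ∧
    ∀ r : Row, (r : ℕ) ∈ N.fixed → act N.w r = r := by
  have h' := h.wok
  rw [wOK, Bool.and_eq_true, List.all_eq_true, List.all_eq_true] at h'
  refine ⟨card_and_faithful.2.1 (h.toOK.ext_base (eqv_act _) (eqv_act _) fun i hi r hr => Fin.ext ?_),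
    card_and_faithful.2.1 (h.toOK.ext_base (eqv_act _) (eqv_act _) fun i hi r hr => Fin.ext ?_),
    fun r hr => Fin.ext ?_⟩
  · have h2 := (Bool.and_eq_true_iff.1 (h'.1 i (List.mem_range.2 hi))).1
    rw [← hr, h.toOK.tab, OK.wAt_eq, OK.wAt_eq, h.toOK.it_eq] at h2
    rw [map_mul, map_mul, Equiv.Perm.mul_apply, Equiv.Perm.mul_apply]
    exact Nat.eq_of_beq_eq_true h2
  · have h2 := (Bool.and_eq_true_iff.1 (h'.1 i (List.mem_range.2 hi))).2
    rw [← hr, OK.wIt_eq] at h2
    rw [Nat.eq_of_beq_eq_true h2, map_one]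
    rfl
  · rw [← OK.wAt_eq, Nat.eq_of_beq_eq_true (h'.2 r hr)]

theorem OK.x_ne (h : N.OK) : N.toCert.x ≠ 1 := by
  intro e
  have h' := h.mult
  rw [multOK, Bool.and_eq_true, Bool.and_eq_true, Bool.not_eq_true'] at h'
  have hr : act N.toCert.x h.toOK.row0 = h.toOK.row0 := by rw [e, map_one]; rfl
  have := List.contains_iff_mem.2 ((h.toOK.fix_iff _).1 hr)
  rw [show ((h.toOK.row0 : Row) : ℕ) = N.r0 from rfl, h'.2.2] at this
  exact absurd this (by simp)

theorem OK.orderOf_x (h : N.OK) : orderOf N.toCert.x = N.p :=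
  haveI := Fact.mk h.prime
  orderOf_eq_prime h.toOK.pow_eq_one h.x_ne

/-- The group generated by the element. -/
noncomputable abbrev X (N : NCert) : Subgroup Cfsg.Spor.Fi22 := Subgroup.zpowers N.toCert.x

/-- The Frobenius factor. -/
noncomputable abbrev F (N : NCert) : Subgroup Cfsg.Spor.Fi22 := Subgroup.zpowers N.toCert.x ⊔ Subgroup.zpowers N.w

/-- The transpositions centralising the element generate this group. -/
noncomputable abbrev Sg (N : NCert) : Subgroup Cfsg.Spor.Fi22 :=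
  Subgroup.closure (T '' {r : Row | (r : ℕ) ∈ N.fixed})

theorem OK.card_X (h : N.OK) : Nat.card (X N) = N.p := by rw [Nat.card_zpowers, h.orderOf_x]

theorem T_comm_iff (r : Row) (h : Cfsg.Spor.Fi22) : T r * h = h * T r ↔ act h r = r := by
  constructor
  · intro e
    refine T_inj ?_
    rw [T_equiv, ← e, mul_inv_cancel_right]
  · intro e
    have h2 := T_equiv h r
    rw [e] at h2
    calc T r * h = h * T r * h⁻¹ * h := by rw [← h2]
      _ = h * T r := inv_mul_cancel_right _ _

theorem OK.transpositions_eq (h : N.OK) :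
    Set.range T ∩ (Subgroup.centralizer ((X N : Subgroup Cfsg.Spor.Fi22) : Set Cfsg.Spor.Fi22) : Set Cfsg.Spor.Fi22)
      = T '' {r : Row | (r : ℕ) ∈ N.fixed} := by
  ext z
  constructor
  · rintro ⟨⟨r, rfl⟩, hr⟩
    have := Subgroup.mem_centralizer_iff.1 hr N.toCert.x (Subgroup.mem_zpowers _)
    exact ⟨r, (h.toOK.fix_iff r).1 ((T_comm_iff r _).1 this.symm), rfl⟩
  · rintro ⟨r, hr, rfl⟩
    refine ⟨⟨r, rfl⟩, Subgroup.mem_centralizer_iff.2 ?_⟩
    rintro _ ⟨k, rfl⟩
    have hc : Commute (T r) N.toCert.x := (T_comm_iff r _).2 ((h.toOK.fix_iff r).2 hr)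
    exact (hc.zpow_right k).eq.symm

theorem OK.exists_exponent (h : N.OK) {u : Cfsg.Spor.Fi22}
    (hu : u ∈ Subgroup.normalizer ((X N : Subgroup Cfsg.Spor.Fi22) : Set Cfsg.Spor.Fi22)) :
    ∃ e, e < N.p ∧ e ≠ 0 ∧ u * N.toCert.x * u⁻¹ = N.toCert.x ^ e := by
  classical
  have := finite_fi22
  have hm : u * N.toCert.x * u⁻¹ ∈ Subgroup.zpowers N.toCert.x :=
    (Subgroup.mem_normalizer_iff.1 hu _).1 (Subgroup.mem_zpowers _)
  obtain ⟨k, hk⟩ := mem_zpowers_iff_mem_range_orderOf.1 hm |> Finset.mem_image.1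
  rw [Finset.mem_range, h.orderOf_x] at hk
  refine ⟨k, hk.1, fun e => h.x_ne ?_, hk.2.symm⟩
  rw [e, pow_zero] at hk
  exact conj_eq_one_iff.1 hk.2.symm

theorem mem_normalizer_zpowers {G : Type*} [Group G] [Finite G] {u y : G}
    (h : u * y * u⁻¹ ∈ Subgroup.zpowers y) :
    u ∈ Subgroup.normalizer ((Subgroup.zpowers y : Subgroup G) : Set G) := by
  have hle : (Subgroup.zpowers y).map (MulAut.conj u).toMonoidHom ≤ Subgroup.zpowers y := by
    rw [MonoidHom.map_zpowers, Subgroup.zpowers_le]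
    simpa using h
  have heq : (Subgroup.zpowers y).map (MulAut.conj u).toMonoidHom = Subgroup.zpowers y :=
    SetLike.ext' (Set.eq_of_subset_of_ncard_le hle (by
      rw [← Nat.card_coe_set_eq, ← Nat.card_coe_set_eq]
      exact le_of_eq (Subgroup.card_map_of_injective (MulEquiv.injective _)).symm))
  rw [Subgroup.mem_normalizer_iff]
  intro z
  constructor
  · intro hz
    rw [← heq]
    exact ⟨z, hz, by simp⟩
  · intro hz
    rw [← heq] at hz
    obtain ⟨z', hz', e⟩ := hz
    obtain rfl : z' = z := (MulAut.conj u).injective (by simpa using e)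
    exact hz'

theorem OK.x_comm_T (h : N.OK) {r : Row} (hr : (r : ℕ) ∈ N.fixed) : Commute (T r) N.toCert.x :=
  (T_comm_iff r _).2 ((h.toOK.fix_iff r).2 hr)

theorem OK.w_comm_T (h : N.OK) {r : Row} (hr : (r : ℕ) ∈ N.fixed) : Commute (T r) N.w :=
  (T_comm_iff r _).2 (h.w_rel.2.2 r hr)

theorem OK.comm_F_Sg (h : N.OK) {u v : Cfsg.Spor.Fi22} (hu : u ∈ F N) (hv : v ∈ Sg N) : u * v = v * u := by
  have hle : F N ≤ Subgroup.centralizer (T '' {r : Row | (r : ℕ) ∈ N.fixed}) := by
    refine sup_le ((Subgroup.zpowers_le).2 ?_) ((Subgroup.zpowers_le).2 ?_) <;>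
      refine Subgroup.mem_centralizer_iff.2 ?_ <;> rintro _ ⟨r, hr, rfl⟩
    · exact (h.x_comm_T hr).eq
    · exact (h.w_comm_T hr).eq
  have hle' : Sg N ≤ Subgroup.centralizer (F N : Set Cfsg.Spor.Fi22) := by
    rw [Subgroup.closure_le]
    intro z hz
    exact Subgroup.mem_centralizer_iff.2 fun y hy => ((Subgroup.mem_centralizer_iff.1 (hle hy)) z hz).symm
  exact Subgroup.mem_centralizer_iff.1 (hle' hv) u hu

theorem OK.w_conj (h : N.OK) (i k : ℕ) :
    N.w ^ i * N.toCert.x ^ k * (N.w ^ i)⁻¹ = N.toCert.x ^ (N.g ^ i * k) := by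
  induction i generalizing k with
  | zero => simp
  | succ i ih =>
    have hw : N.w * N.toCert.x ^ k * N.w⁻¹ = N.toCert.x ^ (N.g * k) := by
      rw [← conj_pow, mul_inv_eq_iff_eq_mul.2 h.w_rel.1, ← pow_mul]
    rw [pow_succ, mul_inv_rev, show N.w ^ i * N.w * N.toCert.x ^ k * (N.w⁻¹ * (N.w ^ i)⁻¹) =
      N.w ^ i * (N.w * N.toCert.x ^ k * N.w⁻¹) * (N.w ^ i)⁻¹ by group, hw, ih, pow_succ, mul_assoc]

theorem OK.w_pow_comm (h : N.OK) {i k : ℕ} (hi : i < N.m) (hk : ¬ N.p ∣ k)
    (he : Commute (N.w ^ i) (N.toCert.x ^ k)) : i = 0 := by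
  haveI := Fact.mk h.prime
  have h1 : N.toCert.x ^ (N.g ^ i * k) = N.toCert.x ^ k := by
    rw [← h.w_conj, he.eq, mul_inv_cancel_right]
  rw [pow_eq_pow_iff_modEq, h.orderOf_x] at h1
  have h2 : N.g ^ i * k % N.p = 1 * k % N.p := by rw [one_mul]; exact h1
  have hcop : Nat.Coprime N.p k := (Nat.Prime.coprime_iff_not_dvd h.prime).2 hk
  have h3 : N.g ^ i % N.p = 1 := by
    have : N.g ^ i ≡ 1 [MOD N.p] := Nat.ModEq.cancel_right_of_coprime hcop h2
    rw [this, Nat.mod_eq_of_lt h.prime.one_lt]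
  have h' := h.mult
  simp only [multOK, Bool.and_eq_true, List.all_eq_true, List.mem_range] at h'
  have := h'.2.1 i hi
  simp only [h3, Nat.beq_refl, Bool.not_true, Bool.or_false, Nat.beq_eq] at this
  exact this

theorem OK.m_pos (h : N.OK) : 1 < N.m := by
  have h' := h.mult
  simp only [multOK, Bool.and_eq_true, Nat.blt_eq] at h'
  exact h'.1

theorem OK.w_mem_normalizer (h : N.OK) :
    N.w ∈ Subgroup.normalizer ((X N : Subgroup Cfsg.Spor.Fi22) : Set Cfsg.Spor.Fi22) := by
  have := finite_fi22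
  refine mem_normalizer_zpowers ?_
  rw [mul_inv_eq_iff_eq_mul.2 h.w_rel.1]
  exact pow_mem (Subgroup.mem_zpowers _) _

theorem OK.F_le (h : N.OK) : F N ≤ Subgroup.normalizer ((X N : Subgroup Cfsg.Spor.Fi22) : Set Cfsg.Spor.Fi22) :=
  sup_le Subgroup.le_normalizer ((Subgroup.zpowers_le).2 h.w_mem_normalizer)

theorem OK.mem_F (h : N.OK) {u : Cfsg.Spor.Fi22} (hu : u ∈ F N) :
    ∃ i k, i < N.m ∧ k < N.p ∧ u = N.toCert.x ^ k * N.w ^ i := by
  classical
  have := finite_fi22
  have hm : 0 < N.m := by have := h.m_pos; omega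
  rw [F, ← SetLike.mem_coe,
    Subgroup.coe_mul_of_right_le_normalizer_left _ _ ((Subgroup.zpowers_le).2 h.w_mem_normalizer)] at hu
  obtain ⟨y, hy, z, hz, rfl⟩ := hu
  obtain ⟨k, hk, rfl⟩ := Finset.mem_image.1 (mem_zpowers_iff_mem_range_orderOf.1 hy)
  obtain ⟨i, -, rfl⟩ := Finset.mem_image.1 (mem_zpowers_iff_mem_range_orderOf.1 hz)
  rw [Finset.mem_range, h.orderOf_x] at hk
  exact ⟨i % N.m, k, Nat.mod_lt _ hm, hk, by rw [← pow_eq_pow_mod _ h.w_rel.2.1]⟩

theorem OK.card_F (h : N.OK) : Nat.card (F N) = N.p * N.m := by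
  have := finite_fi22
  let f : Fin N.p × Fin N.m → F N := fun q => ⟨N.toCert.x ^ (q.1 : ℕ) * N.w ^ (q.2 : ℕ),
    mul_mem (pow_mem (Subgroup.mem_sup_left (Subgroup.mem_zpowers _)) _)
      (pow_mem (Subgroup.mem_sup_right (Subgroup.mem_zpowers _)) _)⟩
  have hwx : ∀ {i : ℕ}, i < N.m → ∀ {z : Cfsg.Spor.Fi22}, z ∈ X N → N.w ^ i = z → i = 0 := fun {i} hi {z} hz e => by
    refine h.w_pow_comm hi (k := 1) (fun d => h.prime.ne_one (Nat.dvd_one.1 d)) ?_
    rw [e, pow_one]
    obtain ⟨n, rfl⟩ := hz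
    exact (Commute.refl _).zpow_left n
  have hf : Function.Bijective f := by
    refine ⟨?_, fun u => ?_⟩
    · rintro ⟨k, i⟩ ⟨k', i'⟩ e
      have e' : N.toCert.x ^ (k : ℕ) * N.w ^ (i : ℕ) = N.toCert.x ^ (k' : ℕ) * N.w ^ (i' : ℕ) :=
        congrArg Subtype.val e
      have hx : ∀ j, N.toCert.x ^ j ∈ X N := fun j => pow_mem (Subgroup.mem_zpowers _) _
      have hi : (i : ℕ) = i' := by
        rcases le_total (i : ℕ) i' with hle | hle
        · have e3 : N.w ^ ((i' : ℕ) - i) = (N.toCert.x ^ (k' : ℕ))⁻¹ * N.toCert.x ^ (k : ℕ) := by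
            rw [eq_inv_mul_iff_mul_eq, pow_sub _ hle, ← mul_assoc, ← e', mul_inv_cancel_right]
          have := hwx (by omega) (Subgroup.mul_mem (X N) (Subgroup.inv_mem (X N) (hx _)) (hx _)) e3
          omega
        · have e3 : N.w ^ ((i : ℕ) - i') = (N.toCert.x ^ (k : ℕ))⁻¹ * N.toCert.x ^ (k' : ℕ) := by
            rw [eq_inv_mul_iff_mul_eq, pow_sub _ hle, ← mul_assoc, e', mul_inv_cancel_right]
          have := hwx (by omega) (Subgroup.mul_mem (X N) (Subgroup.inv_mem (X N) (hx _)) (hx _)) e3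
          omega
      rw [hi, mul_left_inj, pow_eq_pow_iff_modEq, h.orderOf_x] at e'
      exact Prod.ext (Fin.ext (by
        rw [Nat.ModEq, Nat.mod_eq_of_lt k.2, Nat.mod_eq_of_lt k'.2] at e'
        exact e')) (Fin.ext hi)
    · obtain ⟨i, k, hi, hk, e⟩ := h.mem_F u.2
      exact ⟨(⟨k, hk⟩, ⟨i, hi⟩), Subtype.ext e.symm⟩
  rw [← Nat.card_congr (Equiv.ofBijective f hf), Nat.card_prod, Nat.card_fin, Nat.card_fin]

theorem OK.F_inf_centralizer (h : N.OK) :
    F N ⊓ Subgroup.centralizer ((X N : Subgroup Cfsg.Spor.Fi22) : Set Cfsg.Spor.Fi22) = X N := by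
  have := finite_fi22
  refine le_antisymm (fun u hu => ?_) (le_inf le_sup_left fun y hy => Subgroup.mem_centralizer_iff.2 ?_)
  · obtain ⟨i, k, hi, hk, rfl⟩ := h.mem_F hu.1
    have hc : Commute (N.toCert.x ^ k * N.w ^ i) N.toCert.x :=
      (Subgroup.mem_centralizer_iff.1 hu.2 _ (Subgroup.mem_zpowers _)).symm
    have hi0 : i = 0 := h.w_pow_comm hi (k := 1) (fun d => h.prime.ne_one (Nat.dvd_one.1 d)) (by
      rw [pow_one]
      have h2 := ((Commute.refl N.toCert.x).pow_left k).inv_left.mul_left hc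
      rwa [inv_mul_cancel_left] at h2)
    rw [hi0, pow_zero, mul_one]
    exact pow_mem (Subgroup.mem_zpowers _) _
  · rintro z ⟨b, rfl⟩
    obtain ⟨c, rfl⟩ := hy
    exact ((Commute.refl N.toCert.x).zpow_zpow b c).eq

theorem OK.F_inf_Sg (h : N.OK) : F N ⊓ Sg N = ⊥ := by
  classical
  have := finite_fi22
  rw [eq_bot_iff]
  intro u hu
  have hc : ∀ y ∈ F N, y * u = u * y := fun y hy => h.comm_F_Sg hy hu.2
  have hX : u ∈ X N := by
    rw [← h.F_inf_centralizer]
    exact ⟨hu.1, Subgroup.mem_centralizer_iff.2 fun y hy => hc y (Subgroup.mem_sup_left hy)⟩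
  obtain ⟨k, hk, e⟩ := Finset.mem_image.1 (mem_zpowers_iff_mem_range_orderOf.1 hX)
  rw [Finset.mem_range, h.orderOf_x] at hk
  rw [Subgroup.mem_bot, ← e]
  by_cases hk0 : k = 0
  · rw [hk0, pow_zero]
  · exfalso
    have h1 : Commute (N.w ^ 1) (N.toCert.x ^ k) := by
      rw [pow_one, e]; exact hc _ (Subgroup.mem_sup_right (Subgroup.mem_zpowers _))
    exact absurd (h.w_pow_comm h.m_pos (fun d => hk0 (Nat.eq_zero_of_dvd_of_lt d hk)) h1) one_ne_zero

theorem OK.Sg_le (h : N.OK) : Sg N ≤ Subgroup.normalizer ((X N : Subgroup Cfsg.Spor.Fi22) : Set Cfsg.Spor.Fi22) := by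
  have := finite_fi22
  rw [Subgroup.closure_le]
  rintro _ ⟨r, hr, rfl⟩
  refine mem_normalizer_zpowers ?_
  rw [(h.x_comm_T hr).eq, mul_inv_cancel_right]
  exact Subgroup.mem_zpowers _

theorem OK.card_sup (h : N.OK) : Nat.card ↥(F N ⊔ Sg N) = Nat.card (F N) * Nat.card (Sg N) := by
  have hn : Sg N ≤ Subgroup.normalizer ((F N : Subgroup Cfsg.Spor.Fi22) : Set Cfsg.Spor.Fi22) := fun v hv =>
    Subgroup.mem_normalizer_iff.2 fun u => by
      constructor
      · intro hu; rwa [← h.comm_F_Sg hu hv, mul_inv_cancel_right]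
      · intro hu
        have h2 := h.comm_F_Sg hu hv
        rw [inv_mul_cancel_right] at h2
        rw [mul_left_cancel h2]; exact hu
  let f : F N × Sg N → ↥(F N ⊔ Sg N) := fun q =>
    ⟨q.1 * q.2, mul_mem (Subgroup.mem_sup_left q.1.2) (Subgroup.mem_sup_right q.2.2)⟩
  have hf : Function.Bijective f := by
    refine ⟨fun p q e => ?_, fun u => ?_⟩
    · have e' : (p.1 : Cfsg.Spor.Fi22) * p.2 = q.1 * q.2 := congrArg Subtype.val e
      have hmem : (q.1 : Cfsg.Spor.Fi22)⁻¹ * p.1 ∈ F N ⊓ Sg N :=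
        ⟨(F N).mul_mem ((F N).inv_mem q.1.2) p.1.2, by
        have : (q.1 : Cfsg.Spor.Fi22)⁻¹ * p.1 = q.2 * (p.2 : Cfsg.Spor.Fi22)⁻¹ := by
          rw [eq_mul_inv_iff_mul_eq, mul_assoc, e', inv_mul_cancel_left]
        rw [this]; exact (Sg N).mul_mem q.2.2 ((Sg N).inv_mem p.2.2)⟩
      rw [h.F_inf_Sg, Subgroup.mem_bot, inv_mul_eq_one] at hmem
      rw [← hmem, mul_right_inj] at e'
      exact Prod.ext (Subtype.ext hmem.symm) (Subtype.ext e')
    · have hu := u.2
      rw [← SetLike.mem_coe, Subgroup.coe_mul_of_right_le_normalizer_left _ _ hn] at hu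
      obtain ⟨y, hy, z, hz, e⟩ := hu
      exact ⟨(⟨y, hy⟩, ⟨z, hz⟩), Subtype.ext e⟩
  rw [← Nat.card_congr (Equiv.ofBijective f hf), Nat.card_prod]

theorem OK.perm_fixed (h : N.OK) {u : Cfsg.Spor.Fi22}
    (hu : u ∈ Subgroup.normalizer ((X N : Subgroup Cfsg.Spor.Fi22) : Set Cfsg.Spor.Fi22)) {r : Row}
    (hr : (r : ℕ) ∈ N.fixed) : ((act u r : Row) : ℕ) ∈ N.fixed := by
  refine (h.toOK.fix_iff _).1 ?_
  obtain ⟨e, he, he0, heq⟩ := h.exists_exponent (inv_mem hu)
  rw [inv_inv] at heq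
  have h0 : ∀ n : ℕ, act (N.toCert.x ^ n) r = r := fun n => by
    induction n with
    | zero => rw [pow_zero, map_one]; rfl
    | succ n ih => rw [pow_succ, map_mul, Equiv.Perm.mul_apply, (h.toOK.fix_iff r).2 hr, ih]
  rw [← Equiv.Perm.mul_apply, ← map_mul,
    show N.toCert.x * u = u * (u⁻¹ * N.toCert.x * u) by group, heq, map_mul, Equiv.Perm.mul_apply, h0]

theorem OK.moves_iff (h : N.OK) {e : ℕ} {u : Cfsg.Spor.Fi22} (hfix : ∀ d : Row, (d : ℕ) ∈ N.seeds → act u d = d)
    (he : u * N.toCert.x * u⁻¹ = N.toCert.x ^ e) : N.toCert.Moves e (act u) :=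
  ⟨by rw [← map_mul, ← map_mul, ← he, inv_mul_cancel_right], hfix⟩

theorem OK.mem_tuples (h : N.OK) {u : Cfsg.Spor.Fi22}
    (hu : u ∈ Subgroup.normalizer ((X N : Subgroup Cfsg.Spor.Fi22) : Set Cfsg.Spor.Fi22)) :
    (N.seeds.map fun d => if hd : d < 3510 then ((act u ⟨d, hd⟩ : Row) : ℕ) else d) ∈
      N.tuples N.seeds.length := by
  set f : ℕ → ℕ := fun d => if hd : d < 3510 then ((act u ⟨d, hd⟩ : Row) : ℕ) else d
  have key : ∀ k, k ≤ N.seeds.length → (N.seeds.take k).map f ∈ N.tuples k := by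
    intro k
    induction k with
    | zero => intro _; exact List.mem_singleton.2 rfl
    | succ k ih =>
      intro hk
      have hk' : k < N.seeds.length := hk
      show _ ∈ N.ext k (N.tuples k)
      refine List.mem_flatMap.2 ⟨_, ih hk'.le, List.mem_map.2 ⟨f (N.seeds[k]), List.mem_filter.2 ⟨?_, ?_⟩, ?_⟩⟩
      · obtain ⟨hf, hlt⟩ := h.toOK.seed_mem (List.getElem_mem hk')
        simp only [f, dif_pos hlt]
        exact h.perm_fixed hu hf
      · refine List.all_eq_true.2 fun j hj => ?_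
        rw [List.mem_range] at hj
        have hlk := (h.toOK.seed_mem (List.getElem_mem hk')).2
        have hlj := (h.toOK.seed_mem (List.getElem_mem (hj.trans hk'))).2
        rw [List.getD_eq_getElem _ _ (by rw [List.length_map, List.length_take]; omega), List.getElem_map,
          List.getElem_take, List.getD_eq_getElem _ _ (hj.trans hk'), List.getD_eq_getElem _ _ hk']
        simp only [f, dif_pos hlk, dif_pos hlj, Bool.and_eq_true, beq_iff_eq, Bool.not_eq_true']
        refine ⟨?_, Bool.eq_false_iff.2 fun e => ?_⟩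
        · rw [Bool.eq_iff_iff, comB_iff]
          exact (com_act u).trans (comB_iff ⟨_, hlj⟩ ⟨_, hlk⟩).symm
        · have e' := congrArg Fin.val ((act u).injective (Fin.ext (Nat.eq_of_beq_eq_true e)))
          have hnd := h.tuple
          rw [tupleOK, Bool.and_eq_true, decide_eq_true_eq] at hnd
          have := (List.Nodup.getElem_inj_iff hnd.2).1 e'
          omega
      · rw [List.take_succ_eq_append_getElem hk', List.map_append, List.map_singleton]
  simpa using key _ le_rfl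

/-- The bound on the normaliser. -/
theorem OK.card_normalizer_le (h : N.OK) {c : ℕ} (hc : Nat.card (N.toCert.Elts 1) ≤ c)
    (hbad : ∀ e ∈ N.bad, Nat.card (N.toCert.Elts e) = 0) :
    Nat.card ↥(Subgroup.normalizer ((X N : Subgroup Cfsg.Spor.Fi22) : Set Cfsg.Spor.Fi22)) ≤
      N.nTuples * (N.m * c) := by
  classical
  have := finite_fi22
  set Nr := Subgroup.normalizer ((X N : Subgroup Cfsg.Spor.Fi22) : Set Cfsg.Spor.Fi22)
  let Stab : Type := {u : Cfsg.Spor.Fi22 // u ∈ Nr ∧ ∀ d : Row, (d : ℕ) ∈ N.seeds → act u d = d}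
  have hstab : Nat.card Stab ≤ N.m * c := by
    have hkey : ∀ u : Stab, ∃ i : Fin N.m, ∃ v : N.toCert.Elts 1, u.1 = N.w ^ (i : ℕ) * v.1 := by
      rintro ⟨u, hu, hfix⟩
      obtain ⟨e, he, he0, heq⟩ := h.exists_exponent hu
      have hE := List.all_eq_true.1 h.exp e (List.mem_range.2 he)
      simp only [Bool.or_eq_true, Nat.beq_eq, List.any_eq_true, List.mem_range] at hE
      rcases hE with hE | ⟨i, hi, rep, hrep, hE⟩
      · exact absurd hE he0
      set v := (N.w ^ i)⁻¹ * u
      have hvfix : ∀ d : Row, (d : ℕ) ∈ N.seeds → act v d = d := fun d hd => by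
        have hwd : ∀ n : ℕ, act (N.w ^ n) d = d := fun n => by
          induction n with
          | zero => rw [pow_zero, map_one]; rfl
          | succ n ih =>
            rw [pow_succ, map_mul, Equiv.Perm.mul_apply, h.w_rel.2.2 d (h.toOK.seed_mem hd).1, ih]
        rw [map_mul, Equiv.Perm.mul_apply, hfix d hd, map_inv, Equiv.Perm.inv_eq_iff_eq, hwd]
      have hv : v * N.toCert.x * v⁻¹ = N.toCert.x ^ rep := by
        have h2 := h.w_conj i rep
        rw [pow_eq_pow_mod (N.g ^ i * rep) h.toOK.pow_eq_one, hE, ← heq] at h2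
        calc v * N.toCert.x * v⁻¹ = (N.w ^ i)⁻¹ * (u * N.toCert.x * u⁻¹) * N.w ^ i := by simp only [v]; group
          _ = _ := by rw [← h2]; group
      rcases List.mem_cons.1 hrep with rfl | hb
      · exact ⟨⟨i, hi⟩, ⟨v, h.moves_iff hvfix hv⟩, (mul_inv_cancel_left _ _).symm⟩
      · haveI : Nonempty (N.toCert.Elts rep) := ⟨⟨v, h.moves_iff hvfix hv⟩⟩
        exact absurd (hbad rep hb) (Nat.card_pos.ne')
    choose i v hiv using hkey
    refine le_trans (Nat.card_le_card_of_injective (fun u => (i u, v u)) fun u u' e => ?_)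
      (by rw [Nat.card_prod, Nat.card_fin]; exact Nat.mul_le_mul_left _ hc)
    rw [Prod.mk.injEq] at e
    exact Subtype.ext (by rw [hiv, hiv, e.1, e.2])
  set f : ℕ → Nr → ℕ := fun d u => if hd : d < 3510 then ((act (u : Cfsg.Spor.Fi22) ⟨d, hd⟩ : Row) : ℕ) else d
  set V := (N.tuples N.seeds.length).toFinset
  have hmem : ∀ u : Nr, (N.seeds.map fun d => f d u) ∈ V := fun u => List.mem_toFinset.2 (h.mem_tuples u.2)
  let img : Nr → V := fun u => ⟨_, hmem u⟩
  let rep : V → Nr := fun v => if hv : ∃ u, img u = v then hv.choose else 1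
  have hrep : ∀ u, img (rep (img u)) = img u := fun u => by
    have hv : ∃ u', img u' = img u := ⟨u, rfl⟩
    simp only [rep, dif_pos hv]
    exact hv.choose_spec
  have hfix : ∀ u : Nr, ∀ d : Row, (d : ℕ) ∈ N.seeds →
      act ((rep (img u))⁻¹ * u : Nr).1 d = d := fun u d hd => by
    have e := List.map_inj_left.1 (congrArg Subtype.val (hrep u)) _ hd
    have hlt : (d : ℕ) < 3510 := d.2
    simp only [f, dif_pos hlt] at e
    rw [Subgroup.coe_mul, Subgroup.coe_inv, map_mul, map_inv, Equiv.Perm.mul_apply, Equiv.Perm.inv_eq_iff_eq]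
    exact (Fin.ext e).symm
  have hV : Nat.card V ≤ N.nTuples := by
    have ht := h.tuple
    rw [tupleOK, Bool.and_eq_true, Nat.ble_eq] at ht
    rw [Nat.card_eq_fintype_card, Fintype.card_coe]
    exact (List.toFinset_card_le _).trans ht.1
  let g : Nr → V × Stab := fun u => (img u, ⟨_, ((rep (img u))⁻¹ * u).2, hfix u⟩)
  have hg : Function.Injective g := fun u u' e => by
    rw [Prod.mk.injEq] at e
    have e2 : ((rep (img u))⁻¹ * u : Nr) = (rep (img u'))⁻¹ * u' :=
      Subtype.ext (congrArg (fun z : Stab => z.1) e.2)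
    rw [e.1] at e2
    exact mul_left_cancel e2
  refine le_trans (Nat.card_le_card_of_injective g hg) ?_
  rw [Nat.card_prod]
  exact Nat.mul_le_mul hV hstab

theorem OK.moves_of_pow (h : N.OK) (k : ℕ) : N.toCert.Moves 1 (act (N.toCert.x ^ k)) := by
  refine ⟨by rw [pow_one, ← map_mul, ← map_mul, ← pow_succ, ← pow_succ'], fun d hd => ?_⟩
  induction k with
  | zero => rw [pow_zero, map_one]; rfl
  | succ k ih => rw [pow_succ, map_mul, Equiv.Perm.mul_apply, (h.toOK.fix_iff d).2 (h.toOK.seed_mem hd).1, ih]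

/-- When the centraliser of the seeds is as small as possible it is the cyclic subgroup. -/
theorem OK.elts_eq (h : N.OK) (hc : Nat.card (N.toCert.Elts 1) ≤ N.p) {u : Cfsg.Spor.Fi22}
    (hu : N.toCert.Moves 1 (act u)) : u ∈ X N := by
  classical
  have := finite_fi22
  let f : Fin N.p → N.toCert.Elts 1 := fun k => ⟨N.toCert.x ^ (k : ℕ), h.moves_of_pow k⟩
  have hf : Function.Injective f := fun k l e => by
    have e' : N.toCert.x ^ (k : ℕ) = N.toCert.x ^ (l : ℕ) := congrArg Subtype.val e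
    rw [pow_eq_pow_iff_modEq, h.orderOf_x, Nat.ModEq, Nat.mod_eq_of_lt k.2, Nat.mod_eq_of_lt l.2] at e'
    exact Fin.ext e'
  obtain ⟨k, hk⟩ := ((Nat.bijective_iff_injective_and_card f).2 ⟨hf, le_antisymm
    (Nat.card_le_card_of_injective f hf) (by rwa [Nat.card_fin])⟩).2 ⟨u, hu⟩
  rw [show u = N.toCert.x ^ (k : ℕ) from (congrArg Subtype.val hk).symm]
  exact pow_mem (Subgroup.mem_zpowers _) _

end NCert

end CfsgLib.Recog.FiNorm
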