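import Cfsg.Agent.Lib.Recog.FiNorm.Normalizer

set_option autoImplicit false
set_option maxRecDepth 20000

/-!
The transpositions centralising the element generate a symmetric group (owner: helper15).
-/

namespace CfsgLib.Recog.FiNorm

open Cfsg CfsgLib.ThreeTrans.CosetIndex
open CfsgLib.Recog.SporBound.Fi22Group (a act card_and_faithful finite_fi22)
open CfsgLib.Recog.SporBound.Fi22Aut

namespace NCert

variable (N : NCert)

/-- The row of a pair. -/
def pairRow (lab : List ℕ) {n : ℕ} (i j : Fin n) : ℕ := lab.getD (n * i + j) 0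

/-- The labelling by pairs is right. -/
noncomputable def labOK (lab : List ℕ) (n : ℕ) : Bool :=
  Nat.ble 3 n && (N.fixed.all (fun r => decide (∃ i j : Fin n, i ≠ j ∧ pairRow lab i j = r)) &&
    ((List.finRange n).all fun i => (List.finRange n).all fun j => decide (i = j) ||
      (N.fixed.contains (pairRow lab i j) && Nat.beq (pairRow lab i j) (pairRow lab j i) &&
        (List.finRange n).all fun k => (List.finRange n).all fun l => decide (k = l) ||
          (Nat.beq (FiHat3510.data.trace (pairRow lab k l) (pal (pairRow lab i j)))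
              (pairRow lab (Equiv.swap i j k) (Equiv.swap i j l)) &&
            (!Nat.beq (pairRow lab k l) (pairRow lab i j) ||
              decide ((k = i ∧ l = j) ∨ (k = j ∧ l = i)))))))

variable {N}

theorem OK.fixed_lt (h : N.OK) {r : ℕ} (hr : r ∈ N.fixed) : r < 3510 := by
  have h' := h.toOK.small
  simp only [Cert.smallOK, Bool.and_eq_true, List.all_eq_true, Nat.blt_eq] at h'
  exact h'.2.2.2.1 r hr

/-- The symmetric group. -/
theorem OK.sym_equiv (h : N.OK) (hc : Nat.card (N.toCert.Elts 1) ≤ N.p) {lab : List ℕ} {n : ℕ}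
    (hlab : N.labOK lab n = true) : Nonempty (↥(Sg N) ≃* Equiv.Perm (Fin n)) := by
  classical
  have := finite_fi22
  simp only [labOK, Bool.and_eq_true, Nat.ble_eq, List.all_eq_true, decide_eq_true_eq, Bool.or_eq_true,
    List.mem_finRange, forall_const, Nat.beq_eq, Bool.not_eq_true', List.contains_iff_mem] at hlab
  obtain ⟨hn, hcover, hpair⟩ := hlab
  have hmem : ∀ i j : Fin n, i ≠ j → pairRow lab i j ∈ N.fixed := fun i j hij =>
    ((hpair i j).resolve_left hij).1.1
  have hsymm : ∀ i j : Fin n, i ≠ j → pairRow lab i j = pairRow lab j i := fun i j hij =>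
    ((hpair i j).resolve_left hij).1.2
  have hinj : ∀ i j k l : Fin n, i ≠ j → k ≠ l → pairRow lab k l = pairRow lab i j →
      (k = i ∧ l = j) ∨ (k = j ∧ l = i) := fun i j k l hij hkl e => by
    rcases ((((hpair i j).resolve_left hij).2 k l).resolve_left hkl).2 with h' | h'
    · rw [show Nat.beq (pairRow lab k l) (pairRow lab i j) = true by rw [Nat.beq_eq]; exact e] at h'
      exact absurd h' (by simp)
    · exact h'
  let row : ∀ i j : Fin n, i ≠ j → Row := fun i j hij => ⟨pairRow lab i j, h.fixed_lt (hmem i j hij)⟩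
  -- the pairs of a permutation of rows and a permutation of the letters
  let P : Subgroup (Cfsg.Spor.Fi22 × Equiv.Perm (Fin n)) :=
    { carrier := {q | ∀ (i j : Fin n) (hij : i ≠ j),
        act q.1 (row i j hij) = row (q.2 i) (q.2 j) (q.2.injective.ne hij)}
      one_mem' := fun i j hij => by simp only [Prod.fst_one, Prod.snd_one, map_one]; rfl
      mul_mem' := fun {q q'} hq hq' i j hij => by
        simp only [Prod.fst_mul, Prod.snd_mul, map_mul, Equiv.Perm.mul_apply]
        rw [hq' i j hij, hq _ _ (q'.2.injective.ne hij)]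
      inv_mem' := fun {q} hq i j hij => by
        simp only [Prod.fst_inv, Prod.snd_inv, map_inv, Equiv.Perm.inv_eq_iff_eq]
        rw [hq _ _ ((q.2⁻¹ : Equiv.Perm (Fin n)).injective.ne hij)]
        exact Fin.ext (by simp [row]) }
  have hswap : ∀ i j : Fin n, ∀ hij : i ≠ j, (T (row i j hij), Equiv.swap i j) ∈ P := fun i j hij k l hkl => by
    have h' := ((((hpair i j).resolve_left hij).2 k l).resolve_left hkl).1
    exact Fin.ext ((trace_pal (row i j hij) (row k l hkl)).symm.trans h')
  have hTmem : ∀ i j : Fin n, ∀ hij : i ≠ j, T (row i j hij) ∈ Sg N := fun i j hij =>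
    Subgroup.subset_closure ⟨_, hmem i j hij, rfl⟩
  have hex : ∀ s : Sg N, ∃! σ : Equiv.Perm (Fin n), (s.1, σ) ∈ P := by
    intro s
    have hsub : Sg N ≤ P.map (MonoidHom.fst _ _) := by
      rw [Subgroup.closure_le]
      rintro _ ⟨r, hr, rfl⟩
      obtain ⟨i, j, hij, e⟩ := hcover r hr
      obtain rfl : row i j hij = r := Fin.ext e
      exact ⟨_, hswap i j hij, rfl⟩
    obtain ⟨⟨g, σ⟩, hσ, e⟩ := hsub s.2
    obtain rfl : g = s.1 := e
    refine ⟨σ, hσ, fun τ hτ => ?_⟩
    have hρ : ∀ k l : Fin n, k ≠ l →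
        (τ k = σ k ∧ τ l = σ l) ∨ (τ k = σ l ∧ τ l = σ k) := fun k l hkl =>
      hinj _ _ _ _ (σ.injective.ne hkl) (τ.injective.ne hkl)
        (congrArg Fin.val ((hτ k l hkl).symm.trans (hσ k l hkl)))
    refine Equiv.ext fun k => ?_
    obtain ⟨l, l', hkl, hkl', hll⟩ : ∃ l l' : Fin n, k ≠ l ∧ k ≠ l' ∧ l ≠ l' := by
      obtain ⟨l, hl⟩ := Fintype.exists_ne_of_one_lt_card (by rw [Fintype.card_fin]; omega) k
      obtain ⟨l', hl'⟩ : ∃ l' : Fin n, l' ∉ ({k, l} : Finset (Fin n)) := by
        by_contra hcon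
        push Not at hcon
        have := (Finset.card_le_card (fun x _ => hcon x : (Finset.univ : Finset (Fin n)) ⊆ {k, l})).trans
          Finset.card_le_two
        rw [Finset.card_univ, Fintype.card_fin] at this
        omega
      simp only [Finset.mem_insert, Finset.mem_singleton, not_or] at hl'
      exact ⟨l, l', hl.symm, Ne.symm hl'.1, Ne.symm hl'.2⟩
    rcases hρ k l hkl with h1 | h1
    · exact h1.1
    rcases hρ k l' hkl' with h2 | h2
    · exact h2.1
    · exact absurd (σ.injective (h1.1.symm.trans h2.1)) hll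
  choose f hf huniq using hex
  let F' : ↥(Sg N) →* Equiv.Perm (Fin n) :=
    MonoidHom.mk' f fun s t => (huniq (s * t) _ (P.mul_mem (hf s) (hf t))).symm
  refine ⟨MulEquiv.ofBijective F' ⟨?_, ?_⟩⟩
  · rw [injective_iff_map_eq_one]
    intro s hs
    have hP := hf s
    rw [show f s = 1 from hs] at hP
    have hfix : ∀ r : Row, (r : ℕ) ∈ N.fixed → act s.1 r = r := fun r hr => by
      obtain ⟨i, j, hij, e⟩ := hcover r hr
      obtain rfl : row i j hij = r := Fin.ext e
      exact (hP i j hij).trans (Fin.ext rfl)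
    have hcomm : s.1 * N.toCert.x = N.toCert.x * s.1 :=
      (h.comm_F_Sg (Subgroup.mem_sup_left (Subgroup.mem_zpowers _)) s.2).symm
    have hX : s.1 ∈ X N := h.elts_eq hc
      ⟨by rw [pow_one, ← map_mul, ← map_mul, hcomm], fun d hd => hfix d (h.toOK.seed_mem hd).1⟩
    have : s.1 ∈ F N ⊓ Sg N := ⟨Subgroup.mem_sup_left hX, s.2⟩
    rw [h.F_inf_Sg, Subgroup.mem_bot] at this
    exact Subtype.ext this
  · rw [← MonoidHom.range_eq_top, eq_top_iff, ← Equiv.Perm.closure_isSwap, Subgroup.closure_le]
    rintro _ ⟨i, j, hij, rfl⟩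
    exact ⟨⟨T (row i j hij), hTmem i j hij⟩, (huniq _ _ (hswap i j hij)).symm⟩

end NCert

end CfsgLib.Recog.FiNorm
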